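import Cfsg.Agent.SM.Ti.Rows
import Cfsg.Agent.H2.Ppd.Main
import Cfsg.Agent.H948.Ppd.PmLevi
import Cfsg.Agent.H462.Ppd.FieldBase

/-!
# S3570, tight cores: tools for the rows (helper69, `notes/SM/ti.md`)

* numbers : `jm`, `not_nat`, `j_one`, `th_dvd_pred`, `le_th`;
* `cb` : `|W : W_J| d ^ s ≤ 2 n`;  `two`, `par`, `levi_list`, `min_word`, `moved_word` : ranks of Levi modules;  `sym`, `sym_le` : `w₀` normalises `W_J`;
* `lift` : the datum of the socle lifts to the core;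
* `dvd_of_FD` : primes of `|Aut T|` which divide `|T|`.
-/

set_option autoImplicit false
set_option linter.unusedSectionVars false

namespace Cfsg.Agent.SM.Ti.Tool

open CoxeterSystem Cfsg.Agent.ChevalleyStructure.CoxeterGeom Cfsg.Agent.Tits.Roots Cfsg.Agent.Tits.Core
  Cfsg.Agent.Tits.Exchange Cfsg.Agent.Nodes.Reps Cfsg.Agent.Nodes.BNOf Cfsg.Agent.Nodes.StabComb
  Cfsg.Agent.Nodes.Bruhat Cfsg.Agent.Nodes.OppDec Cfsg.Agent.Nodes.LeviDec Cfsg.Agent.KFacts.RgdOpp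
  Cfsg.Agent.Omega.CR Cfsg.Agent.Omega.FOne.Lift.Sd Cfsg.Agent.H911 Cfsg.Agent.H905.Md
open Cfsg Cfsg.Geo
open Cfsg.Agent.H915.LD
open Cfsg.Agent.H905.DC (co fire cf co_mul_simple co_mul_left co_wordProd)
open Cfsg.Agent.H650.Ppd (Nd)
open Cfsg.Agent.H911.SLTwo (U Lo hh ww)
open Cfsg.Agent.H875.Fn (SS)
open Cfsg.Agent.H117.Levi (lrk)
open Cfsg.Agent.Nodes.RGDLift Cfsg.Agent.Nodes.RGDLib
open scoped MatrixGroups Matrix

universe u v

/-! ### numbers -/

theorem jm {Q q j m h : ℕ} (hQ : 1 < Q) (h1 : Q ^ j = q) (h2 : Q ^ m = q ^ h) : m = j * h := by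
  rw [← h1, ← pow_mul] at h2
  exact Nat.pow_right_injective hQ h2

theorem th_dvd_pred {Q j : ℕ} (hQ : 1 ≤ Q) : th Q j ∣ Q ^ j - 1 := th_dvd hQ j

theorem le_th {Q j : ℕ} (hj : 2 ≤ j) : Q + 1 ≤ th Q j := by
  obtain ⟨k, rfl⟩ : ∃ k, j = k + 1 := ⟨j - 1, by omega⟩
  rw [th_succ']
  have := Nat.le_mul_of_pos_right Q (th_pos Q (m := k) (by omega))
  omega

/-- the natural modules are not borderline -/
theorem not_nat {Q q j h x : ℕ} (h1 : Q ^ j = q) (hj : 0 < j) (hh : 0 < h) (hx : 2 ≤ x)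
    (e : th q h = x * th Q (j * h)) : False := by
  rw [th_mul_th, h1] at e
  have h2 := th_pos q hh
  have h3 := th_pos Q hj
  have h4 : 2 * (1 * th q h) ≤ x * (th Q j * th q h) := Nat.mul_le_mul hx (Nat.mul_le_mul_right _ h3)
  omega

theorem j_one {Q q j h x e : ℕ} (hQ : 1 < Q) (h1 : Q ^ j = q) (hj : 0 < j) (hh : 0 < h)
    (he : th q h * (1 + q ^ e) = x * th Q (j * h)) : j = 1 := by
  rw [th_mul_th, h1] at he
  have h2 : 1 + q ^ e = x * th Q j := by
    refine Nat.eq_of_mul_eq_mul_left (th_pos q hh) ?_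
    rw [he]
    ring
  have h3 : th Q j ∣ q - 1 := h1 ▸ th_dvd hQ.le j
  have hq : 1 ≤ q := h1 ▸ Nat.one_le_pow _ _ (by omega)
  have h4 : th Q j ∣ q ^ e - 1 := h3.trans (by simpa using Nat.pow_sub_one_dvd_pow_sub_one q (one_dvd e))
  have h5 : th Q j ∣ 1 + q ^ e := ⟨x, by rw [h2, mul_comm]⟩
  have h6 : th Q j ∣ 2 := by
    have h7 := Nat.dvd_sub h5 h4
    have h8 : 1 ≤ q ^ e := Nat.one_le_pow _ _ hq
    rwa [show 1 + q ^ e - (q ^ e - 1) = 2 by omega] at h7
  by_contra h7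
  have h8 := le_th (Q := Q) (j := j) (by omega)
  have h9 := Nat.le_of_dvd (by norm_num) h6
  omega

theorem two_le_add {p s : ℕ} (hp : p.Prime) : 2 ≤ 1 + p ^ s := by
  have := Nat.one_le_pow s p hp.pos
  omega

/-! ### the modules -/

section rep

variable {I W Y : Type*} [Fintype I] [DecidableEq I] [Group W] [Group Y] {M : CoxeterMatrix I}
  {cs : CoxeterSystem M W} {A : I → I → ℤ} {hA : IsCartan M A} {p : ℕ} {T : Subgroup Y} {nn : I → Y}
  {X : (I → ℤ) → Subgroup Y}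

/-- `w₀` normalises `W_J` -/
theorem sym [Finite W] {J : Set I} (hJ : ∀ w ∈ WJ cs J, w0 cs * w * w0 cs ∈ WJ cs J) {i m : I} (hi : i ∉ J) (hm : m ∈ J) :
    co cs hA i (w0 cs) m = 0 := by
  have h1 := co_mul_left cs hA hi (hJ _ (Tits.Exchange.simple_mem_WJ cs hm)) (w0 cs)
  rw [mul_assoc, w0_mul_self, mul_one, co_mul_simple] at h1
  have h2 := congrFun h1 m
  simp only [fire, hA.diag] at h2
  omega

theorem sym_le [Finite W] (i m : I) : co cs hA i (w0 cs) m ≤ 0 :=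
  rep_w0_nonpos (isRoot_sr cs hA m) (sr_nonneg m) i

theorem min_word {i : I} {ω : List I} (h : ∀ m, 0 ≤ cf A m ω i) : 0 ≤ rep cs hA (cs.wordProd ω)⁻¹⁻¹ (sr i) := by
  rw [inv_inv]
  intro m
  have h2 := h m
  rw [← co_wordProd cs hA] at h2
  exact h2

theorem moved_word (hA : IsCartan M A) {J : Set I} {i s : I} (hs : s ∉ J) {ω : List I} (h : cf A s ω i ≠ 0) :
    (cs.wordProd ω)⁻¹⁻¹ * cs.simple i * (cs.wordProd ω)⁻¹ ∉ WJ cs J := by
  intro hmem
  have h2 := co_mul_left cs hA hs hmem (cs.wordProd ω)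
  have e : (cs.wordProd ω)⁻¹⁻¹ * cs.simple i * (cs.wordProd ω)⁻¹ * cs.wordProd ω = cs.wordProd ω * cs.simple i := by group
  rw [e, co_mul_simple, co_wordProd] at h2
  have h3 := congrFun h2 i
  simp only [fire, hA.diag] at h3
  omega

variable (R : RGD cs hA p T nn X) [Finite Y] [Finite W] [hp : Fact p.Prime]
  {F : Type u} [Field F] [Finite F] [CharP F p] {ι : Type} [Fintype ι] [DecidableEq ι] {P : Subgroup (GL ι F)} (hC : Core P)
  (hG : GG cs hA T X = ⊤) (hT : ∀ s ∈ T, ∀ t ∈ T, s * t = t * s) {φ : Y →* GL ι F} (hφ : φ.range = P)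
  {E : Type} [Field E] [Fintype E] [CharP E p] {i : I} {σ : SL(2, E) →* Y} (N : Nd T X i σ)
include R hC hG hT hφ N

/-- **vertices times edge** -/
theorem cb (hi : i ∉ Jx cs hA X (lin (acRep φ))) {s : ℕ} (hE : Nat.card E = Nat.card F ^ s) :
    ∃ d, 2 ≤ d ∧ Module.finrank (AlgebraicClosure F) (Le cs hA T X (lin (acRep φ)) {i}) = d ^ s ∧
      (WJ cs (Jx cs hA X (lin (acRep φ)))).index * d ^ s ≤ 2 * Fintype.card ι := by
  have hne := hC.nonempty
  have hchar : CharP (AlgebraicClosure F) p := charP_of_injective_algebraMap (algebraMap F _).injective p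
  have hirr := ac_irr R hG hT hφ hC.absIrred
  obtain ⟨d, hd, e⟩ := H650.Ppd.edge_pow_of_card R hG hT hφ hC.absIrred N hi hE
  have hs : s ≠ 0 := by
    rintro rfl
    have := Finite.one_lt_card (α := E)
    rw [hE, pow_zero] at this
    omega
  have h1 := H2.Ppd.edge_bound R hirr (finrank_D R hirr hT) i (by
    rw [e]
    exact hd.trans (Nat.le_self_pow hs d))
  rw [e, Module.finrank_fintype_fun_eq_card] at h1
  exact ⟨d, hd, e, h1⟩

/-- the weight of a vertex at a node -/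
theorem exists_wt {w : W} {g : Y} (hg : Rp cs R.nsys w g) (hmin : 0 ≤ rep cs hA w⁻¹ (sr i))
    (hs : w⁻¹ * cs.simple i * w ∉ WJ cs (Jx cs hA X (lin (acRep φ)))) :
    ∃ (j : E →+* AlgebraicClosure F) (r : ℕ), r ≠ 0 ∧ (SS p r).card ≤ lrk cs hA T X (lin (acRep φ)) {i} g ∧
      ∀ s : Eˣ, ∀ v ∈ D cs hA X (lin (acRep φ)), lin (acRep φ) (g⁻¹ * σ (hh s) * g) v = j s ^ r • v := by
  have hne := hC.nonempty
  have hchar : CharP (AlgebraicClosure F) p := charP_of_injective_algebraMap (algebraMap F _).injective p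
  have hirr := ac_irr R hG hT hφ hC.absIrred
  obtain ⟨c, hc, hc0, χ, hχ⟩ := exists_chi R hirr hT
  obtain ⟨j⟩ := H2.Ppd.exists_emb F E p
  have := Fintype.ofFinite F
  obtain ⟨a, -, ha⟩ := FiniteField.card F p
  obtain ⟨b, -, hb⟩ := FiniteField.card E p
  obtain ⟨r, h0, h1, -, h2⟩ := H2.Ppd.exists_weight R hG hφ hC.absIrred (by rw [Nat.card_eq_fintype_card, ha]) hb j hc hc0 hχ σ
    N.tor hg
  have h3 : ∀ s : Eˣ, ∀ v ∈ D cs hA X (lin (acRep φ)), lin (acRep φ) (g⁻¹ * σ (hh s) * g) v = j s ^ r • v := by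
    intro s v hv
    obtain ⟨x, rfl⟩ := H650.Ppd.exists_smul_of_mem (finrank_D R hirr hT) hc hc0 hv
    rw [map_smul, h2, smul_comm]
  exact ⟨j, r, h0, H117.Levi.card_SS_le_lrk R hirr hg hmin hs j σ (fun t => (N.up _).2 ⟨t, rfl⟩) (fun t => (N.lo _).2 ⟨t, rfl⟩)
    N.tor (H948.Ppd.Nd.rp_ww R ⟨N.up, N.lo, N.tor⟩) (by omega) h1 h3, h3⟩

theorem two {w : W} {g : Y} (hg : Rp cs R.nsys w g) (hmin : 0 ≤ rep cs hA w⁻¹ (sr i))
    (hs : w⁻¹ * cs.simple i * w ∉ WJ cs (Jx cs hA X (lin (acRep φ)))) : 2 ≤ lrk cs hA T X (lin (acRep φ)) {i} g := by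
  obtain ⟨j, r, h0, h1, -⟩ := exists_wt R hC hG hT hφ N hg hmin hs
  exact (H875.Fn.two_le_card_SS h0).trans h1

/-- **parity** -/
theorem par (hp2 : p ≠ 2) {w : W} {g : Y} (hg : Rp cs R.nsys w g) (hmin : 0 ≤ rep cs hA w⁻¹ (sr i))
    (hs : w⁻¹ * cs.simple i * w ∉ WJ cs (Jx cs hA X (lin (acRep φ))))
    (h1 : ∀ v ∈ D cs hA X (lin (acRep φ)), lin (acRep φ) (g⁻¹ * σ (hh (-1)) * g) v = v) :
    3 ≤ lrk cs hA T X (lin (acRep φ)) {i} g := by
  have hne := hC.nonempty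
  have hchar : CharP (AlgebraicClosure F) p := charP_of_injective_algebraMap (algebraMap F _).injective p
  have hirr := ac_irr R hG hT hφ hC.absIrred
  obtain ⟨j, r, h0, h2, h3⟩ := exists_wt R hC hG hT hφ N hg hmin hs
  refine le_trans ?_ h2
  rcases (H875.Fn.two_le_card_SS (p := p) h0).eq_or_lt with h4 | h4
  swap
  · exact h4
  exfalso
  obtain ⟨t, rfl⟩ := H875.Psl2.eq_pow_of_card_two p h4.symm
  obtain ⟨c, hc, hc0, -⟩ := exists_chi R hirr hT
  have h5 := h3 (-1) c hc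
  rw [h1 c hc, Units.val_neg, Units.val_one, map_neg, map_one, ((hp.out.odd_of_ne_two hp2).pow).neg_one_pow] at h5
  have h6 : (1 : AlgebraicClosure F) = -1 := smul_left_injective _ hc0 (by simpa using h5)
  have h7 : ((2 : ℕ) : AlgebraicClosure F) = 0 := by
    push_cast
    linear_combination h6
  rw [CharP.cast_eq_zero_iff _ p] at h7
  exact hp2 ((Nat.prime_dvd_prime_iff_eq hp.out Nat.prime_two).1 h7)

omit N in
/-- **the sum of the ranks at the node `i`**, vertices given by words -/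
theorem levi_list (i : I) (S : List I) (hS : ∀ s ∈ S, s ∉ Jx cs hA X (lin (acRep φ))) {k : ℕ} (L : Fin k → List I)
    (h0 : ∀ a m, 0 ≤ cf A m (L a) i)
    (h1 : ∀ a a', a ≠ a' → (S.map fun s => cf A s (L a)) ≠ (S.map fun s => cf A s (L a')) ∧
      (S.map fun s => fire A (cf A s (L a)) i) ≠ S.map fun s => cf A s (L a'))
    (g : Fin k → Y) (hg : ∀ a, Rp cs R.nsys (cs.wordProd (L a))⁻¹ (g a)) :
    ∑ a, lrk cs hA T X (lin (acRep φ)) {i} (g a) ≤ Fintype.card ι := by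
  have hne := hC.nonempty
  have hchar : CharP (AlgebraicClosure F) p := charP_of_injective_algebraMap (algebraMap F _).injective p
  have hirr := ac_irr R hG hT hφ hC.absIrred
  have hsum := H117.Levi.dim_ge_levi R hirr ({i} : Set I) (fun a => (cs.wordProd (L a))⁻¹) g hg
    (fun a i' hi => by
      obtain rfl : i' = i := hi
      exact min_word (h0 a))
    (fun a a' haa x hx hmem => by
      obtain ⟨n1, n2⟩ := h1 a a' haa
      have h2 := fun s hs => co_mul_left cs hA (hS s hs) hmem (cs.wordProd (L a'))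
      have e : (cs.wordProd (L a))⁻¹⁻¹ * x * (cs.wordProd (L a'))⁻¹ * cs.wordProd (L a') = cs.wordProd (L a) * x := by group
      rw [e] at h2
      rcases KFacts.RgdDiag.mem_WJ_singleton hx with rfl | rfl
      · refine n1 (List.map_congr_left fun s hs => ?_)
        have h3 := h2 s hs
        rwa [mul_one, co_wordProd, co_wordProd] at h3
      · refine n2 (List.map_congr_left fun s hs => ?_)
        have h3 := h2 s hs
        rwa [co_mul_simple, co_wordProd, co_wordProd] at h3)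
  rwa [Module.finrank_fintype_fun_eq_card] at hsum

end rep

/-! ### the lift -/

open Cfsg.Agent.H218.SdLift Cfsg.Agent.H51.Mult in
/-- **The datum of the socle lifts to the core.** -/
theorem lift {ι : Type} [Fintype ι] [DecidableEq ι] {F : Type u} [Field F] [Finite F] {P : Subgroup (GL ι F)}
    (hC : Core P) {I W : Type*} {G : Type v} [Fintype I] [DecidableEq I] [Group W] [Finite W] [Group G]
    {M : CoxeterMatrix I} {cs : CoxeterSystem M W} {A : I → I → ℤ} {h : IsCartan M A} {p : ℕ} [hp : Fact p.Prime]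
    [CharP F p] {T : Subgroup G} {n : I → G} {X : (I → ℤ) → Subgroup G} (R : RGD cs h p T n X)
    (hgen : G1 cs h X = ⊤) (hT : ∀ s ∈ T, ∀ t ∈ T, s * t = t * s) {E : I → Type} [∀ i, Field (E i)]
    [∀ i, Fintype (E i)] [∀ i, CharP (E i) p] {θ : ∀ i, SL(2, E i) →* G} (N : ∀ i, H64.CrossChev.Nd T n X i (θ i))
    (e : Soc P ≃* G) :
    ∃ (Y : Type) (_ : Group Y) (_ : Finite Y) (φ : Y →* GL ι F) (π : Y →* G) (n' : I → Y) (θ' : ∀ i, SL(2, E i) →* Y),
      φ.range = P ∧ Function.Injective φ ∧ Function.Surjective π ∧ (∀ y, π y = 1 ↔ φ y ∈ scalars ι F) ∧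
      (Nat.card π.ker).Coprime p ∧ (∀ i g, π (θ' i g) = θ i g) ∧ RGD cs h p (T.comap π) n' (fun x => lft p π (X x)) ∧
      G1 cs h (fun x => lft p π (X x)) = ⊤ ∧ GG cs h (T.comap π) (fun x => lft p π (X x)) = ⊤ ∧
      (∀ s ∈ T.comap π, ∀ t ∈ T.comap π, s * t = t * s) ∧
      (∀ i, H64.CrossChev.Nd (T.comap π) n' (fun x => lft p π (X x)) i (θ' i)) ∧
      ∀ i, Nd (T.comap π) (fun x => lft p π (X x)) i (θ' i) := by
  classical
  let Y : Type := Shrink.{0} P
  let ψ : Y ≃* P := Shrink.mulEquiv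
  have hYf : Finite Y := Finite.of_equiv _ ψ.symm.toEquiv
  let φ : Y →* GL ι F := P.subtype.comp ψ.toMonoidHom
  have hφ : φ.range = P := by
    rw [MonoidHom.range_comp, MonoidHom.range_eq_top.2 (show Function.Surjective ψ.toMonoidHom from ψ.surjective),
      ← MonoidHom.range_eq_map, Subgroup.range_subtype]
  have hφi : Function.Injective φ := Subtype.val_injective.comp ψ.injective
  let π : Y →* G := (prj e).comp ψ.toMonoidHom
  have hker : ∀ y : Y, y ∈ π.ker ↔ ψ y ∈ (scalars ι F).subgroupOf P := by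
    intro y
    rw [← prj_ker e, MonoidHom.mem_ker, MonoidHom.mem_ker]
    rfl
  have hd : PCE π := by
    refine ⟨(prj_surjective e).comp ψ.surjective, ?_, ?_⟩
    · intro y hy
      rw [Subgroup.mem_center_iff]
      intro z
      apply ψ.injective
      rw [map_mul, map_mul]
      exact Subgroup.mem_center_iff.1 (subgroupOf_scalars_le P ((hker y).1 hy)) (ψ z)
    · have hP := commutator_eq_top_of_perfect hC.perfect
      have h1 := congrArg (Subgroup.map ψ.symm.toMonoidHom) hP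
      rw [commutator_def, Subgroup.map_commutator] at h1
      have h2 : (⊤ : Subgroup P).map ψ.symm.toMonoidHom = ⊤ := by
        rw [← MonoidHom.range_eq_map, MonoidHom.range_eq_top]
        exact ψ.symm.surjective
      rw [h2] at h1
      exact h1
  have hcop : (Nat.card π.ker).Coprime p := by
    refine Nat.Coprime.coprime_dvd_left ?_ (card_scalars_coprime (p := p) P)
    refine Subgroup.card_dvd_of_injective ((ψ.toMonoidHom.comp π.ker.subtype).codRestrict ((scalars ι F).subgroupOf P)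
      (fun x => (hker _).1 x.2)) ?_
    intro x y e
    have e1 : ψ (x : Y) = ψ (y : Y) := congrArg (fun z : (scalars ι F).subgroupOf P => (z : P)) e
    exact Subtype.ext (ψ.injective e1)
  obtain ⟨θ', hθ', R', hgen', hT', N'⟩ := H2.Ppd.exists_lift hp.out hd hcop R hgen hT N
  refine ⟨Y, inferInstance, hYf, φ, π, _, θ', hφ, hφi, hd.1, fun y => hker y, hcop, hθ', R', hgen', gg_eq_top hgen', hT', N',
    fun i => ⟨fun x => (N' i).mem x, fun x => ?_, H2.Ppd.nd_hh (N' i)⟩⟩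
  rw [H64.CrossChev.Nd.conj_eq R' (N' i)]
  constructor
  · rintro ⟨t, rfl⟩
    exact ⟨-t, by rw [H2.Ppd.Lo_eq, Nodes.RGDFoldSL.lo_eq, neg_neg]⟩
  · rintro ⟨t, rfl⟩
    exact ⟨-t, by rw [H2.Ppd.Lo_eq, Nodes.RGDFoldSL.lo_eq]⟩

/-! ### automorphisms -/

/-- **A prime divisor of `|Aut T|` which divides `|T|`.** -/
theorem dvd_of_FD {T : Type v} [Group T] [Finite T] {p L r : ℕ} (hp : p.Prime) (hT : H462.Ppd.FD T p)
    (hL : ∀ s : ℕ, s.Prime → s ∣ Nat.card T → s ≠ p → s ∣ p ^ L - 1) (hr : r.Prime) (h7 : 7 ≤ r) (hrL : ¬ r ∣ L)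
    (h : r ∣ Nat.card (MulAut T)) : r ∣ Nat.card T := by
  obtain ⟨b, c, φ, x, h1, h2, -, -, h5, h6⟩ := hT
  rw [h1] at h
  rcases hr.dvd_mul.1 h with h | h
  · exact h
  rcases hr.dvd_mul.1 h with h | h
  · exact h2 r hr h7 h
  have hN : orderOf x ∣ Nat.card T := orderOf_dvd_natCard x
  have hN0 : orderOf x ≠ 0 := (orderOf_pos x).ne'
  have h8 : orderOf x ∣ p ^ (L * orderOf x) - 1 := by
    rw [Nat.dvd_iff_prime_pow_dvd_dvd]
    intro s k hs hk
    rcases Nat.eq_zero_or_pos k with rfl | hk0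
    · simp
    have hs1 : s ∣ orderOf x := (dvd_pow_self s hk0.ne').trans hk
    have hs2 := hL s hs (hs1.trans hN) (fun e => h5 (e ▸ hs1))
    have h9 : p ^ L ≡ 1 [MOD s] := ((Nat.modEq_iff_dvd' (Nat.one_le_pow _ _ hp.pos)).2 hs2).symm
    have h10 : ((s : ℤ)) ^ (k + 1) ∣ ((p ^ L : ℕ) : ℤ) ^ s ^ k - 1 ^ s ^ k :=
      dvd_sub_pow_of_dvd_sub (by exact_mod_cast h9.symm.dvd) k
    obtain ⟨y, hy⟩ := hk
    have h11 : s ^ k ∣ (p ^ L) ^ s ^ k - 1 := by
      rw [one_pow] at h10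
      have h12 : 1 ≤ (p ^ L) ^ s ^ k := Nat.one_le_pow _ _ (pow_pos hp.pos _)
      have h13 : ((s ^ k : ℕ) : ℤ) ∣ (((p ^ L) ^ s ^ k - 1 : ℕ) : ℤ) := by
        push_cast [Nat.cast_sub h12]
        push_cast at h10
        exact (pow_dvd_pow _ (Nat.le_succ k)).trans h10
      exact_mod_cast h13
    rw [← pow_mul] at h11
    refine h11.trans (Nat.pow_sub_one_dvd_pow_sub_one p ?_)
    rw [hy]
    exact ⟨y, by ring⟩
  have h9 : b ∣ L * orderOf x := by
    refine h6 _ ?_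
    have h10 := orderOf_dvd_iff_pow_eq_one.1 h8
    have h11 : 1 ≤ p ^ (L * orderOf x) := Nat.one_le_pow _ _ hp.pos
    rw [← Nat.sub_add_cancel h11, pow_succ, h10, one_mul]
  exact ((hr.dvd_mul.1 (h.trans h9)).resolve_left hrL).trans hN

end Cfsg.Agent.SM.Ti.Tool
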