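import Cfsg.Agent.H2.Ppd.Weyl

/-!
# S3570 : indices of parabolic subgroups of the Weyl groups of type `E` (helper69)
-/

set_option autoImplicit false
set_option linter.style.longLine false

namespace Cfsg.Agent.SM.Ti.Lo

open CoxeterSystem Cfsg.Agent.ChevalleyStructure.CoxeterGeom Cfsg.Agent.Tits.Roots Cfsg.Agent.Tits.Core
  Cfsg.Agent.H905.DC

theorem index_E6 {W : Type*} [Group W] [Finite W] (cs : CoxeterSystem CoxeterMatrix.E₆ W) {J : Set (Fin 6)} {i : Fin 6}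
    (hi : i ∉ J) : 26 ≤ (WJ cs J).index := by
  fin_cases i
  · exact H2.Ppd.index_ge cs isCartan_cE6 hi [![0, 0, 0, 0, -1, 1], ![0, 0, 0, -1, 1, 0], ![0, -1, -1, 1, 0, 0], ![0, 1, -1, 0, 0, 0], ![-1, -1, 1, 0, 0, 0], ![1, -1, 0, 0, 0, 0], ![-1, 1, 1, -1, 0, 0], ![1, 1, 0, -1, 0, 0], ![-1, 0, 0, 1, -1, 0], ![1, 0, -1, 1, -1, 0], ![-1, 0, 0, 0, 1, -1], ![0, 0, 1, 0, -1, 0], ![1, 0, -1, 0, 1, -1], ![-1, 0, 0, 0, 0, 1], ![0, 0, 1, -1, 1, -1], ![1, 0, -1, 0, 0, 1], ![0, -1, 0, 1, 0, -1], ![0, 0, 1, -1, 0, 1], ![0, 1, 0, 0, 0, -1], ![0, -1, 0, 1, -1, 1], ![0, 1, 0, 0, -1, 1], ![0, -1, 0, 0, 1, 0], ![0, 1, 0, -1, 1, 0], ![0, 0, -1, 1, 0, 0], ![-1, 0, 1, 0, 0, 0], ![1, 0, 0, 0, 0, 0]] (by decide +kernel)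
  · exact H2.Ppd.index_ge cs isCartan_cE6 hi [![0, 0, 0, -1, 1, 1], ![1, -1, 0, 1, -1, 0], ![-1, 1, 1, 0, -1, 0], ![0, 1, -1, 0, 1, -1], ![-1, -1, 1, 0, 1, -1], ![0, -1, -1, 1, 0, 1], ![1, 1, 0, 0, -1, 0], ![1, -1, 0, 0, 1, -1], ![-1, 1, 1, -1, 1, -1], ![0, 1, -1, 0, 0, 1], ![-1, -1, 1, 0, 0, 1], ![1, 1, 0, -1, 1, -1], ![1, -1, 0, 0, 0, 1], ![-1, 0, 0, 1, 0, -1], ![-1, 1, 1, -1, 0, 1], ![1, 0, -1, 1, 0, -1], ![1, 1, 0, -1, 0, 1], ![-1, 0, 0, 1, -1, 1], ![0, 0, 1, 0, 0, -1], ![1, 0, -1, 1, -1, 1], ![-1, 0, 0, 0, 1, 0], ![0, 0, 1, 0, -1, 1], ![1, 0, -1, 0, 1, 0], ![0, 0, 1, -1, 1, 0], ![0, -1, 0, 1, 0, 0], ![0, 1, 0, 0, 0, 0]] (by decide +kernel)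
  · exact H2.Ppd.index_ge cs isCartan_cE6 hi [![1, 0, 1, -1, 1, -1], ![2, 0, -1, 0, 0, 1], ![0, 1, -1, 1, 0, -1], ![0, 2, 0, -1, 0, 1], ![-1, -1, 1, 1, 0, -1], ![-1, 0, 2, -1, 0, 1], ![0, -1, -1, 2, -1, 1], ![0, 0, 0, -1, 2, 0], ![1, -1, 0, 1, 0, -1], ![1, 0, 1, -1, 0, 1], ![-1, 1, 1, 0, 0, -1], ![0, 1, -1, 1, -1, 1], ![-1, -1, 1, 1, -1, 1], ![0, -1, -1, 1, 1, 0], ![1, 1, 0, 0, 0, -1], ![1, -1, 0, 1, -1, 1], ![-1, 1, 1, 0, -1, 1], ![0, 1, -1, 0, 1, 0], ![-1, -1, 1, 0, 1, 0], ![1, 1, 0, 0, -1, 1], ![1, -1, 0, 0, 1, 0], ![-1, 1, 1, -1, 1, 0], ![1, 1, 0, -1, 1, 0], ![-1, 0, 0, 1, 0, 0], ![1, 0, -1, 1, 0, 0], ![0, 0, 1, 0, 0, 0]] (by decide +kernel)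
  · exact H2.Ppd.index_ge cs isCartan_cE6 hi [![-1, 2, 1, -1, 0, 1], ![0, 0, 2, -1, 1, -1], ![2, 0, -2, 1, 0, 1], ![1, -1, -1, 2, 0, -1], ![1, 1, 1, -2, 1, 1], ![1, 0, 0, 1, -2, 2], ![-1, -1, 0, 2, -1, 1], ![-1, 0, 1, -1, 2, 0], ![1, 1, -1, 1, 0, -1], ![1, 2, 0, -1, 0, 1], ![-1, 1, 0, 1, -1, 1], ![0, -1, 1, 1, 0, -1], ![0, 0, 2, -1, 0, 1], ![1, -1, -1, 2, -1, 1], ![1, 0, 0, -1, 2, 0], ![-1, -1, 0, 1, 1, 0], ![0, 1, 1, 0, 0, -1], ![1, 1, -1, 1, -1, 1], ![-1, 1, 0, 0, 1, 0], ![0, -1, 1, 1, -1, 1], ![1, -1, -1, 1, 1, 0], ![0, 1, 1, 0, -1, 1], ![1, 1, -1, 0, 1, 0], ![0, -1, 1, 0, 1, 0], ![0, 1, 1, -1, 1, 0], ![0, 0, 0, 1, 0, 0]] (by decide +kernel)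
  · exact H2.Ppd.index_ge cs isCartan_cE6 hi [![1, 2, 0, -1, 0, 0], ![-1, 1, 0, 1, -1, 0], ![0, 0, 2, -1, 0, 0], ![1, -1, -1, 2, -1, 0], ![1, 0, 0, -1, 2, -1], ![1, 0, 0, 0, -1, 2], ![-1, -1, 0, 1, 1, -1], ![-1, 0, 1, -1, 1, 1], ![1, 1, -1, 1, -1, 0], ![-1, 1, 0, 0, 1, -1], ![0, -1, 1, 1, -1, 0], ![1, -1, -1, 1, 1, -1], ![1, 0, 0, -1, 1, 1], ![-1, -1, 0, 1, 0, 1], ![0, 1, 1, 0, -1, 0], ![1, 1, -1, 0, 1, -1], ![-1, 1, 0, 0, 0, 1], ![0, -1, 1, 0, 1, -1], ![1, -1, -1, 1, 0, 1], ![0, 1, 1, -1, 1, -1], ![1, 1, -1, 0, 0, 1], ![0, -1, 1, 0, 0, 1], ![0, 0, 0, 1, 0, -1], ![0, 1, 1, -1, 0, 1], ![0, 0, 0, 1, -1, 1], ![0, 0, 0, 0, 1, 0]] (by decide +kernel)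
  · exact H2.Ppd.index_ge cs isCartan_cE6 hi [![1, 0, -1, 0, 0, 0], ![0, 0, 1, -1, 0, 0], ![0, -1, 0, 1, -1, 0], ![0, 1, 0, 0, -1, 0], ![0, -1, 0, 0, 1, -1], ![0, 1, 0, -1, 1, -1], ![0, -1, 0, 0, 0, 1], ![0, 0, -1, 1, 0, -1], ![0, 1, 0, -1, 0, 1], ![-1, 0, 1, 0, 0, -1], ![0, 0, -1, 1, -1, 1], ![1, 0, 0, 0, 0, -1], ![-1, 0, 1, 0, -1, 1], ![0, 0, -1, 0, 1, 0], ![1, 0, 0, 0, -1, 1], ![-1, 0, 1, -1, 1, 0], ![1, 0, 0, -1, 1, 0], ![-1, -1, 0, 1, 0, 0], ![-1, 1, 0, 0, 0, 0], ![1, -1, -1, 1, 0, 0], ![1, 1, -1, 0, 0, 0], ![0, -1, 1, 0, 0, 0], ![0, 1, 1, -1, 0, 0], ![0, 0, 0, 1, -1, 0], ![0, 0, 0, 0, 1, -1], ![0, 0, 0, 0, 0, 1]] (by decide +kernel)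

theorem index_E7 {W : Type*} [Group W] [Finite W] (cs : CoxeterSystem CoxeterMatrix.E₇ W) {J : Set (Fin 7)} {i : Fin 7}
    (hi : i ∉ J) : 38 ≤ (WJ cs J).index := by
  fin_cases i
  · exact H2.Ppd.index_ge cs isCartan_cE7 hi [![1, 1, 0, -1, 1, -1, 0], ![1, -1, 0, 0, 0, 1, -1], ![-1, 0, 0, 1, 0, -1, 0], ![-1, 1, 1, -1, 0, 1, -1], ![0, 1, -1, 0, 0, 0, 1], ![-1, -1, 1, 0, 0, 0, 1], ![1, 0, -1, 1, 0, -1, 0], ![1, 1, 0, -1, 0, 1, -1], ![1, -1, 0, 0, 0, 0, 1], ![-1, 0, 0, 1, -1, 1, -1], ![-1, 1, 1, -1, 0, 0, 1], ![0, 0, 1, 0, 0, -1, 0], ![1, 0, -1, 1, -1, 1, -1], ![1, 1, 0, -1, 0, 0, 1], ![-1, 0, 0, 0, 1, 0, -1], ![-1, 0, 0, 1, -1, 0, 1], ![0, 0, 1, 0, -1, 1, -1], ![1, 0, -1, 0, 1, 0, -1], ![1, 0, -1, 1,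 -1, 0, 1], ![-1, 0, 0, 0, 1, -1, 1], ![0, 0, 1, -1, 1, 0, -1], ![0, 0, 1, 0, -1, 0, 1], ![1, 0, -1, 0, 1, -1, 1], ![-1, 0, 0, 0, 0, 1, 0], ![0, -1, 0, 1, 0, 0, -1], ![0, 0, 1, -1, 1, -1, 1], ![1, 0, -1, 0, 0, 1, 0], ![0, 1, 0, 0, 0, 0, -1], ![0, -1, 0, 1, 0, -1, 1], ![0, 0, 1, -1, 0, 1, 0], ![0, 1, 0, 0, 0, -1, 1], ![0, -1, 0, 1, -1, 1, 0], ![0, 1, 0, 0, -1, 1, 0], ![0, -1, 0, 0, 1, 0, 0], ![0, 1, 0, -1, 1, 0, 0], ![0, 0, -1, 1, 0, 0, 0], ![-1, 0, 1, 0, 0, 0, 0], ![1, 0, 0, 0, 0, 0, 0]] (by decide +kernel)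
  · exact H2.Ppd.index_ge cs isCartan_cE7 hi [![0, 1, -1, 0, 1, 0, -1], ![0, 1, -1, 1, -1, 0, 1], ![-1, -1, 1, 0, 1, 0, -1], ![-1, -1, 1, 1, -1, 0, 1], ![0, -1, -1, 1, 1, -1, 1], ![0, 0, 0, -1, 1, 1, 0], ![1, 1, 0, 0, -1, 1, -1], ![1, -1, 0, 0, 1, 0, -1], ![1, -1, 0, 1, -1, 0, 1], ![-1, 1, 1, -1, 1, 0, -1], ![-1, 1, 1, 0, -1, 0, 1], ![0, 1, -1, 0, 1, -1, 1], ![-1, -1, 1, 0, 1, -1, 1], ![0, -1, -1, 1, 0, 1, 0], ![1, 1, 0, -1, 1, 0, -1], ![1, 1, 0, 0, -1, 0, 1], ![1, -1, 0, 0, 1, -1, 1], ![-1, 0, 0, 1, 0, 0, -1], ![-1, 1, 1, -1, 1, -1, 1], ![0, 1, -1, 0, 0, 1, 0], ![-1, -1, 1, 0, 0, 1, 0], ![1, 0, -1, 1, 0, 0, -1], ![1, 1, 0, -1, 1, -1, 1], ![1, -1, 0, 0, 0, 1, 0], ![-1, 0, 0, 1, 0, -1, 1], ![-1, 1, 1,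 -1, 0, 1, 0], ![0, 0, 1, 0, 0, 0, -1], ![1, 0, -1, 1, 0, -1, 1], ![1, 1, 0, -1, 0, 1, 0], ![-1, 0, 0, 1, -1, 1, 0], ![0, 0, 1, 0, 0, -1, 1], ![1, 0, -1, 1, -1, 1, 0], ![-1, 0, 0, 0, 1, 0, 0], ![0, 0, 1, 0, -1, 1, 0], ![1, 0, -1, 0, 1, 0, 0], ![0, 0, 1, -1, 1, 0, 0], ![0, -1, 0, 1, 0, 0, 0], ![0, 1, 0, 0, 0, 0, 0]] (by decide +kernel)
  · exact H2.Ppd.index_ge cs isCartan_cE7 hi [![0, 1, -1, 1, 0, 0, -1], ![0, 2, 0, -1, 1, -1, 1], ![0, -2, 0, 1, 0, 1, 0], ![-1, -1, 1, 1, 0, 0, -1], ![-1, 0, 2, -1, 1, -1, 1], ![1, 0, -2, 1, 0, 1, 0], ![0, -1, -1, 2, 0, -1, 1], ![0, 1, 1, -2, 1, 1, 0], ![0, 0, 0, 1, -2, 2, 0], ![1, -1, 0, 1, 0, 0, -1], ![1, 0, 1, -1, 1, -1, 1], ![2, 0, -1, 0, 0, 1, 0], ![-1, 1, 1, 0, 0,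 0, -1], ![0, 1, -1, 1, 0, -1, 1], ![0, 2, 0, -1, 0, 1, 0], ![-1, -1, 1, 1, 0, -1, 1], ![-1, 0, 2, -1, 0, 1, 0], ![0, -1, -1, 2, -1, 1, 0], ![0, 0, 0, -1, 2, 0, 0], ![1, 1, 0, 0, 0, 0, -1], ![1, -1, 0, 1, 0, -1, 1], ![1, 0, 1, -1, 0, 1, 0], ![-1, 1, 1, 0, 0, -1, 1], ![0, 1, -1, 1, -1, 1, 0], ![-1, -1, 1, 1, -1, 1, 0], ![0, -1, -1, 1, 1, 0, 0], ![1, 1, 0, 0, 0, -1, 1], ![1, -1, 0, 1, -1, 1, 0], ![-1, 1, 1, 0, -1, 1, 0], ![0, 1, -1, 0, 1, 0, 0], ![-1, -1, 1, 0, 1, 0, 0], ![1, 1, 0, 0, -1, 1, 0], ![1, -1, 0, 0, 1, 0, 0], ![-1, 1, 1, -1, 1, 0, 0], ![1, 1, 0, -1, 1, 0, 0], ![-1, 0, 0, 1, 0, 0, 0], ![1, 0, -1, 1, 0, 0, 0], ![0, 0, 1, 0, 0, 0, 0]] (by decide +kernel)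
  · exact H2.Ppd.index_ge cs isCartan_cE7 hi [![1, 0, 0, 1, 0, -2, 2], ![1, 1, 1, -1, -1, 2, 0], ![-1, -1, 0, 2, 0, -1, 1], ![-1, 1, 2, -2, 1, 1, 0], ![-1, 0, 1, 1, -2, 2, 0], ![0, 0, -1, 0, 2, 0, 0], ![1, 1, -1, 1, 0, 0, -1], ![1, 2, 0, -1, 1, -1, 1], ![1, -2, 0, 1, 0, 1, 0], ![-1, 1, 0, 1, 0, -1, 1], ![-1, 2, 1, -1, 0, 1, 0], ![0, -1, 1, 1, 0, 0, -1], ![0, 0, 2, -1, 1, -1, 1], ![2, 0, -2, 1, 0, 1, 0], ![1, -1, -1, 2, 0, -1, 1], ![1, 1, 1, -2, 1, 1, 0], ![1, 0, 0, 1, -2, 2, 0], ![-1, -1, 0, 2, -1, 1, 0], ![-1, 0, 1, -1, 2, 0, 0], ![0, 1, 1, 0, 0, 0, -1], ![1, 1, -1, 1, 0, -1, 1], ![1, 2, 0, -1, 0, 1, 0], ![-1, 1, 0, 1, -1, 1, 0], ![0, -1, 1, 1, 0, -1, 1], ![0, 0, 2, -1, 0, 1, 0], ![1, -1, -1, 2, -1,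 1, 0], ![1, 0, 0, -1, 2, 0, 0], ![-1, -1, 0, 1, 1, 0, 0], ![0, 1, 1, 0, 0, -1, 1], ![1, 1, -1, 1, -1, 1, 0], ![-1, 1, 0, 0, 1, 0, 0], ![0, -1, 1, 1, -1, 1, 0], ![1, -1, -1, 1, 1, 0, 0], ![0, 1, 1, 0, -1, 1, 0], ![1, 1, -1, 0, 1, 0, 0], ![0, -1, 1, 0, 1, 0, 0], ![0, 1, 1, -1, 1, 0, 0], ![0, 0, 0, 1, 0, 0, 0]] (by decide +kernel)
  · exact H2.Ppd.index_ge cs isCartan_cE7 hi [![-1, 0, 1, 0, -1, 2, 0], ![0, 0, -1, 0, 1, 1, 0], ![0, 1, 1, 0, 0, -1, 0], ![1, 1, -1, 1, -1, 1, -1], ![1, 2, 0, -1, 0, 0, 1], ![-1, 1, 0, 0, 1, 0, -1], ![-1, 1, 0, 1, -1, 0, 1], ![0, -1, 1, 1, -1, 1, -1], ![0, 0, 2, -1, 0, 0, 1], ![1, -1, -1, 1, 1, 0, -1], ![1, -1, -1, 2, -1, 0, 1], ![1, 0, 0, -1, 2, -1, 1], ![1, 0, 0, 0, -1, 2,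 0], ![-1, -1, 0, 1, 1, -1, 1], ![-1, 0, 1, -1, 1, 1, 0], ![0, 1, 1, 0, -1, 1, -1], ![1, 1, -1, 0, 1, 0, -1], ![1, 1, -1, 1, -1, 0, 1], ![-1, 1, 0, 0, 1, -1, 1], ![0, -1, 1, 0, 1, 0, -1], ![0, -1, 1, 1, -1, 0, 1], ![1, -1, -1, 1, 1, -1, 1], ![1, 0, 0, -1, 1, 1, 0], ![-1, -1, 0, 1, 0, 1, 0], ![0, 1, 1, -1, 1, 0, -1], ![0, 1, 1, 0, -1, 0, 1], ![1, 1, -1, 0, 1, -1, 1], ![-1, 1, 0, 0, 0, 1, 0], ![0, -1, 1, 0, 1, -1, 1], ![1, -1, -1, 1, 0, 1, 0], ![0, 0, 0, 1, 0, 0, -1], ![0, 1, 1, -1, 1, -1, 1], ![1, 1, -1, 0, 0, 1, 0], ![0, -1, 1, 0, 0, 1, 0], ![0, 0, 0, 1, 0, -1, 1], ![0, 1, 1, -1, 0, 1, 0], ![0, 0, 0, 1, -1, 1, 0], ![0, 0, 0, 0, 1, 0, 0]] (by decide +kernel)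
  · exact H2.Ppd.index_ge cs isCartan_cE7 hi [![1, -1, -1, 2, -1, 0, 0], ![1, 0, 0, -1, 2, -1, 0], ![1, 0, 0, 0, -1, 2, -1], ![1, 0, 0, 0, 0, -1, 2], ![-1, -1, 0, 1, 1, -1, 0], ![-1, 0, 1, -1, 1, 1, -1], ![-1, 0, 1, 0, -1, 1, 1], ![0, 0, -1, 0, 1, 0, 1], ![1, 1, -1, 1, -1, 0, 0], ![-1, 1, 0, 0, 1, -1, 0], ![0, -1, 1, 1, -1, 0, 0], ![1, -1, -1, 1, 1, -1, 0], ![1, 0, 0, -1, 1, 1, -1], ![1, 0, 0, 0, -1, 1, 1], ![-1, -1, 0, 1, 0, 1, -1], ![-1, 0, 1, -1, 1, 0, 1], ![0, 1, 1, 0, -1, 0, 0], ![1, 1, -1, 0, 1, -1, 0], ![-1, 1, 0, 0, 0, 1, -1], ![0, -1, 1, 0, 1, -1, 0], ![1, -1, -1, 1, 0, 1, -1], ![1, 0, 0, -1, 1, 0, 1], ![-1, -1, 0, 1, 0, 0, 1], ![0, 1, 1, -1, 1, -1, 0], ![1, 1, -1, 0, 0, 1, -1], ![-1, 1, 0,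 0, 0, 0, 1], ![0, -1, 1, 0, 0, 1, -1], ![1, -1, -1, 1, 0, 0, 1], ![0, 0, 0, 1, 0, -1, 0], ![0, 1, 1, -1, 0, 1, -1], ![1, 1, -1, 0, 0, 0, 1], ![0, -1, 1, 0, 0, 0, 1], ![0, 0, 0, 1, -1, 1, -1], ![0, 1, 1, -1, 0, 0, 1], ![0, 0, 0, 0, 1, 0, -1], ![0, 0, 0, 1, -1, 0, 1], ![0, 0, 0, 0, 1, -1, 1], ![0, 0, 0, 0, 0, 1, 0]] (by decide +kernel)
  · exact H2.Ppd.index_ge cs isCartan_cE7 hi [![-1, 0, 0, 0, 0, 0, 1], ![0, -1, 0, 1, 0, -1, 0], ![0, 0, 1, -1, 0, 1, -1], ![1, 0, -1, 0, 0, 0, 1], ![0, 1, 0, 0, 0, -1, 0], ![0, -1, 0, 1, -1, 1, -1], ![0, 0, 1, -1, 0, 0, 1], ![0, 1, 0, 0, -1, 1, -1], ![0, -1, 0, 0, 1, 0, -1], ![0, -1, 0, 1, -1, 0, 1], ![0, 1, 0, -1, 1, 0, -1], ![0, 1, 0, 0, -1, 0, 1], ![0, -1, 0, 0, 1,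 -1, 1], ![0, 0, -1, 1, 0, 0, -1], ![0, 1, 0, -1, 1, -1, 1], ![0, -1, 0, 0, 0, 1, 0], ![-1, 0, 1, 0, 0, 0, -1], ![0, 0, -1, 1, 0, -1, 1], ![0, 1, 0, -1, 0, 1, 0], ![1, 0, 0, 0, 0, 0, -1], ![-1, 0, 1, 0, 0, -1, 1], ![0, 0, -1, 1, -1, 1, 0], ![1, 0, 0, 0, 0, -1, 1], ![-1, 0, 1, 0, -1, 1, 0], ![0, 0, -1, 0, 1, 0, 0], ![1, 0, 0, 0, -1, 1, 0], ![-1, 0, 1, -1, 1, 0, 0], ![1, 0, 0, -1, 1, 0, 0], ![-1, -1, 0, 1, 0, 0, 0], ![-1, 1, 0, 0, 0, 0, 0], ![1, -1, -1, 1, 0, 0, 0], ![1, 1, -1, 0, 0, 0, 0], ![0, -1, 1, 0, 0, 0, 0], ![0, 1, 1, -1, 0, 0, 0], ![0, 0, 0, 1, -1, 0, 0], ![0, 0, 0, 0, 1, -1, 0], ![0, 0, 0, 0, 0, 1, -1], ![0, 0, 0, 0, 0, 0, 1]] (by decide +kernel)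

theorem index_E8 {W : Type*} [Group W] [Finite W] (cs : CoxeterSystem CoxeterMatrix.E₈ W) {J : Set (Fin 8)} {i : Fin 8}
    (hi : i ∉ J) : 62 ≤ (WJ cs J).index := by
  fin_cases i
  · exact H2.Ppd.index_ge cs isCartan_cE8 hi [![0, 0, 0, -1, 1, 0, 1, 0], ![1, 0, -1, 1, 0, 0, -1, 0], ![1, 1, 0, -1, 1, -1, 1, -1], ![1, 1, 0, 0, -1, 0, 0, 1], ![1, -1, 0, 0, 0, 1, 0, -1], ![1, -1, 0, 0, 1, -1, 0, 1], ![-1, 0, 0, 1, 0, -1, 1, -1], ![-1, 1, 1, -1, 0, 1, 0, -1], ![-1, 1, 1, -1, 1, -1, 0, 1], ![0, 1, -1, 0, 0, 1, -1, 1], ![-1, -1, 1, 0, 0, 1, -1, 1], ![0, -1, -1, 1, 0, 0, 1, 0], ![0, 0, 1, 0, 0, 0, -1, 0], ![1, 0, -1, 1, 0, -1, 1, -1], ![1, 1, 0, -1, 0, 1, 0, -1], ![1, 1, 0, -1, 1, -1, 0, 1], ![1, -1, 0, 0,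 0, 1, -1, 1], ![-1, 0, 0, 1, -1, 1, 0, -1], ![-1, 0, 0, 1, 0, -1, 0, 1], ![-1, 1, 1, -1, 0, 1, -1, 1], ![0, 1, -1, 0, 0, 0, 1, 0], ![-1, -1, 1, 0, 0, 0, 1, 0], ![0, 0, 1, 0, 0, -1, 1, -1], ![1, 0, -1, 1, -1, 1, 0, -1], ![1, 0, -1, 1, 0, -1, 0, 1], ![1, 1, 0, -1, 0, 1, -1, 1], ![1, -1, 0, 0, 0, 0, 1, 0], ![-1, 0, 0, 0, 1, 0, 0, -1], ![-1, 0, 0, 1, -1, 1, -1, 1], ![-1, 1, 1, -1, 0, 0, 1, 0], ![0, 0, 1, 0, -1, 1, 0, -1], ![0, 0, 1, 0, 0, -1, 0, 1], ![1, 0, -1, 0, 1, 0, 0, -1], ![1, 0, -1, 1, -1, 1, -1, 1], ![1, 1, 0, -1, 0, 0, 1, 0], ![-1, 0, 0, 0, 1, 0, -1, 1], ![-1, 0, 0, 1, -1, 0, 1, 0], ![0, 0, 1, -1, 1, 0, 0, -1], ![0, 0, 1, 0, -1, 1, -1, 1], ![1, 0, -1, 0, 1, 0, -1, 1], ![1, 0, -1, 1, -1, 0, 1, 0],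 ![-1, 0, 0, 0, 1, -1, 1, 0], ![0, -1, 0, 1, 0, 0, 0, -1], ![0, 0, 1, -1, 1, 0, -1, 1], ![0, 0, 1, 0, -1, 0, 1, 0], ![1, 0, -1, 0, 1, -1, 1, 0], ![-1, 0, 0, 0, 0, 1, 0, 0], ![0, 1, 0, 0, 0, 0, 0, -1], ![0, -1, 0, 1, 0, 0, -1, 1], ![0, 0, 1, -1, 1, -1, 1, 0], ![1, 0, -1, 0, 0, 1, 0, 0], ![0, 1, 0, 0, 0, 0, -1, 1], ![0, -1, 0, 1, 0, -1, 1, 0], ![0, 0, 1, -1, 0, 1, 0, 0], ![0, 1, 0, 0, 0, -1, 1, 0], ![0, -1, 0, 1, -1, 1, 0, 0], ![0, 1, 0, 0, -1, 1, 0, 0], ![0, -1, 0, 0, 1, 0, 0, 0], ![0, 1, 0, -1, 1, 0, 0, 0], ![0, 0, -1, 1, 0, 0, 0, 0], ![-1, 0, 1, 0, 0, 0, 0, 0], ![1, 0, 0, 0, 0, 0, 0, 0]] (by decide +kernel)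
  · exact H2.Ppd.index_ge cs isCartan_cE8 hi [![2, 0, -1, 0, 0, 0, 1, 0], ![-1, 1, 1, 0, -1, 1, 0, -1], ![-1, 1, 1, 0, 0, -1, 0, 1], ![0, 1, -1, 0, 1, 0, 0, -1], ![0, 1, -1, 1, -1, 1, -1, 1], ![0, 2, 0, -1, 0, 0, 1, 0], ![-1, -1, 1, 0, 1, 0, 0, -1], ![-1, -1, 1, 1, -1, 1, -1, 1], ![-1, 0, 2, -1, 0, 0, 1, 0], ![0, -1, -1, 1, 1, 0, -1, 1], ![0, -1, -1, 2, -1, 0, 1, 0], ![0, 0, 0, -1, 2, -1, 1, 0], ![0, 0, 0, 0, -1, 2, 0, 0], ![1, 1, 0, 0, -1, 1, 0, -1], ![1, 1, 0, 0, 0, -1, 0, 1], ![1, -1, 0, 0, 1, 0, 0, -1], ![1, -1, 0, 1, -1, 1, -1, 1], ![1, 0, 1, -1, 0, 0, 1, 0], ![-1, 1, 1, -1, 1, 0, 0, -1], ![-1, 1, 1, 0, -1, 1, -1, 1], ![0, 1, -1, 0, 1, 0, -1, 1], ![0, 1, -1, 1, -1, 0, 1, 0], ![-1, -1, 1, 0, 1,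 0, -1, 1], ![-1, -1, 1, 1, -1, 0, 1, 0], ![0, -1, -1, 1, 1, -1, 1, 0], ![0, 0, 0, -1, 1, 1, 0, 0], ![1, 1, 0, -1, 1, 0, 0, -1], ![1, 1, 0, 0, -1, 1, -1, 1], ![1, -1, 0, 0, 1, 0, -1, 1], ![1, -1, 0, 1, -1, 0, 1, 0], ![-1, 0, 0, 1, 0, 0, 0, -1], ![-1, 1, 1, -1, 1, 0, -1, 1], ![-1, 1, 1, 0, -1, 0, 1, 0], ![0, 1, -1, 0, 1, -1, 1, 0], ![-1, -1, 1, 0, 1, -1, 1, 0], ![0, -1, -1, 1, 0, 1, 0, 0], ![1, 0, -1, 1, 0, 0, 0, -1], ![1, 1, 0, -1, 1, 0, -1, 1], ![1, 1, 0, 0, -1, 0, 1, 0], ![1, -1, 0, 0, 1, -1, 1, 0], ![-1, 0, 0, 1, 0, 0, -1, 1], ![-1, 1, 1, -1, 1, -1, 1, 0], ![0, 1, -1, 0, 0, 1, 0, 0], ![-1, -1, 1, 0, 0, 1, 0, 0], ![0, 0, 1, 0, 0, 0, 0, -1], ![1, 0, -1, 1, 0, 0, -1, 1], ![1, 1, 0, -1, 1, -1, 1, 0],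 ![1, -1, 0, 0, 0, 1, 0, 0], ![-1, 0, 0, 1, 0, -1, 1, 0], ![-1, 1, 1, -1, 0, 1, 0, 0], ![0, 0, 1, 0, 0, 0, -1, 1], ![1, 0, -1, 1, 0, -1, 1, 0], ![1, 1, 0, -1, 0, 1, 0, 0], ![-1, 0, 0, 1, -1, 1, 0, 0], ![0, 0, 1, 0, 0, -1, 1, 0], ![1, 0, -1, 1, -1, 1, 0, 0], ![-1, 0, 0, 0, 1, 0, 0, 0], ![0, 0, 1, 0, -1, 1, 0, 0], ![1, 0, -1, 0, 1, 0, 0, 0], ![0, 0, 1, -1, 1, 0, 0, 0], ![0, -1, 0, 1, 0, 0, 0, 0], ![0, 1, 0, 0, 0, 0, 0, 0]] (by decide +kernel)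
  · exact H2.Ppd.index_ge cs isCartan_cE8 hi [![2, 0, -1, 1, -1, 0, 1, 0], ![-2, 0, 1, 0, 1, -1, 1, 0], ![0, 1, -1, 1, 0, 0, 0, -1], ![0, 2, 0, -1, 1, 0, -1, 1], ![0, 2, 0, 0, -1, 0, 1, 0], ![0, -2, 0, 1, 1, -1, 1, 0], ![-1, -1, 1, 1, 0, 0, 0, -1], ![-1, 0, 2, -1, 1, 0, -1, 1], ![-1, 0, 2, 0, -1, 0, 1, 0], ![1, 0, -2, 1, 1, -1, 1, 0], ![-1, 0, -1, 1, 0, 1, 0, 0], ![0, -1, -1, 2, 0, 0, -1, 1], ![0, 1, 1, -2, 2, -1, 1, 0], ![1, 1, -1, -1, 1, 1, 0, 0], ![0, -1, 1, -1, 1, 1, 0, 0], ![0, 0, 0, 1, 0, -2, 2, 0], ![0, 1, 1, -1, -1, 2, 0, 0], ![1, -1, 0, 1, 0, 0, 0, -1], ![1, 0, 1, -1, 1, 0, -1, 1], ![1, 0, 1, 0, -1, 0, 1, 0], ![2, 0, -1, 0, 1, -1, 1, 0], ![-2, 0, 1, 0, 0, 1, 0, 0], ![-1, 1, 1, 0, 0, 0, 0, -1],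 ![0, 1, -1, 1, 0, 0, -1, 1], ![0, 2, 0, -1, 1, -1, 1, 0], ![0, -2, 0, 1, 0, 1, 0, 0], ![-1, -1, 1, 1, 0, 0, -1, 1], ![-1, 0, 2, -1, 1, -1, 1, 0], ![1, 0, -2, 1, 0, 1, 0, 0], ![0, -1, -1, 2, 0, -1, 1, 0], ![0, 1, 1, -2, 1, 1, 0, 0], ![0, 0, 0, 1, -2, 2, 0, 0], ![1, 1, 0, 0, 0, 0, 0, -1], ![1, -1, 0, 1, 0, 0, -1, 1], ![1, 0, 1, -1, 1, -1, 1, 0], ![2, 0, -1, 0, 0, 1, 0, 0], ![-1, 1, 1, 0, 0, 0, -1, 1], ![0, 1, -1, 1, 0, -1, 1, 0], ![0, 2, 0, -1, 0, 1, 0, 0], ![-1, -1, 1, 1, 0, -1, 1, 0], ![-1, 0, 2, -1, 0, 1, 0, 0], ![0, -1, -1, 2, -1, 1, 0, 0], ![0, 0, 0, -1, 2, 0, 0, 0], ![1, 1, 0, 0, 0, 0, -1, 1], ![1, -1, 0, 1, 0, -1, 1, 0], ![1, 0, 1, -1, 0, 1, 0, 0], ![-1, 1, 1, 0, 0, -1, 1, 0], ![0, 1, -1, 1, -1,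 1, 0, 0], ![-1, -1, 1, 1, -1, 1, 0, 0], ![0, -1, -1, 1, 1, 0, 0, 0], ![1, 1, 0, 0, 0, -1, 1, 0], ![1, -1, 0, 1, -1, 1, 0, 0], ![-1, 1, 1, 0, -1, 1, 0, 0], ![0, 1, -1, 0, 1, 0, 0, 0], ![-1, -1, 1, 0, 1, 0, 0, 0], ![1, 1, 0, 0, -1, 1, 0, 0], ![1, -1, 0, 0, 1, 0, 0, 0], ![-1, 1, 1, -1, 1, 0, 0, 0], ![1, 1, 0, -1, 1, 0, 0, 0], ![-1, 0, 0, 1, 0, 0, 0, 0], ![1, 0, -1, 1, 0, 0, 0, 0], ![0, 0, 1, 0, 0, 0, 0, 0]] (by decide +kernel)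
  · exact H2.Ppd.index_ge cs isCartan_cE8 hi [![-1, 1, 2, -2, 2, -1, 1, 0], ![1, 1, -2, 0, 1, 1, 0, 0], ![-1, -1, 2, -1, 1, 1, 0, 0], ![-1, 0, 1, 1, 0, -2, 2, 0], ![-1, 1, 2, -1, -1, 2, 0, 0], ![0, 0, -1, 2, -2, 2, 0, 0], ![1, 1, -1, 1, 0, 0, 0, -1], ![1, 2, 0, -1, 1, 0, -1, 1], ![1, 2, 0, 0, -1, 0, 1, 0], ![1, -2, 0, 1, 1, -1, 1, 0], ![-1, 1, 0, 1, 0, 0, -1, 1], ![-1, 2, 1, -1, 1, -1, 1, 0], ![0, 2, -1, 0, 0, 1, 0, 0], ![-1, -2, 1, 1, 0, 1, 0, 0], ![0, -1, 1, 1, 0, 0, 0, -1], ![0, 0, 2, -1, 1, 0, -1, 1], ![0, 0, 2, 0, -1, 0, 1, 0], ![2, 0, -2, 1, 1, -1, 1, 0], ![-2, 0, 0, 1, 0, 1, 0, 0], ![1, -1, -1, 2, 0, 0, -1, 1], ![1, 1, 1, -2, 2, -1, 1, 0], ![2, 1, -1, -1, 1, 1, 0, 0], ![1, -1, 1, -1, 1, 1, 0,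 0], ![1, 0, 0, 1, 0, -2, 2, 0], ![1, 1, 1, -1, -1, 2, 0, 0], ![-1, -1, 0, 2, 0, -1, 1, 0], ![-1, 1, 2, -2, 1, 1, 0, 0], ![-1, 0, 1, 1, -2, 2, 0, 0], ![0, 0, -1, 0, 2, 0, 0, 0], ![0, 1, 1, 0, 0, 0, 0, -1], ![1, 1, -1, 1, 0, 0, -1, 1], ![1, 2, 0, -1, 1, -1, 1, 0], ![1, -2, 0, 1, 0, 1, 0, 0], ![-1, 1, 0, 1, 0, -1, 1, 0], ![-1, 2, 1, -1, 0, 1, 0, 0], ![0, -1, 1, 1, 0, 0, -1, 1], ![0, 0, 2, -1, 1, -1, 1, 0], ![2, 0, -2, 1, 0, 1, 0, 0], ![1, -1, -1, 2, 0, -1, 1, 0], ![1, 1, 1, -2, 1, 1, 0, 0], ![1, 0, 0, 1, -2, 2, 0, 0], ![-1, -1, 0, 2, -1, 1, 0, 0], ![-1, 0, 1, -1, 2, 0, 0, 0], ![0, 1, 1, 0, 0, 0, -1, 1], ![1, 1, -1, 1, 0, -1, 1, 0], ![1, 2, 0, -1, 0, 1, 0, 0], ![-1, 1, 0, 1, -1, 1, 0, 0], ![0, -1, 1, 1,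 0, -1, 1, 0], ![0, 0, 2, -1, 0, 1, 0, 0], ![1, -1, -1, 2, -1, 1, 0, 0], ![1, 0, 0, -1, 2, 0, 0, 0], ![-1, -1, 0, 1, 1, 0, 0, 0], ![0, 1, 1, 0, 0, -1, 1, 0], ![1, 1, -1, 1, -1, 1, 0, 0], ![-1, 1, 0, 0, 1, 0, 0, 0], ![0, -1, 1, 1, -1, 1, 0, 0], ![1, -1, -1, 1, 1, 0, 0, 0], ![0, 1, 1, 0, -1, 1, 0, 0], ![1, 1, -1, 0, 1, 0, 0, 0], ![0, -1, 1, 0, 1, 0, 0, 0], ![0, 1, 1, -1, 1, 0, 0, 0], ![0, 0, 0, 1, 0, 0, 0, 0]] (by decide +kernel)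
  · exact H2.Ppd.index_ge cs isCartan_cE8 hi [![1, 1, -1, 1, 0, -1, 0, 1], ![1, 2, 0, -1, 0, 1, -1, 1], ![1, -2, 0, 1, 0, 0, 1, 0], ![-1, 1, 0, 0, 1, 0, 0, -1], ![-1, 1, 0, 1, -1, 1, -1, 1], ![-1, 2, 1, -1, 0, 0, 1, 0], ![0, -1, 1, 1, -1, 1, 0, -1], ![0, -1, 1, 1, 0, -1, 0, 1], ![0, 0, 2, -1, 0, 1, -1, 1], ![2, 0, -2, 1, 0, 0, 1, 0], ![1, -1, -1, 1, 1, 0, 0, -1], ![1, -1, -1, 2, -1, 1, -1, 1], ![1, 1, 1, -2, 1, 0, 1, 0], ![1, 0, 0, -1, 2, 0, -1, 1], ![1, 0, 0, 1, -2, 1, 1, 0], ![1, 0, 0, 0, 1, -2, 2, 0], ![-1, -1, 0, 1, 1, 0, -1, 1], ![-1, -1, 0, 2, -1, 0, 1, 0], ![-1, 0, 1, -1, 2, -1, 1, 0], ![-1, 0, 1, 0, -1, 2, 0, 0], ![0, 0, -1, 0, 1, 1, 0, 0], ![0, 1, 1, 0, -1, 1, 0, -1], ![0, 1, 1, 0, 0, -1, 0,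 1], ![1, 1, -1, 0, 1, 0, 0, -1], ![1, 1, -1, 1, -1, 1, -1, 1], ![1, 2, 0, -1, 0, 0, 1, 0], ![-1, 1, 0, 0, 1, 0, -1, 1], ![-1, 1, 0, 1, -1, 0, 1, 0], ![0, -1, 1, 0, 1, 0, 0, -1], ![0, -1, 1, 1, -1, 1, -1, 1], ![0, 0, 2, -1, 0, 0, 1, 0], ![1, -1, -1, 1, 1, 0, -1, 1], ![1, -1, -1, 2, -1, 0, 1, 0], ![1, 0, 0, -1, 2, -1, 1, 0], ![1, 0, 0, 0, -1, 2, 0, 0], ![-1, -1, 0, 1, 1, -1, 1, 0], ![-1, 0, 1, -1, 1, 1, 0, 0], ![0, 1, 1, -1, 1, 0, 0, -1], ![0, 1, 1, 0, -1, 1, -1, 1], ![1, 1, -1, 0, 1, 0, -1, 1], ![1, 1, -1, 1, -1, 0, 1, 0], ![-1, 1, 0, 0, 1, -1, 1, 0], ![0, -1, 1, 0, 1, 0, -1, 1], ![0, -1, 1, 1, -1, 0, 1, 0], ![1, -1, -1, 1, 1, -1, 1, 0], ![1, 0, 0, -1, 1, 1, 0, 0], ![-1, -1, 0, 1, 0, 1, 0, 0], ![0, 0,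 0, 1, 0, 0, 0, -1], ![0, 1, 1, -1, 1, 0, -1, 1], ![0, 1, 1, 0, -1, 0, 1, 0], ![1, 1, -1, 0, 1, -1, 1, 0], ![-1, 1, 0, 0, 0, 1, 0, 0], ![0, -1, 1, 0, 1, -1, 1, 0], ![1, -1, -1, 1, 0, 1, 0, 0], ![0, 0, 0, 1, 0, 0, -1, 1], ![0, 1, 1, -1, 1, -1, 1, 0], ![1, 1, -1, 0, 0, 1, 0, 0], ![0, -1, 1, 0, 0, 1, 0, 0], ![0, 0, 0, 1, 0, -1, 1, 0], ![0, 1, 1, -1, 0, 1, 0, 0], ![0, 0, 0, 1, -1, 1, 0, 0], ![0, 0, 0, 0, 1, 0, 0, 0]] (by decide +kernel)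
  · exact H2.Ppd.index_ge cs isCartan_cE8 hi [![1, 1, -1, 1, -1, 0, 1, -1], ![1, 2, 0, -1, 0, 0, 0, 1], ![-1, 1, 0, 0, 1, -1, 1, -1], ![-1, 1, 0, 1, -1, 0, 0, 1], ![0, -1, 1, 0, 1, 0, -1, 0], ![0, -1, 1, 1, -1, 0, 1, -1], ![0, 0, 2, -1, 0, 0, 0, 1], ![1, -1, -1, 1, 1, -1, 1, -1], ![1, -1, -1, 2, -1, 0, 0, 1], ![1, 0, 0, -1, 1, 1, 0, -1], ![1, 0, 0, -1, 2, -1, 0, 1], ![1, 0, 0, 0, -1, 2, -1, 1], ![1, 0, 0, 0, 0, -1, 2, 0], ![-1, -1, 0, 1, 0, 1, 0, -1], ![-1, -1, 0, 1, 1, -1, 0, 1], ![-1, 0, 1, -1, 1, 1, -1, 1], ![-1, 0, 1, 0, -1, 1, 1, 0], ![0, 0, -1, 0, 1, 0, 1, 0], ![0, 1, 1, -1, 1, 0, -1, 0], ![0, 1, 1, 0, -1, 0, 1, -1], ![1, 1, -1, 0, 1, -1, 1, -1], ![1, 1, -1, 1, -1, 0, 0, 1], ![-1, 1, 0, 0, 0,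 1, 0, -1], ![-1, 1, 0, 0, 1, -1, 0, 1], ![0, -1, 1, 0, 1, -1, 1, -1], ![0, -1, 1, 1, -1, 0, 0, 1], ![1, -1, -1, 1, 0, 1, 0, -1], ![1, -1, -1, 1, 1, -1, 0, 1], ![1, 0, 0, -1, 1, 1, -1, 1], ![1, 0, 0, 0, -1, 1, 1, 0], ![-1, -1, 0, 1, 0, 1, -1, 1], ![-1, 0, 1, -1, 1, 0, 1, 0], ![0, 0, 0, 1, 0, 0, -1, 0], ![0, 1, 1, -1, 1, -1, 1, -1], ![0, 1, 1, 0, -1, 0, 0, 1], ![1, 1, -1, 0, 0, 1, 0, -1], ![1, 1, -1, 0, 1, -1, 0, 1], ![-1, 1, 0, 0, 0, 1, -1, 1], ![0, -1, 1, 0, 0, 1, 0, -1], ![0, -1, 1, 0, 1, -1, 0, 1], ![1, -1, -1, 1, 0, 1, -1, 1], ![1, 0, 0, -1, 1, 0, 1, 0], ![-1, -1, 0, 1, 0, 0, 1, 0], ![0, 0, 0, 1, 0, -1, 1, -1], ![0, 1, 1, -1, 0, 1, 0, -1], ![0, 1, 1, -1, 1, -1, 0, 1], ![1, 1, -1, 0, 0, 1, -1, 1],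 ![-1, 1, 0, 0, 0, 0, 1, 0], ![0, -1, 1, 0, 0, 1, -1, 1], ![1, -1, -1, 1, 0, 0, 1, 0], ![0, 0, 0, 1, -1, 1, 0, -1], ![0, 0, 0, 1, 0, -1, 0, 1], ![0, 1, 1, -1, 0, 1, -1, 1], ![1, 1, -1, 0, 0, 0, 1, 0], ![0, -1, 1, 0, 0, 0, 1, 0], ![0, 0, 0, 0, 1, 0, 0, -1], ![0, 0, 0, 1, -1, 1, -1, 1], ![0, 1, 1, -1, 0, 0, 1, 0], ![0, 0, 0, 0, 1, 0, -1, 1], ![0, 0, 0, 1, -1, 0, 1, 0], ![0, 0, 0, 0, 1, -1, 1, 0], ![0, 0, 0, 0, 0, 1, 0, 0]] (by decide +kernel)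
  · exact H2.Ppd.index_ge cs isCartan_cE8 hi [![0, 0, -1, 1, 0, -1, 1, 1], ![0, 1, 0, -1, 0, 1, 0, 1], ![1, 2, 0, -1, 0, 0, 0, 0], ![-1, 1, 0, 1, -1, 0, 0, 0], ![0, 0, 2, -1, 0, 0, 0, 0], ![1, -1, -1, 2, -1, 0, 0, 0], ![1, 0, 0, -1, 2, -1, 0, 0], ![1, 0, 0, 0, -1, 2, -1, 0], ![1, 0, 0, 0, 0, -1, 2, -1], ![1, 0, 0, 0, 0, 0, -1, 2], ![-1, -1, 0, 1, 1, -1, 0, 0], ![-1, 0, 1, -1, 1, 1, -1, 0], ![-1, 0, 1, 0, -1, 1, 1, -1], ![-1, 0, 1, 0, 0, -1, 1, 1], ![0, 0, -1, 0, 1, 0, 1, -1], ![0, 0, -1, 1, -1, 1, 0, 1], ![1, 1, -1, 1, -1, 0, 0, 0], ![-1, 1, 0, 0, 1, -1, 0, 0], ![0, -1, 1, 1, -1, 0, 0, 0], ![1, -1, -1, 1, 1, -1, 0, 0], ![1, 0, 0, -1, 1, 1, -1, 0], ![1, 0, 0, 0, -1, 1, 1, -1], ![1, 0, 0, 0, 0, -1, 1,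 1], ![-1, -1, 0, 1, 0, 1, -1, 0], ![-1, 0, 1, -1, 1, 0, 1, -1], ![-1, 0, 1, 0, -1, 1, 0, 1], ![0, 0, -1, 0, 1, 0, 0, 1], ![0, 1, 1, 0, -1, 0, 0, 0], ![1, 1, -1, 0, 1, -1, 0, 0], ![-1, 1, 0, 0, 0, 1, -1, 0], ![0, -1, 1, 0, 1, -1, 0, 0], ![1, -1, -1, 1, 0, 1, -1, 0], ![1, 0, 0, -1, 1, 0, 1, -1], ![1, 0, 0, 0, -1, 1, 0, 1], ![-1, -1, 0, 1, 0, 0, 1, -1], ![-1, 0, 1, -1, 1, 0, 0, 1], ![0, 1, 1, -1, 1, -1, 0, 0], ![1, 1, -1, 0, 0, 1, -1, 0], ![-1, 1, 0, 0, 0, 0, 1, -1], ![0, -1, 1, 0, 0, 1, -1, 0], ![1, -1, -1, 1, 0, 0, 1, -1], ![1, 0, 0, -1, 1, 0, 0, 1], ![-1, -1, 0, 1, 0, 0, 0, 1], ![0, 0, 0, 1, 0, -1, 0, 0], ![0, 1, 1, -1, 0, 1, -1, 0], ![1, 1, -1, 0, 0, 0, 1, -1], ![-1, 1, 0, 0, 0, 0, 0, 1], ![0, -1,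 1, 0, 0, 0, 1, -1], ![1, -1, -1, 1, 0, 0, 0, 1], ![0, 0, 0, 1, -1, 1, -1, 0], ![0, 1, 1, -1, 0, 0, 1, -1], ![1, 1, -1, 0, 0, 0, 0, 1], ![0, -1, 1, 0, 0, 0, 0, 1], ![0, 0, 0, 0, 1, 0, -1, 0], ![0, 0, 0, 1, -1, 0, 1, -1], ![0, 1, 1, -1, 0, 0, 0, 1], ![0, 0, 0, 0, 1, -1, 1, -1], ![0, 0, 0, 1, -1, 0, 0, 1], ![0, 0, 0, 0, 0, 1, 0, -1], ![0, 0, 0, 0, 1, -1, 0, 1], ![0, 0, 0, 0, 0, 1, -1, 1], ![0, 0, 0, 0, 0, 0, 1, 0]] (by decide +kernel)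
  · exact H2.Ppd.index_ge cs isCartan_cE8 hi [![1, 0, -1, 0, 1, -1, 1, -1], ![1, 0, -1, 1, -1, 0, 0, 1], ![-1, 0, 0, 0, 0, 1, 0, -1], ![-1, 0, 0, 0, 1, -1, 0, 1], ![0, -1, 0, 1, 0, 0, -1, 0], ![0, 0, 1, -1, 1, -1, 1, -1], ![0, 0, 1, 0, -1, 0, 0, 1], ![1, 0, -1, 0, 0, 1, 0, -1], ![1, 0, -1, 0, 1, -1, 0, 1], ![-1, 0, 0, 0, 0, 1, -1, 1], ![0, 1, 0, 0, 0, 0, -1, 0], ![0, -1, 0, 1, 0, -1, 1, -1], ![0, 0, 1, -1, 0, 1, 0, -1], ![0, 0, 1, -1, 1, -1, 0, 1], ![1, 0, -1, 0, 0, 1, -1, 1], ![-1, 0, 0, 0, 0, 0, 1, 0], ![0, 1, 0, 0, 0, -1, 1, -1], ![0, -1, 0, 1, -1, 1, 0, -1], ![0, -1, 0, 1, 0, -1, 0, 1], ![0, 0, 1, -1, 0, 1, -1, 1], ![1, 0, -1, 0, 0, 0, 1, 0], ![0, 1, 0, 0, -1, 1, 0, -1], ![0, 1, 0, 0, 0, -1, 0,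 1], ![0, -1, 0, 0, 1, 0, 0, -1], ![0, -1, 0, 1, -1, 1, -1, 1], ![0, 0, 1, -1, 0, 0, 1, 0], ![0, 1, 0, -1, 1, 0, 0, -1], ![0, 1, 0, 0, -1, 1, -1, 1], ![0, -1, 0, 0, 1, 0, -1, 1], ![0, -1, 0, 1, -1, 0, 1, 0], ![0, 0, -1, 1, 0, 0, 0, -1], ![0, 1, 0, -1, 1, 0, -1, 1], ![0, 1, 0, 0, -1, 0, 1, 0], ![0, -1, 0, 0, 1, -1, 1, 0], ![-1, 0, 1, 0, 0, 0, 0, -1], ![0, 0, -1, 1, 0, 0, -1, 1], ![0, 1, 0, -1, 1, -1, 1, 0], ![0, -1, 0, 0, 0, 1, 0, 0], ![1, 0, 0, 0, 0, 0, 0, -1], ![-1, 0, 1, 0, 0, 0, -1, 1], ![0, 0, -1, 1, 0, -1, 1, 0], ![0, 1, 0, -1, 0, 1, 0, 0], ![1, 0, 0, 0, 0, 0, -1, 1], ![-1, 0, 1, 0, 0, -1, 1, 0], ![0, 0, -1, 1, -1, 1, 0, 0], ![1, 0, 0, 0, 0, -1, 1, 0], ![-1, 0, 1, 0, -1, 1, 0, 0], ![0, 0, -1, 0,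 1, 0, 0, 0], ![1, 0, 0, 0, -1, 1, 0, 0], ![-1, 0, 1, -1, 1, 0, 0, 0], ![1, 0, 0, -1, 1, 0, 0, 0], ![-1, -1, 0, 1, 0, 0, 0, 0], ![-1, 1, 0, 0, 0, 0, 0, 0], ![1, -1, -1, 1, 0, 0, 0, 0], ![1, 1, -1, 0, 0, 0, 0, 0], ![0, -1, 1, 0, 0, 0, 0, 0], ![0, 1, 1, -1, 0, 0, 0, 0], ![0, 0, 0, 1, -1, 0, 0, 0], ![0, 0, 0, 0, 1, -1, 0, 0], ![0, 0, 0, 0, 0, 1, -1, 0], ![0, 0, 0, 0, 0, 0, 1, -1], ![0, 0, 0, 0, 0, 0, 0, 1]] (by decide +kernel)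

end Cfsg.Agent.SM.Ti.Lo
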