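import Cfsg.Agent.SM.Ti.Deg
import Cfsg.Agent.SM.Ti.IdxE

/-!
# S3570, tight cores: socles `F₄`, `E₆`, `E₇`, `E₈`, `²E₆` (helper69; set-ups from `H2/Ppd/Exc`)

`not_f4` (below the borderline), `not_e6`, `not_e7`, `not_e8`, `not_2e6`.
-/

set_option autoImplicit false
set_option linter.unusedSectionVars false
set_option linter.style.haveILetI false

namespace Cfsg.Agent.SM.Ti.Lo

universe u

open Matrix CoxeterSystem Cfsg.Agent.ChevalleyStructure.CoxeterGeom Cfsg.Agent.Tits.Roots Cfsg.Agent.Tits.Core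
  Cfsg.Agent.Tits.Exchange Cfsg.Agent.Nodes.Reps Cfsg.Agent.Nodes.BNOf Cfsg.Agent.Nodes.Bruhat
open Cfsg.Agent.H905.DC Cfsg.Agent.H915.LD Cfsg.Agent.H100.Ppd Cfsg.Agent.KFacts.MulOdd.Inst
open Cfsg.Agent.H64.CrossChev (Nd nd isType_F4 isType_E6 isType_E7 isType_E8 parity_E7)
open Cfsg.Agent.Nodes.RGDChev (IsType)
open Cfsg.Lie Cfsg.Agent.ChevalleyStructure Cfsg.Agent.ChevalleyStructure.Elts
  Cfsg.Agent.ChevalleyStructure.CoxeterGeomTypes Cfsg.Agent.KFacts.MulOdd.InstChev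
open Cfsg Cfsg.Geo
open scoped MatrixGroups
open Cfsg.Agent.H2.Ppd

theorem le_mul_div {a b : ℕ} (ha : 0 < a) : b ≤ a * (b / Nat.gcd a b) := by
  conv_lhs => rw [← Nat.mul_div_cancel' (Nat.gcd_dvd_right a b)]
  exact Nat.mul_le_mul_right _ (Nat.gcd_le_left _ ha)

theorem le_div {p a b d m : ℕ} (hp : 1 < p) (ha : 0 < a) (h : (p ^ a) ^ m ≤ (p ^ b) ^ d) : m ≤ d * (b / Nat.gcd a b) := by
  rw [← pow_mul, ← pow_mul, Nat.pow_le_pow_iff_right hp] at h
  refine Nat.le_of_mul_le_mul_left (h.trans ?_) ha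
  rw [mul_comm d, ← mul_assoc]
  exact Nat.mul_le_mul_right _ (le_mul_div ha)

theorem lt_div {p a b d m : ℕ} (hp : 1 < p) (ha : 0 < a) (h : (p ^ a) ^ m < (p ^ b) ^ d) : m < d * (b / Nat.gcd a b) := by
  rw [← pow_mul, ← pow_mul, Nat.pow_lt_pow_iff_right hp] at h
  refine Nat.lt_of_mul_lt_mul_left (a := a) (h.trans_le ?_)
  rw [mul_comm d, ← mul_assoc]
  exact Nat.mul_le_mul_right _ (le_mul_div ha)

variable {n : ℕ} {F : Type u} [Field F] [Finite F] {m : ℕ} {P : Subgroup (GL (Fin n) F)}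
  {K : Type} [Field K] [Fintype K] (p : ℕ) [hp : Fact p.Prime] [hFp : CharP F p] [hKp : CharP K p]
include hp hFp hKp

theorem chev (h : Tc m P) {D : ChevalleyDatum} {l : ℕ} {M : CoxeterMatrix (Fin l)} (ht : IsType D l M)
    (hpar : parity D l = true) {c : ℕ}
    (hidx : ∀ (_ : Finite M.Group) (J : Set (Fin l)) (i : Fin l), i ∉ J → c ≤ (WJ M.toCoxeterSystem J).index)
    (e : Soc P ≃* ↥(D.group K)) : ∃ j, 1 ≤ j ∧ c * j ≤ n ∧ ∀ d, (Nat.card F ^ m ≤ Fintype.card K ^ d → m ≤ d * j) ∧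
      (Nat.card F ^ m < Fintype.card K ^ d → m < d * j) := by
  obtain ⟨a, ha, hF'⟩ := exists_exp F p
  obtain ⟨b, -, hK⟩ := FiniteField.card K p
  have : Finite M.Group := Cfsg.Agent.Nodes.RGDChev.finite_W ht M.toCoxeterSystem
  obtain ⟨J, ⟨i, hi⟩, h2, -⟩ := exists_J h.core (Cfsg.Agent.Nodes.RGDChev.rgd (K := K) ht M.toCoxeterSystem p)
    (Cfsg.Agent.Nodes.RGDChev.G1_eq_top ht M.toCoxeterSystem)
    (fun s hs t ht' => Subtype.ext (diag_comm ht.inList hs ht')) (E := fun _ => K) (nd ht hpar K) e hF'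
    (f := fun _ => (b : ℕ)) (fun _ => hK)
  have h3 := h2 i hi
  rw [Fintype.card_fin] at h3
  have h4 := hidx this J i hi
  have h5 : 1 ≤ (b : ℕ) / Nat.gcd a b :=
    Nat.div_pos (Nat.le_of_dvd b.pos (Nat.gcd_dvd_right _ _)) (Nat.gcd_pos_of_pos_right _ b.pos)
  have h6 := (Nat.mul_le_mul h4 (two_mul_le_two_pow h5)).trans h3
  refine ⟨_, h5, ?_, fun d => ?_⟩
  · rw [mul_left_comm] at h6
    omega
  · rw [hF', hK]
    exact ⟨le_div hp.out.one_lt ha, lt_div hp.out.one_lt ha⟩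

theorem not_f4 (h : Tc m P) (hlt : Nat.card F ^ m < Fintype.card K ^ 12) (e : Soc P ≃* ↥(Cfsg.Lie.chevF4.group K)) :
    False := by
  obtain ⟨j, -, h1, h2⟩ := chev p h isType_F4 parity_F4 (c := 24) (fun _ J i hi => index_F4 _ hi) e
  have h3 := (h2 12).2 hlt
  have h4 := h.hi
  omega

theorem not_e6 (h : Tc m P) (e : Soc P ≃* ↥(Cfsg.Lie.chevE6.group K)) : False := by
  obtain ⟨j, h0, h1, h2⟩ := chev p h isType_E6 parity_E6 (c := 26) (fun _ J i hi => Lo.index_E6 _ hi) e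
  have h3 := (h2 12).1 (h.le_of_dg e (H47.Fd.fd_e6 p) (Nat.card_eq_fintype_card (α := K) ▸ exists_exp K p) (by norm_num) dg_e6)
  have h4 := h.hi
  omega

theorem not_e7 (h : Tc m P) (e : Soc P ≃* ↥(Cfsg.Lie.chevE7.group K)) : False := by
  obtain ⟨j, h0, h1, h2⟩ := chev p h isType_E7 parity_E7 (c := 38) (fun _ J i hi => Lo.index_E7 _ hi) e
  have h3 := (h2 18).1 (h.le_of_dg e (H47.Fd.fd_e7 p) (Nat.card_eq_fintype_card (α := K) ▸ exists_exp K p) (by norm_num) dg_e7)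
  have h4 := h.hi
  omega

theorem not_e8 (h : Tc m P) (e : Soc P ≃* ↥(Cfsg.Lie.chevE8.group K)) : False := by
  obtain ⟨j, h0, h1, h2⟩ := chev p h isType_E8 parity_E8 (c := 62) (fun _ J i hi => Lo.index_E8 _ hi) e
  have h3 := (h2 30).1 (h.le_of_dg e (H47.Fd.fd_e8 p) (Nat.card_eq_fintype_card (α := K) ▸ exists_exp K p) (by norm_num) dg_e8)
  have h4 := h.hi
  omega

omit hFp in
theorem exists_q {q c : ℕ} (hq : IsPrimePow q) (hc : c ≠ 0) (hK : Fintype.card K = q ^ c) : ∃ b, 0 < b ∧ q = p ^ b := by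
  obtain ⟨b', -, hK'⟩ := FiniteField.card K p
  obtain ⟨s, x, hs, hx, rfl⟩ := (isPrimePow_nat_iff _).1 hq
  have h2 : s ∣ p ^ (b' : ℕ) := by
    rw [← hK', hK]
    exact dvd_pow (dvd_pow_self s hx.ne') hc
  exact ⟨x, hx, by rw [(Nat.prime_dvd_prime_iff_eq hs hp.out).1 (hs.dvd_of_dvd_pow h2)]⟩

theorem not_2e6_lt (h : Tc m P) {q₀ : ℕ} (hq : IsPrimePow q₀) (hK : Fintype.card K = q₀ ^ 2)
    (hlt : Nat.card F ^ m < Fintype.card K ^ 9) (e : Soc P ≃* ↥(Cfsg.Lie.twistedE6 K q₀)) : False := by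
  classical
  obtain ⟨a, ha, hF'⟩ := exists_exp F p
  obtain ⟨b, hb, hqb⟩ := exists_q p hq two_ne_zero hK
  have hq1 := hq.one_lt
  have hb2 : 0 < b * 2 := by omega
  have h7 : m < 9 * (b * 2 / Nat.gcd a (b * 2)) := by
    rw [hF', hK, hqb, ← pow_mul p b] at hlt
    exact lt_div hp.out.one_lt ha hlt
  -- the data
  obtain ⟨φ, hφ, hqq⟩ := TwE6Basic.exists_frob hq hK
  let _ : ∀ i : Fin 4, Fintype (Cfsg.Agent.Nodes.RGDFoldSL.Fx φ ((Nodes.RGDTwNode.E6.rest i).length + 1)) :=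
    fun i => Fintype.ofFinite _
  have hch : ∀ i : Fin 4, CharP (Cfsg.Agent.Nodes.RGDFoldSL.Fx φ ((Nodes.RGDTwNode.E6.rest i).length + 1)) p :=
    fun i => (RingHom.charP_iff (Cfsg.Agent.Nodes.RGDFoldSL.Fx φ _).subtype
      (Cfsg.Agent.Nodes.RGDFoldSL.Fx φ _).subtype_injective p).2 inferInstance
  have hN := fun i : Fin 4 =>
    Cfsg.Agent.H59.CrossTw.nd_fold (Nodes.RGDTwE6.foldGrp hφ hqq) (Nodes.RGDTwNode.E6.nodeOK i) (φ := φ)
      (fun s hs t => by rw [Nodes.RGDTwNode.E6.eps_one i s hs, Int.cast_one, one_mul])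
      (Cfsg.Agent.KFacts.MulOdd.InstTw.parityTw_spec Cfsg.Agent.KFacts.MulOdd.InstTw.parity_E6 i).choose_spec.1
      (Cfsg.Agent.KFacts.MulOdd.InstTw.parityTw_spec Cfsg.Agent.KFacts.MulOdd.InstTw.parity_E6 i).choose_spec.2
  have hW : Finite CoxeterMatrix.F₄.Group :=
    Cfsg.Agent.Nodes.RGDFold.finite_W (hp := isType_E6) CoxeterMatrix.F₄.toCoxeterSystem Nodes.RGDTwE6.isCartan
      Nodes.RGDTwE6.foldData
  have hcard : ∀ i : Fin 4, Fintype.card (Cfsg.Agent.Nodes.RGDFoldSL.Fx φ ((Nodes.RGDTwNode.E6.rest i).length + 1)) =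
      p ^ (![b, b, b * 2, b * 2] i) := by
    have e1 : Nat.card (Cfsg.Agent.Nodes.RGDFoldSL.Fx φ 1) = q₀ := by
      have h2 := Cfsg.Agent.H59.CrossTw.card_Fx_one hq1 hK hφ
      have h3 : 0 < Nat.card (Cfsg.Agent.Nodes.RGDFoldSL.Fx φ 1) := Nat.card_pos
      omega
    have e2 := Cfsg.Agent.H59.CrossTw.card_Fx_eq hK hφ
    intro i
    rw [← Nat.card_eq_fintype_card]
    fin_cases i
    · exact e1.trans hqb
    · exact e1.trans hqb
    · refine e2.trans ?_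
      rw [hqb, ← pow_mul]
      rfl
    · refine e2.trans ?_
      rw [hqb, ← pow_mul]
      rfl
  obtain ⟨J, ⟨i, hi⟩, h2, h3⟩ := exists_J h.core
    (Nodes.RGDFold.rgd CoxeterMatrix.F₄.toCoxeterSystem Nodes.RGDTwE6.isCartan Nodes.RGDTwE6.foldData
      (Nodes.RGDTwE6.foldGrp hφ hqq) p)
    (Nodes.RGDFold.G1_eq_top CoxeterMatrix.F₄.toCoxeterSystem Nodes.RGDTwE6.isCartan Nodes.RGDTwE6.foldData
      (Nodes.RGDTwE6.foldGrp hφ hqq) p)
    (fun s hs t ht' => Subtype.ext (diag_comm isType_E6.inList (Subgroup.mem_subgroupOf.1 hs).1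
      (Subgroup.mem_subgroupOf.1 ht').1)) hN e hF' hcard
  rw [Fintype.card_fin] at h2 h3
  have h8 := h.hi
  -- `e_S` and `e_L`
  have hS : 1 ≤ b * 2 / Nat.gcd a (b * 2) :=
    Nat.div_pos (Nat.le_of_dvd hb2 (Nat.gcd_dvd_right _ _)) (Nat.gcd_pos_of_pos_right _ hb2)
  have hL : 1 ≤ b / Nat.gcd a b :=
    Nat.div_pos (Nat.le_of_dvd hb (Nat.gcd_dvd_right _ _)) (Nat.gcd_pos_of_pos_right _ hb)
  have hSL : b * 2 / Nat.gcd a (b * 2) ≤ 2 * (b / Nat.gcd a b) := div_gcd_le hb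
  have g2 := h2 2
  have g3 := h2 3
  have g1 := h2 1
  change 2 ∉ J → _ * 2 ^ (b * 2 / Nat.gcd a (b * 2)) ≤ _ at g2
  change 3 ∉ J → _ * 2 ^ (b * 2 / Nat.gcd a (b * 2)) ≤ _ at g3
  change 1 ∉ J → _ * 2 ^ (b / Nat.gcd a b) ≤ _ at g1
  have g0 := fun h0 : (0 : Fin 4) ∉ J => fun hJ => h3 0 h0 hJ 3 (LF.filter fun v => decide (0 < v 3))
    (LF.filter fun v => decide (v 3 = 0))
  change ∀ h0 : (0 : Fin 4) ∉ J, _ → _ → _ → _ → _ → _ → _ →
    _ * 2 ^ (b * 2 / Nat.gcd a (b * 2)) + _ ≤ _ at g0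
  set S := b * 2 / Nat.gcd a (b * 2) with hSdef
  set T := b / Nat.gcd a b with hTdef
  have hSp := two_mul_le_two_pow hS
  have hTp := two_mul_le_two_pow hL
  by_cases h20 : (2 : Fin 4) ∈ J
  swap
  · have h9 := g2 h20
    have h10 := Nat.mul_le_mul (index_F4 CoxeterMatrix.F₄.toCoxeterSystem h20) hSp
    omega
  by_cases h30 : (3 : Fin 4) ∈ J
  swap
  · have h9 := g3 h30
    have h10 := Nat.mul_le_mul (index_F4 CoxeterMatrix.F₄.toCoxeterSystem h30) hSp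
    omega
  by_cases h10 : (1 : Fin 4) ∈ J
  swap
  · have h9 := g1 h10
    have h10 := Nat.mul_le_mul (index_F4' CoxeterMatrix.F₄.toCoxeterSystem h10) hTp
    omega
  have h00 : (0 : Fin 4) ∉ J := by
    intro h0
    apply hi
    fin_cases i
    · exact h0
    · exact h10
    · exact h20
    · exact h30
  obtain ⟨o1, o2⟩ := exists_of_chn CoxeterMatrix.F₄.toCoxeterSystem Nodes.RGDTwE6.isCartan chn_LF
  have h9 := g0 h00 (by
      intro i hi
      fin_cases i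
      · rfl
      · exact absurd h10 hi
      · exact absurd h20 hi
      · exact absurd h30 hi)
    (fun v hv => of_decide_eq_true (List.mem_filter.1 hv).2)
    (fun v hv => of_decide_eq_true (List.mem_filter.1 hv).2)
    (o2.filter _) (o2.filter _) (fun v hv => o1 v (List.mem_filter.1 hv).1) (fun v hv => o1 v (List.mem_filter.1 hv).1)
  rw [LF_pos, LF_zero] at h9
  -- `6 * 2 ^ S + 12 ≥ 18 S`
  have h11 : 18 * S ≤ 6 * 2 ^ S + 12 := by
    rcases Nat.lt_or_ge S 2 with h12 | h12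
    · have h13 : S = 1 := by omega
      rw [h13]
      norm_num
    · have h14 := three_mul_le h12
      omega
  omega

omit hp hFp hKp in
theorem not_dvd_add {r x : ℕ} (hr : r.Prime) (h2 : r ≠ 2) (hx : 1 ≤ x) (h1 : r ∣ x - 1) : ¬ r ∣ x + 1 := fun h3 => by
  have h4 := Nat.dvd_sub h3 h1
  rw [show x + 1 - (x - 1) = 2 by omega] at h4
  exact h2 ((Nat.prime_dvd_prime_iff_eq hr Nat.prime_two).1 h4)

theorem not_2e6 (h : Tc m P) {q₀ : ℕ} (hq : IsPrimePow q₀) (hK : Fintype.card K = q₀ ^ 2)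
    (e : Soc P ≃* ↥(Cfsg.Lie.twistedE6 K q₀)) : False := by
  have hT := H47.Fd.fd_2e6 p hq hK
  have hD := dg_2e6 hq hK
  rcases (h.le_of_dg e hT (Nat.card_eq_fintype_card (α := K) ▸ exists_exp K p) (by norm_num) hD).eq_or_lt with heq | hlt
  swap
  · exact not_2e6_lt p h hq hK hlt e
  obtain ⟨a, ha, hF⟩ := exists_exp F p
  obtain ⟨b, hb, rfl⟩ := exists_q p hq two_ne_zero hK
  rw [hK, ← pow_mul] at hD
  rw [hK, hF, ← pow_mul, ← pow_mul, ← pow_mul] at heq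
  have ham : a * m = b * (2 * 9) := Nat.pow_right_injective hp.out.two_le heq
  have h6 := h.six
  obtain ⟨r, hr, h3, h4, h5, h7⟩ := h.ppd (k := b * 9) hp.out hF (by omega) (by omega) ⟨2, by rw [ham]; ring⟩ fun h3 => by
    have h4 := Nat.mul_le_mul (Nat.le_of_dvd ha h3) h6
    omega
  have h8 := Nat.le_of_dvd (by have := hr.two_le; omega) h5
  have h9 := hr.two_le
  have h10 := h.dvd_card e hp.out hT hD hr (by omega) (fun h10 => (hr.dvd_mul.1 h10).elim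
    (fun h11 => by have := Nat.le_of_dvd hb h11; omega) fun h11 => by have := Nat.le_of_dvd two_pos h11; omega) (by omega) h3
  have key : ∀ i, r ∣ (p ^ b) ^ i - 1 ↔ 9 ∣ i := fun i => by rw [← pow_mul, h4, Nat.mul_dvd_mul_iff_left hb]
  have h11 := h10.mul_left (Nat.gcd 3 (p ^ b + 1))
  rw [S1066.result hq hK] at h11
  simp only [hr.dvd_mul, key] at h11
  rcases h11 with (((((h11 | h11) | h11) | h11) | h11) | h11) | h11
  · exact h7 (hr.dvd_of_dvd_pow (hr.dvd_of_dvd_pow h11))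
  · omega
  · have := (key _).1 (h11.trans (add_dvd_sub _ 5))
    omega
  · omega
  · omega
  · exact not_dvd_add hr (by omega) (Nat.one_le_pow _ _ (pow_pos hp.out.pos _)) ((key 9).2 dvd_rfl) h11
  · omega

end Cfsg.Agent.SM.Ti.Lo
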