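import Cfsg.Agent.SM.Ti.BC.Bord
import Cfsg.Agent.SM.Ti.BC.Spin
import Cfsg.Agent.H218.SdC
import Cfsg.Agent.H948.Ppd.Podd
import Cfsg.Agent.H948.Ppd.PmLevi
import Cfsg.Agent.H650.Ppd.Psp

/-!
# S3570, tight cores: the spin modules fix no unitary form (helper69, `notes/SM/ti.md`)

* `no_unit` : an edge of dimension two, `-1` inverts the torus modulo the centre: no invariant unitary form;
* `model` : the same for a tight core of degree `16` and type `B₄`;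
* **`podd`**, **`psp`**.
-/

set_option autoImplicit false
set_option linter.unusedSectionVars false
set_option linter.style.haveILetI false

namespace Cfsg.Agent.SM.Ti.KU

section abs

open CoxeterSystem Cfsg.Agent.ChevalleyStructure.CoxeterGeom Cfsg.Agent.Tits.Roots Cfsg.Agent.Tits.Core
  Cfsg.Agent.Tits.Exchange Cfsg.Agent.Nodes.Reps Cfsg.Agent.Nodes.BNOf Cfsg.Agent.Nodes.StabComb
  Cfsg.Agent.Nodes.Bruhat Cfsg.Agent.Nodes.OppDec Cfsg.Agent.Nodes.LeviDec Cfsg.Agent.KFacts.RgdOpp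
  Cfsg.Agent.Omega.CR Cfsg.Agent.Omega.FOne.Lift.Sd Cfsg.Agent.H905.Md Cfsg.Agent.H905 Cfsg.Agent.H924.D5
open Cfsg.Agent.H911.SLTwo
open Cfsg.Agent.H948.Ppd (Nd)
open scoped MatrixGroups

theorem ww_hh {E : Type*} [Field E] (s : Eˣ) : (ww : SL(2, E))⁻¹ * hh s * ww = (hh s)⁻¹ := by
  apply ext' <;> simp only [m00, m01, m10, m11, hh00, hh01, hh10, hh11, i00, i01, i10, i11, ww00, ww01, ww10, ww11] <;> ring

theorem hh_Lo {E : Type*} [Field E] (s : Eˣ) (y : E) : (hh s)⁻¹ * Lo y * hh s = Lo ((s : E) ^ 2 * y) := by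
  have h1 := s.inv_mul
  apply ext' <;> simp only [m00, m01, m10, m11, hh00, hh01, hh10, hh11, i00, i01, i10, i11, Lo00, Lo01, Lo10, Lo11]
  · linear_combination h1
  · ring
  · ring
  · linear_combination h1

theorem hh_pow {E : Type*} [Field E] (s : Eˣ) (k : ℕ) : hh s ^ k = hh (s ^ k) := by
  induction k with
  | zero => rw [pow_zero, pow_zero, hh_one]
  | succ k ih => rw [pow_succ, ih, hh_mul, pow_succ]

theorem inv_sq {Y : Type*} [Group Y] {w m t : Y} (hz : w⁻¹ * t⁻¹ * w * t⁻¹ ∈ Subgroup.center Y)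
    (hm : m⁻¹ * t * m = t⁻¹) (hc : m⁻¹ * (w⁻¹ * m * w) * t = t * (m⁻¹ * (w⁻¹ * m * w))) :
    w⁻¹ * (t ^ 2)⁻¹ * w = t ^ 2 := by
  obtain ⟨z, e1⟩ : ∃ z, w⁻¹ * t⁻¹ * w * t⁻¹ = z := ⟨_, rfl⟩
  obtain ⟨a, e2⟩ : ∃ a, m⁻¹ * (w⁻¹ * m * w) = a := ⟨_, rfl⟩
  rw [e1] at hz
  rw [e2] at hc
  have h1 := Subgroup.mem_center_iff.1 (inv_mem hz)
  have h2 : w⁻¹ * t⁻¹ * w = z * t := by rw [← e1]; group
  have h3 : m⁻¹ * t⁻¹ * m = t := by
    calc _ = (m⁻¹ * t * m)⁻¹ := by group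
      _ = t := by rw [hm, inv_inv]
  have h4 : w⁻¹ * t⁻¹ * w = t * z⁻¹ := by
    calc _ = w⁻¹ * (m⁻¹ * t * m) * w := by rw [hm]
      _ = a⁻¹ * (m⁻¹ * (w⁻¹ * t⁻¹ * w)⁻¹ * (m * a)) := by rw [← e2]; group
      _ = a⁻¹ * (m⁻¹ * t⁻¹ * (z⁻¹ * (m * a))) := by rw [h2]; group
      _ = a⁻¹ * (m⁻¹ * t⁻¹ * m * a) * z⁻¹ := by rw [← h1]; group
      _ = _ := by rw [h3, ← hc]; group
  calc _ = (w⁻¹ * t⁻¹ * w) * (w⁻¹ * t⁻¹ * w) := by rw [pow_two]; group
    _ = t * z⁻¹ * (z * t) := by rw [← h2, ← h4]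
    _ = _ := by rw [pow_two]; group

variable {I W Y : Type*} [Fintype I] [DecidableEq I] [Group W] [Group Y] {M : CoxeterMatrix I}
  {cs : CoxeterSystem M W} {A : I → I → ℤ} {h : IsCartan M A} {p : ℕ} {T : Subgroup Y} {n : I → Y}
  {X : (I → ℤ) → Subgroup Y} {k V : Type*} [Field k] [AddCommGroup V] [Module k V]

/-- **No invariant unitary form.** -/
theorem no_unit (R : RGD cs h p T n X) [Finite Y] [Finite W] [Fact p.Prime] [CharP k p]
    {ρ : Y →* Module.End k V} [FiniteDimensional k V] [Nontrivial V]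
    (hirr : ∀ L : Submodule k V, Ivt ρ (GG cs h T X) L → L = ⊥ ∨ L = ⊤) (hT : ∀ s ∈ T, ∀ t ∈ T, s * t = t * s)
    {i : I} (hi : i ∉ Jx cs h X ρ) (hD : Module.finrank k (D cs h X ρ) = 1)
    (hE : Module.finrank k (Le cs h T X ρ {i}) ≤ 2) {E : Type*} [Field E] {σ : SL(2, E) →* Y} (N : Nd T X i σ)
    {w0 : W} (hw0 : ∀ x, rep cs h w0 x = -x) {w : Y} (hw : Rp cs R.nsys w0 w)
    (hz : ∀ t ∈ T, w⁻¹ * t⁻¹ * w * t⁻¹ ∈ Subgroup.center Y) {d : ℕ} {s : Eˣ} (hs : ((s ^ d : Eˣ) : E) ^ 2 ≠ 1)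
    {L : V → Module.Dual k V} (hL : ∀ g c v, L (ρ g c) (ρ g v) = L c v)
    (hLs : ∀ (a : k) c v, L (a • c) v = a ^ (d + 1) * L c v) (hL0 : ∀ c, c ≠ 0 → L c ≠ 0) : False := by
  obtain ⟨c, hc, hc0⟩ := (Submodule.ne_bot_iff _).1 (simp_fx R ρ hirr).ne
  have hspan : ∀ v ∈ D cs h X ρ, ∃ a : k, a • c = v := by
    intro v hv
    obtain ⟨a, ha⟩ := (finrank_eq_one_iff_of_nonzero' (⟨c, hc⟩ : D cs h X ρ) fun e => hc0 (congrArg Subtype.val e)).1 hD
      ⟨v, hv⟩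
    exact ⟨a, congrArg Subtype.val ha⟩
  choose! χ hχ using fun t (ht : t ∈ T) => hspan _ (D_ivt R hirr t ht c hc)
  have hmul : ∀ t ∈ T, ∀ t' ∈ T, χ (t * t') = χ t * χ t' := by
    intro t ht t' ht'
    have h1 := hχ _ (mul_mem ht ht')
    rw [rho_mul, ← hχ t' ht', map_smul, ← hχ t ht, smul_smul, mul_comm] at h1
    exact smul_left_injective k hc0 h1
  have hone : χ 1 = 1 := by
    have h1 := hχ 1 (one_mem T)
    rw [rho_one] at h1
    exact smul_left_injective k hc0 (h1.trans (one_smul k c).symm)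
  have hpow : ∀ t ∈ T, ∀ j : ℕ, χ (t ^ j) = χ t ^ j := by
    intro t ht j
    induction j with
    | zero => rw [pow_zero, pow_zero, hone]
    | succ j ih => rw [pow_succ, hmul _ (pow_mem ht j) _ ht, ih, pow_succ]
  have hinv : ∀ t ∈ T, χ t⁻¹ * χ t = 1 := fun t ht => by rw [← hmul _ (inv_mem ht) _ ht, inv_mul_cancel, hone]
  -- the form pairs the highest and the lowest vector
  have hU : ∀ b ∈ RGD.Sup X (RGD.Pos cs h), dualRep ρ b (L c) = L c := by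
    intro b hb
    ext v
    rw [dualRep_apply, ← hL b c (ρ b⁻¹ v), hc b hb, rho_rho_inv]
  have h1 : dualRep ρ w⁻¹ (L c) ∈ fx (dualRep ρ) (UN cs h X) := by
    refine mem_fx_Sup fun x hx b hb => ?_
    have h2 := R.conj_mem hw hx.1 hb
    rw [hw0] at h2
    have h3 := hU _ (RGD.le_Sup (S := RGD.Pos cs h) ⟨hx.1.neg, neg_nonneg.2 hx.2⟩ h2)
    have e : dualRep ρ b (dualRep ρ w⁻¹ (L c)) = dualRep ρ w⁻¹ (dualRep ρ (w * b * w⁻¹) (L c)) := by
      rw [← rho_mul, ← rho_mul]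
      congr 2
      group
    rw [e, h3]
  have h2 : L c (ρ w c) ≠ 0 := by
    obtain ⟨v, hv, h3⟩ := exists_pair_D' R hirr h1 (rho_ne_zero _ _ (hL0 c hc0))
    obtain ⟨a, rfl⟩ := hspan v hv
    rw [dualRep_apply, inv_inv, map_smul, map_smul, smul_eq_mul] at h3
    exact right_ne_zero_of_mul h3
  have hcj : ∀ {u : W} {g : Y}, Rp cs R.nsys u g → ∀ t ∈ T, g⁻¹ * t * g ∈ T := fun hg t ht =>
    H218.SdAbs.conj_inv_mem_T R hg ht
  have h3 : ∀ t ∈ T, χ (w⁻¹ * t * w) * χ t ^ (d + 1) = 1 := by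
    intro t ht
    have h4 := hL t c (ρ w c)
    have h5 : ρ t (ρ w c) = χ (w⁻¹ * t * w) • ρ w c := by
      rw [← map_smul, hχ _ (hcj hw t ht), ← rho_mul, ← rho_mul]
      congr 2
      group
    rw [h5, ← hχ t ht, map_smul, hLs, smul_eq_mul, ← mul_assoc] at h4
    exact mul_right_cancel₀ h2 (h4.trans (one_mul _).symm)
  -- `w` inverts the squares
  have hm := N.rp_ww R
  have hmt : ∀ s : Eˣ, (σ ww)⁻¹ * σ (hh s) * σ ww = (σ (hh s))⁻¹ := fun s => by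
    rw [← map_inv, ← map_mul, ← map_mul, ww_hh, map_inv]
  set t := σ (hh s) with ht
  have htT : t ∈ T := N.tor s
  have h4 : w⁻¹ * (t ^ 2)⁻¹ * w = t ^ 2 := by
    have hw1 : w0⁻¹ * cs.simple i * w0 = cs.simple i := by
      apply rep_injective cs h
      refine LinearMap.ext fun x => ?_
      rw [rep_mul_apply, rep_mul_apply, hw0, map_neg, ← hw0, rep_inv_apply]
    have h5 := (hw.inv.mul hm).mul hw
    rw [hw1] at h5
    exact inv_sq (hz t htT) (hmt s) (hT _ (hm.unique h5) _ htT)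
  -- an element of the torus which is a scalar on the edge
  have ht2 := pow_mem htT 2
  have h5 : χ (t ^ d)⁻¹ = χ (t ^ d) := by
    have h6 := h3 _ (inv_mem ht2)
    rw [h4] at h6
    have h7 := hinv _ ht2
    have h8 : χ (t ^ 2)⁻¹ ^ d = 1 := by
      rw [pow_succ' _ d, ← mul_assoc, mul_comm (χ (t ^ 2)), h7, one_mul] at h6
      exact h6
    have h9 : χ (t ^ 2) ^ d = 1 := by
      have h10 := congrArg (· ^ d) h7
      simp only [mul_pow, h8, one_mul, one_pow] at h10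
      exact h10
    have h10 := hinv _ (pow_mem htT d)
    rw [hpow t htT, ← pow_mul, mul_comm, pow_mul, ← hpow t htT, pow_two] at h9
    exact mul_right_cancel₀ (right_ne_zero_of_mul_eq_one h9) (h10.trans h9.symm)
  have htd : t ^ d = σ (hh (s ^ d)) := by rw [ht, ← map_pow, hh_pow]
  set u := t ^ d with hu
  have huT : u ∈ T := pow_mem htT d
  have hLv : ∀ y : SL(2, E), ∀ v ∈ Le cs h T X ρ {i}, ρ (σ y) v ∈ Le cs h T X ρ {i} := by
    have hx : ∀ x, (x = sr i ∨ x = -sr i) → ∀ g ∈ X x, g ∈ LJ cs h T X {i} := by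
      rintro x (rfl | rfl) g hg
      · exact X_le_LJ (sr_mem_Roots i) hg
      · exact X_le_LJ (RootsJ.neg (sr_mem_Roots i)) hg
    intro y
    refine Ivt_Le R {i} _ (H650.Ppd.mem_of_UL (H := (LJ cs h T X {i}).comap σ) (fun t => ?_) (fun t => ?_) y)
    · exact hx _ (Or.inl rfl) _ ((N.up _).2 ⟨t, rfl⟩)
    · exact hx _ (Or.inr rfl) _ ((N.lo _).2 ⟨t, rfl⟩)
  have hc1 : c ∈ Le cs h T X ρ {i} := D_le_Le R {i} hc
  have h6 : ∀ v ∈ Le cs h T X ρ {i}, ρ u v = χ u • v := by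
    obtain ⟨φ, hφ, hφc⟩ := exists_pair_D R hirr hc hc0
    have hφm : φ (ρ (σ ww) c) = 0 := by
      by_contra hne
      exact hi (simple_mem_WJ h (mem_WJ_of_pair R hirr hφ hm hc hne))
    have hli : LinearIndependent k ![c, ρ (σ ww) c] := by
      rw [LinearIndependent.pair_iff]
      intro x y hxy
      have h7 := congrArg φ hxy
      rw [map_add, map_smul, map_smul, hφm, smul_zero, add_zero, map_zero, smul_eq_mul] at h7
      have h8 : x = 0 := (mul_eq_zero.1 h7).resolve_right hφc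
      rw [h8, zero_smul, zero_add] at hxy
      exact ⟨h8, (smul_eq_zero.1 hxy).resolve_right (rho_ne_zero ρ _ hc0)⟩
    have h7 : Submodule.span k (Set.range ![c, ρ (σ ww) c]) = Le cs h T X ρ {i} := by
      refine Submodule.eq_of_le_of_finrank_le (Submodule.span_le.2 ?_) ?_
      · rintro _ ⟨a, rfl⟩
        fin_cases a
        · exact hc1
        · exact hLv _ c hc1
      · rw [finrank_span_eq_card hli, Fintype.card_fin]
        exact hE
    have h8 : Submodule.span k (Set.range ![c, ρ (σ ww) c]) ≤ LinearMap.eqLocus (ρ u) (χ u • LinearMap.id) := by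
      refine Submodule.span_le.2 ?_
      rintro _ ⟨a, rfl⟩
      fin_cases a
      · exact (hχ u huT).symm
      · change ρ u (ρ (σ ww) c) = χ u • ρ (σ ww) c
        rw [← h5, ← map_smul, hχ _ (inv_mem huT), ← rho_mul, ← rho_mul, htd, ← hmt]
        congr 2
        group
    intro v hv
    exact h8 (h7 ▸ hv)
  refine hi fun x hx v hv => ?_
  obtain ⟨a, rfl⟩ := hspan v hv
  obtain ⟨y, rfl⟩ := (N.lo x).1 hx
  obtain ⟨y, rfl⟩ : ∃ y', y = -y' + ((s ^ d : Eˣ) : E) ^ 2 * y' :=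
    ⟨(((s ^ d : Eˣ) : E) ^ 2 - 1)⁻¹ * y, by
      have h7 := sub_ne_zero.2 hs
      field_simp
      ring⟩
  have h7 : ρ (σ (Lo (((s ^ d : Eˣ) : E) ^ 2 * y))) c = ρ (σ (Lo y)) c := by
    rw [← hh_Lo, map_mul σ, map_mul σ, map_inv, ← htd, rho_mul, rho_mul, h6 c hc1, map_smul, map_smul, ← map_smul,
      ← h6 _ (hLv _ c hc1), rho_inv_rho]
  rw [map_smul, ← Lo_mul, map_mul σ, rho_mul, h7, ← rho_mul, ← map_mul σ, Lo_mul, neg_add_cancel, Lo_zero, map_one, rho_one]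

end abs

section model

open CoxeterSystem Cfsg.Agent.ChevalleyStructure.CoxeterGeom Cfsg.Agent.Tits.Roots Cfsg.Agent.Tits.Core
  Cfsg.Agent.Nodes.Reps Cfsg.Agent.Nodes.BNOf Cfsg.Agent.Nodes.Bruhat Cfsg.Agent.Nodes.RGDLib
open Cfsg.Agent.Nodes Cfsg.Agent.Nodes.WittRoot Cfsg.Agent.Nodes.WittRGD Cfsg.Agent.Nodes.WittAll
open Cfsg.Agent.Nodes.TypeC (isCartan)
open Cfsg.Agent.TitsThree.Siegel Cfsg.Agent.TitsThree.SiegelGen Cfsg.Agent.TitsThree.WittFrame Cfsg.Agent.TitsThree.FrameCN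
  Cfsg.Agent.TitsThree.WBridge Cfsg.Agent.TitsThree.KSideO Cfsg.Agent.TitsThree
open Cfsg.Agent.H915.LD Cfsg.Agent.H911 Cfsg.Agent.H905.Md Cfsg.Agent.H925.Nat Cfsg.Agent.Nodes.RGDLift
open Cfsg.Agent.H156.Ppd (Cov lrep exists_cov)
open Cfsg.Agent.H948.Ppd
open Cfsg.Agent.Omega.CR Cfsg.Agent.Omega.FOne.Lift.Sd
open Cfsg Cfsg.Geo
open scoped MatrixGroups Matrix

variable {m p q : ℕ} [hp : Fact p.Prime] {F : Type} [Field F] [Finite F] [hFp : CharP F p] {K : Type} [Field K]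
  [Fintype K] [hKp : CharP K p] {P : Subgroup (GL (Fin 16) F)} {f : (Fin 16 → F) → (Fin 16 → F) → F}

/-- an element whose `q - 1` st power is not `± 1` -/
theorem exists_unit (hK : Fintype.card K = q ^ 2) : ∃ (d : ℕ) (s : Kˣ), q = d + 1 ∧ ((s ^ d : Kˣ) : K) ^ 2 ≠ 1 := by
  have h1 : 1 < q ^ 2 := hK ▸ Fintype.one_lt_card
  obtain ⟨d, rfl⟩ : ∃ d, q = d + 2 := by
    rcases q with _ | _ | d
    · simp at h1
    · simp at h1
    · exact ⟨d, rfl⟩
  obtain ⟨s, hs⟩ := IsCyclic.exists_ofOrder_eq_natCard (α := Kˣ)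
  rw [Nat.card_units, Nat.card_eq_fintype_card, hK] at hs
  refine ⟨d + 1, s, rfl, fun h => ?_⟩
  rw [← Units.val_pow_eq_pow_val, Units.val_eq_one, ← pow_mul] at h
  have h2 := Nat.le_of_dvd (by omega) (orderOf_dvd_of_pow_eq_one h)
  rw [hs, show (d + 2) ^ 2 = d * d + 4 * d + 4 by ring] at h2
  omega

include hp hFp hKp

theorem model (h : Tc m P) {ν : Type} [Fintype ν] [DecidableEq ν] {H : HForm K (ν → K)} {Fr : Frame H (Fin 4)}
    {T₀ : Type} [Group T₀] {M : Model Fr T₀} (hA : AmbT Fr p M.I) {p0 : Fr.Adm} (hp0 : p0.c ≠ 0)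
    (hperf : commutator ↥M.I = ⊤) (hσ : ∀ a, H.σ a = a) (hk : Kd Fr)
    (hNd : ∀ i, ∃ σ' : SL(2, K) →* M.I, Nd (TB M) (XB M) i σ') (e : Soc P ≃* T₀) (hK : Fintype.card K = Nat.card F)
    (hq : Fintype.card K = q ^ 2) (hf : IsUnitaryFormPow q f)
    (hP : ∀ g ∈ P, ∀ u v, f ((g : Matrix _ _ F) *ᵥ u) ((g : Matrix _ _ F) *ᵥ v) = f u v) : False := by
  have hC := h.core
  have hne := hC.nonempty
  have hWf : Finite (CoxeterMatrix.B 4).Group := TypeC.finite_W (CoxeterMatrix.B 4).toCoxeterSystem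
  obtain ⟨Y, _, _, g, φ, n₁, C⟩ := exists_covB hC hA hp0 (by omega) hperf e
  have hT' : ∀ s ∈ TB M, ∀ t ∈ TB M, s * t = t * s := by
    intro s hs t ht
    exact Subtype.ext (torus_comm hA.V0 hk (hA.iso _ s.2) (hA.iso _ t.2) hs.2 ht.2)
  obtain ⟨hT, -⟩ := lift_comm_pow C hp0 hT' (N₀ := Nat.card K) fun i => by
    obtain ⟨σ', N⟩ := hNd i
    exact ⟨K, inferInstance, inferInstance, inferInstance, σ', N, fun x => by
      rw [Nat.card_eq_fintype_card]; exact FiniteField.pow_card x⟩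
  have hm : m = 8 := by
    have := h.lo
    have := h.hi
    omega
  have hN : ∀ i, ∃ σ : SL(2, K) →* Y, Nd ((TB M).comap g) (fun x => lft p g (XB M x)) i σ := fun i => by
    obtain ⟨σ', N'⟩ := hNd i
    obtain ⟨σ, -, N⟩ := lift_nd C hp0 N'
    exact ⟨σ, N⟩
  obtain ⟨-, h3⟩ := BC.bord_B h C.rgd C.hGG hT C.range (fun i => by
    obtain ⟨σ, N⟩ := hN i
    exact ⟨σ, N.up, N.lo, N.tor⟩) (by omega) le_rfl (by rw [pow_one, Nat.card_eq_fintype_card, hK])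
    (by rw [hm, Nat.card_eq_fintype_card (α := K), hK])
  obtain ⟨-, -, h3, -⟩ := h3.resolve_left fun h3 => absurd h3.1 (by decide)
  rw [H69.Ppd.Jx_eq C.rgd C.hGG hT C.range hC.absIrred] at h3
  have hirr := C.hirr hC
  have fr := BC.fr8_four C.rgd hirr (fun j => by rw [h3, Fin.ext_iff]; rfl)
    (by rw [Module.finrank_fintype_fun_eq_card, Fintype.card_fin])
  have hE := fr.hLe
  rw [fr.hD] at hE
  have key : ∀ ω : List (Fin 4), ∃ y : Y, Rp (CoxeterMatrix.B 4).toCoxeterSystem C.rgd.nsys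
      ((CoxeterMatrix.B 4).toCoxeterSystem.wordProd ω) y ∧ Mono Fr (g y).1 (H218.SdC.sw ω) := by
    intro ω
    induction ω with
    | nil => exact ⟨1, by rw [wordProd_nil]; exact rp_one, by rw [map_one]; exact Mono.one⟩
    | cons i ω ih =>
      obtain ⟨y, h1, h2⟩ := ih
      refine ⟨n₁ i * y, by rw [wordProd_cons]; exact (rp_simple _ C.rgd.nsys i).mul h1, ?_⟩
      rw [map_mul, C.hn]
      exact (mono_nn hp0 i).mul h2
  obtain ⟨ω, hω⟩ := H218.SdC.exists_neg_word 4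
  obtain ⟨w, hw, hw'⟩ := key ω
  obtain ⟨σ, N⟩ := hN 3
  obtain ⟨d, s, rfl, hs⟩ := exists_unit hq
  let L : (Fin 16 → F) → Module.Dual F (Fin 16 → F) := fun c =>
    { toFun := fun v => f v c
      map_add' := fun x y => hf.add_left x y c
      map_smul' := fun a x => hf.smul_left a x c }
  refine no_unit C.rgd hirr hT ((fr.hJ 3).2 rfl) fr.hD hE N (H218.SdC.rep_neg _ hω) hw (fun t ht => C.ker ?_) hs (L := L)
    (fun y c v => ?_) (fun a c v => ?_) fun c hc h0 => ?_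
  · have h1 := torus_inv (q := 1) hA.V0 hk (fun a => by rw [hσ, pow_one]) (hA.iso _ (g w).2) (hA.iso _ (g t).2)
      (hw'.congr hω) ht.2
    rw [pow_one] at h1
    rw [MonoidHom.mem_ker, map_mul, map_mul, map_mul, map_inv, map_inv, mul_inv_eq_one]
    exact Subtype.ext h1
  · rw [H69.Ppd.lrep_apply, H69.Ppd.lrep_apply]
    exact hP _ (C.mem y) v c
  · change f v (a • c) = a ^ (d + 1) * f v c
    rw [hf.herm, hf.smul_left, mul_pow, ← hf.herm]
  · obtain ⟨x, hx⟩ := (hf.nondegenerate c hc).1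
    exact hx (LinearMap.congr_fun h0 x)

theorem psp (h : Tc m P) (e : Soc P ≃* PSp 4 K) (hK : Fintype.card K = Nat.card F) (hq : Fintype.card K = q ^ 2)
    (hf : IsUnitaryFormPow q f)
    (hP : ∀ g ∈ P, ∀ u v, f ((g : Matrix _ _ F) *ᵥ u) ((g : Matrix _ _ F) *ᵥ v) = f u v) : False := by
  have hA : AmbT (SpIdent.frame 4 K) p (KInstSp.model 4 K).I := AmbT.of_amb Nodes.WittU.amb_Sp p
  refine model h hA (p0 := SpIdent.adm (m := 4) (1 : K)) one_ne_zero (commutator_isos (by norm_num)) (fun _ => rfl)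
    (Or.inl rfl) (fun i => ?_) e hK hq hf hP
  obtain ⟨σ, N⟩ := H650.Ppd.nd_Sp (G0 := (KInstSp.model 4 K).I) hA.rg_le i
  exact ⟨σ, N.up, N.lo, N.tor⟩

open Cfsg.Agent.Nodes.WittInst Cfsg.Agent.TitsThree.StdData Cfsg.Agent.LieClassical Cfsg.Agent.LieClassical.OrthCore
  Cfsg.Agent.LieClassical.OrthTrans Cfsg.Agent.LieClassical.OrthSimple Cfsg.Agent.LieClassical.OrthFinite
  Cfsg.Agent.LieClassical.OrthForms in
theorem podd (h : Tc m P) (hodd : Odd (Fintype.card K)) (e : Soc P ≃* POmega K (quadFormOdd 4 K))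
    (hK : Fintype.card K = Nat.card F) (hq : Fintype.card K = q ^ 2) (hf : IsUnitaryFormPow q f)
    (hP : ∀ g ∈ P, ∀ u v, f ((g : Matrix _ _ F) *ᵥ u) ((g : Matrix _ _ F) *ᵥ v) = f u v) : False := by
  have h2 : (2 : K) ≠ 0 := Ring.two_ne_zero fun h3 => by
    have h4 := FiniteField.even_card_of_char_two h3
    have := Nat.odd_iff.1 hodd
    omega
  have hG : Good (oddForm 4 K) := by
    apply good_of_finite (nondeg_oddForm 4 K h2)
    rw [Module.finrank_fintype_fun_eq_card, Fintype.card_sum, Fintype.card_sum, Fintype.card_fin,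
      Fintype.card_unit]
    omega
  have hp0 : ((embOdd 4 K).ngt ⟨1, -1 ^ 2, rfl⟩).c ≠ 0 := by
    change (1 : K)⁻¹ * (-1 ^ 2) ≠ 0
    simp
  rw [← coe_oddForm] at e
  have hA : AmbT (toFrame (wodd 4 K)) p (KSideO.model (wodd 4 K) hG ⟨_, hp0⟩).I := AmbT.of_amb (amb_O_of_two _ h2) p
  refine model h hA hp0 (H911.Five.commutator_top hG.E_perfect) (fun _ => rfl) (kd_odd h2 4) (fun i => ?_) e hK hq hf hP
  by_cases hi : (i : ℕ) + 1 < 4
  · exact nd_long hA.rg_le hi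
  · exact nd_last_odd h2 (H48.OMult.span_odd K 4) hA.rg_le hi

end model

end Cfsg.Agent.SM.Ti.KU
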