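import Cfsg.Agent.SM.Ti.Abs
import Cfsg.Prelude.Def_GeometricClasses

/-!
# S3570, tight sets in polar spaces (helper69)

* `Pol B Sg G` : a polar space on `ι → F` (form `B`, singular vectors `Sg`) with a group `G` that has the Witt property;
* `Gen B Sg W` : `W` is a maximal totally singular subspace;
* `Tight B Sg m Y` : all `Y`-invariant sets of singular points are tight;
* `tight_of`, `tight_sub` : a group which is transitive on a sphere is tight.
-/

set_option autoImplicit false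
set_option linter.unusedSectionVars false

namespace Cfsg.Agent.SM.Ti

open Finset Matrix Projectivization
open scoped LinearAlgebra.Projectivization

universe u

variable {ι : Type} [Fintype ι] [DecidableEq ι] {F : Type u} [Field F]

/-- `1 + Q + ⋯ + Q ^ (m - 1)` -/
def th (Q m : ℕ) : ℕ := ∑ i ∈ range m, Q ^ i

/-- the action on vectors -/
abbrev ap (g : GL ι F) (v : ι → F) : ι → F := (g : Matrix ι ι F) *ᵥ v

/-- a polar space with a group which has the Witt property -/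
structure Pol (B : (ι → F) → (ι → F) → F) (Sg : (ι → F) → Prop) (G : Subgroup (GL ι F)) : Prop where
  add : ∀ x y v, B (x + y) v = B x v + B y v
  smul : ∀ (c : F) x v, B (c • x) v = c * B x v
  refl : ∀ x y, B x y = 0 → B y x = 0
  sg_smul : ∀ (c : F) x, Sg x → Sg (c • x)
  sg_self : ∀ x, Sg x → B x x = 0
  partner : ∀ x, Sg x → x ≠ 0 → ∃ y, Sg y ∧ B y x ≠ 0
  fix : ∀ g ∈ G, ∀ x y, B (ap g x) (ap g y) = B x y
  sg : ∀ g ∈ G, ∀ x, Sg x → Sg (ap g x)
  witt1 : ∀ x y, Sg x → Sg y → x ≠ 0 → y ≠ 0 → ∃ g ∈ G, ap g x = y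
  witt2 : ∀ x y x' y', Sg x → Sg y → Sg x' → Sg y' → LinearIndependent F ![x, y] → LinearIndependent F ![x', y'] →
    B x y = B x' y' → ∃ g ∈ G, ap g x = x' ∧ ap g y = y'

/-- totally singular -/
structure Ts (B : (ι → F) → (ι → F) → F) (Sg : (ι → F) → Prop) (W : Submodule F (ι → F)) : Prop where
  sg : ∀ w ∈ W, Sg w
  ort : ∀ u ∈ W, ∀ v ∈ W, B u v = 0

/-- maximal totally singular -/
structure Gen (B : (ι → F) → (ι → F) → F) (Sg : (ι → F) → Prop) (W : Submodule F (ι → F)) : Prop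
    extends Ts B Sg W where
  max : ∀ v, Sg v → (∀ w ∈ W, B w v = 0) → v ∈ W

/-- every `Y`-invariant set of singular points is tight -/
def Tight (B : (ι → F) → (ι → F) → F) (Sg : (ι → F) → Prop) (m : ℕ) (Y : Subgroup (GL ι F)) : Prop :=
  ∀ D : Set (ℙ F (ι → F)), (∀ x ∈ D, Sg x.rep) → (∀ y ∈ Y, ∀ x ∈ D, y • x ∈ D) → ∀ x ∈ D,
    D.ncard * Nat.card F ^ (m - 1) =
      th (Nat.card F) m * (Nat.card F ^ (m - 1) + {z ∈ D | B z.rep x.rep ≠ 0}.ncard)

theorem th_succ (Q m : ℕ) : th Q (m + 1) = th Q m + Q ^ m := sum_range_succ _ _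

theorem th_succ' (Q m : ℕ) : th Q (m + 1) = Q * th Q m + 1 := by
  unfold th
  rw [sum_range_succ', mul_sum]
  simp only [pow_succ', pow_zero]

theorem th_mul {Q : ℕ} (hQ : 1 ≤ Q) (m : ℕ) : th Q m * (Q - 1) + 1 = Q ^ m := by
  obtain ⟨x, rfl⟩ : ∃ x, Q = x + 1 := ⟨Q - 1, by omega⟩
  rw [Nat.add_sub_cancel]
  exact geom_sum_mul_add x m

theorem th_coprime (Q m : ℕ) : (th Q (m + 1)).Coprime Q := by
  rw [th_succ']
  simp

theorem ap_mul (g h : GL ι F) (v : ι → F) : ap (g * h) v = ap g (ap h v) := by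
  simp only [ap, Units.val_mul, mulVec_mulVec]

theorem ap_one (v : ι → F) : ap (1 : GL ι F) v = v := by simp [ap]

theorem ap_inv_ap (g : GL ι F) (v : ι → F) : ap g⁻¹ (ap g v) = v := by rw [← ap_mul, inv_mul_cancel, ap_one]

theorem ap_ap_inv (g : GL ι F) (v : ι → F) : ap g (ap g⁻¹ v) = v := by rw [← ap_mul, mul_inv_cancel, ap_one]

theorem ap_smul (g : GL ι F) (c : F) (v : ι → F) : ap g (c • v) = c • ap g v := mulVec_smul _ _ _

theorem ap_add (g : GL ι F) (u v : ι → F) : ap g (u + v) = ap g u + ap g v := mulVec_add _ _ _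

theorem ap_ne (g : GL ι F) {v : ι → F} (hv : v ≠ 0) : ap g v ≠ 0 := fun h => hv (by
  rw [← ap_inv_ap g v, h]
  exact mulVec_zero _)

theorem smul_mk' (g : GL ι F) {v : ι → F} (hv : v ≠ 0) :
    g • Projectivization.mk F v hv = Projectivization.mk F (ap g v) (ap_ne g hv) := rfl

theorem exists_rep_mk {v : ι → F} (hv : v ≠ 0) : ∃ c : F, c ≠ 0 ∧ (Projectivization.mk F v hv).rep = c • v := by
  obtain ⟨c, hc⟩ := exists_smul_eq_mk_rep F v hv
  exact ⟨c, c.ne_zero, hc.symm⟩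

theorem exists_rep_smul (g : GL ι F) (x : ℙ F (ι → F)) : ∃ c : F, c ≠ 0 ∧ (g • x).rep = c • ap g x.rep := by
  conv_rhs => enter [c, 2, 1]; rw [← x.mk_rep, smul_mk']
  exact exists_rep_mk _

theorem smul_eq_of {g : GL ι F} {x y : ℙ F (ι → F)} {c : F} (h : ap g (c • x.rep) = y.rep) : g • x = y := by
  rw [← x.mk_rep, ← y.mk_rep, smul_mk', eq_comm, mk_eq_mk_iff']
  exact ⟨c, by rw [← ap_smul, h]⟩

variable [Finite F]

theorem ncard_pts (A : Submodule F (ι → F)) :
    {x : ℙ F (ι → F) | x.rep ∈ A}.ncard = th (Nat.card F) (Module.finrank F A) := by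
  have h1 : {x : ℙ F (ι → F) | x.rep ∈ A} = Set.range (Projectivization.map A.subtype A.injective_subtype) := by
    ext x
    constructor
    · intro hx
      refine ⟨Projectivization.mk F ⟨x.rep, hx⟩ fun e => x.rep_nonzero (congrArg Subtype.val e), ?_⟩
      rw [map_mk]
      exact x.mk_rep
    · rintro ⟨y, rfl⟩
      induction y using Projectivization.ind with
      | h v hv =>
        rw [map_mk]
        obtain ⟨c, -, hc⟩ := exists_rep_mk (v := A.subtype v) (fun e => hv (A.injective_subtype (by rw [e, map_zero])))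
        show _ ∈ A
        rw [hc]
        exact A.smul_mem c v.2
  rw [h1, ← Set.image_univ, Set.ncard_image_of_injective _ (map_injective _ _), Set.ncard_univ]
  exact card_of_finrank F A rfl

variable {B : (ι → F) → (ι → F) → F} {Sg : (ι → F) → Prop} {G : Subgroup (GL ι F)}

namespace Pol

variable (h : Pol B Sg G)
include h

/-- `B · v` as a linear map -/
def fn (v : ι → F) : (ι → F) →ₗ[F] F where
  toFun x := B x v
  map_add' x y := h.add x y v
  map_smul' c x := h.smul c x v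

theorem fn_apply (v x : ι → F) : h.fn v x = B x v := rfl

theorem zero_left (v : ι → F) : B 0 v = 0 := (h.fn v).map_zero

theorem smul_right {x y : ι → F} (c : F) (h0 : B x y = 0) : B x (c • y) = 0 :=
  h.refl _ _ (by rw [h.smul, h.refl _ _ h0, mul_zero])

theorem eq_zero_iff {x y : ι → F} {c d : F} (hc : c ≠ 0) (hd : d ≠ 0) : B (c • x) (d • y) = 0 ↔ B x y = 0 := by
  rw [h.smul, mul_eq_zero, or_iff_right hc]
  refine ⟨fun h0 => ?_, h.smul_right d⟩
  have h1 := h.smul_right d⁻¹ h0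
  rwa [inv_smul_smul₀ hd] at h1

theorem r3 : R3 G {x : ℙ F (ι → F) | Sg x.rep} (fun x y => B y.rep x.rep ≠ 0) := by
  refine ⟨fun x hx h0 => h0 (h.sg_self _ hx), fun x hx y hy => ?_, fun x hx y hy x' hx' y' hy' h1 h2 h3 => ?_⟩
  · obtain ⟨g, hg, e⟩ := h.witt1 _ _ hx hy x.rep_nonzero y.rep_nonzero
    exact ⟨⟨g, hg⟩, smul_eq_of (c := 1) (by rw [one_smul]; exact e)⟩
  · obtain ⟨c, hc, e⟩ : ∃ c : F, c ≠ 0 ∧ c * B y.rep x.rep = B y'.rep x'.rep := by
      by_cases h4 : B y.rep x.rep = 0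
      · exact ⟨1, one_ne_zero, by rw [h4, not_not.1 fun h5 => h3.2 h5 h4, mul_zero]⟩
      · exact ⟨B y'.rep x'.rep / B y.rep x.rep, div_ne_zero (h3.1 h4) h4, div_mul_cancel₀ _ h4⟩
    have i1 : LinearIndependent F ![c • y.rep, x.rep] := by
      have h5 := (linearIndependent_pair_iff_ne.2 h1.symm : LinearIndependent F ![y.rep, x.rep])
      rw [LinearIndependent.pair_iff] at h5 ⊢
      intro s t hst
      rw [smul_smul] at hst
      obtain ⟨h6, h7⟩ := h5 _ _ hst
      exact ⟨(mul_eq_zero.1 h6).resolve_right hc, h7⟩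
    obtain ⟨g, hg, e1, e2⟩ := h.witt2 _ _ _ _ (h.sg_smul c _ hy) hx hy' hx' i1
      (linearIndependent_pair_iff_ne.2 h2.symm) (by rw [h.smul, e])
    exact ⟨⟨g, hg⟩, smul_eq_of (c := 1) (by rw [one_smul]; exact e2), smul_eq_of e1⟩

end Pol

theorem card_filter_eq {α : Type*} [Finite α] (s : Set α) (p : α → Prop) [DecidablePred p] :
    #{y ∈ s.toFinite.toFinset | p y} = {y ∈ s | p y}.ncard := by
  rw [← Set.ncard_coe_finset]
  congr 1
  ext y
  simp

/-- **Tight groups.** -/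
theorem tight_of (h : Pol B Sg G) {W : Submodule F (ι → F)} (hW : Gen B Sg W) {m : ℕ} (hm : Module.finrank F W = m)
    (E : (ι → F) → Prop) (hE : ∀ c : F, c ≠ 0 → ∀ v, E v → E (c • v)) {k : ℕ} (hk0 : 0 < k) (hkm : k < m)
    (hk : ∀ g ∈ G, ∃ A : Submodule F (ι → F), Module.finrank F A = k ∧ ∀ w, w ∈ A ↔ w ∈ W ∧ E (ap g w))
    {Y : Subgroup (GL ι F)} (hY : ∀ g ∈ G, ∃ y ∈ Y, ∀ v, Sg v → (E (ap g v) ↔ E (ap y v))) : Tight B Sg m Y := by
  classical
  intro D hD hDY x hx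
  have hE' : ∀ (g : GL ι F) (z : ℙ F (ι → F)), E (g • z).rep ↔ E (ap g z.rep) := by
    intro g z
    obtain ⟨c, hc, e⟩ := exists_rep_smul g z
    rw [e]
    refine ⟨fun h1 => ?_, hE c hc _⟩
    have h2 := hE c⁻¹ (inv_ne_zero hc) _ h1
    rwa [inv_smul_smul₀ hc] at h2
  obtain ⟨A, hA, hA'⟩ := hk 1 (one_mem G)
  simp only [ap_one] at hA'
  obtain ⟨a, haA, ha0⟩ : ∃ a ∈ A, a ≠ 0 := by
    refine (Submodule.ne_bot_iff A).1 fun e => ?_
    rw [e, finrank_bot] at hA
    omega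
  obtain ⟨b, hbW, hbA⟩ : ∃ b ∈ W, b ∉ A := by
    by_contra hc
    push Not at hc
    have := Submodule.finrank_mono (show W ≤ A from hc)
    omega
  have hb0 : b ≠ 0 := fun e => hbA (e ▸ A.zero_mem)
  have haW := ((hA' a).1 haA).1
  have hmk : ∀ {v : ι → F} (hv : v ≠ 0), Sg v → Sg (Projectivization.mk F v hv).rep := fun hv hs => by
    obtain ⟨c, -, e⟩ := exists_rep_mk hv
    rw [e]
    exact h.sg_smul c _ hs
  have key := tight_abs h.r3 {x : ℙ F (ι → F) | x.rep ∈ W}.toFinite.toFinset D.toFinite.toFinset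
    {x | E x.rep} (t := Nat.card F ^ (m - 1)) (cW := th (Nat.card F) k) (cD := {z ∈ D | E z.rep}.ncard)
    (fun z hz => hW.sg _ (by simpa using hz)) (fun z hz => hD z (by simpa using hz)) ?_ ?_ ?_ ?_ ?_ ?_
    (x := x) (by simpa using hx)
  · rw [card_filter_eq, ← Set.ncard_eq_toFinset_card, ← Set.ncard_eq_toFinset_card, ncard_pts, hm] at key
    exact key
  · intro z hz
    rw [card_filter_eq]
    by_cases hzW : z.rep ∈ W
    · rw [if_pos (by simpa using hzW), Set.ncard_eq_zero]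
      exact Set.eq_empty_of_forall_notMem fun y hy => hy.2 (hW.ort _ hy.1 _ hzW)
    · rw [if_neg (by simpa using hzW)]
      obtain ⟨w, hw, hw0⟩ : ∃ w ∈ W, B w z.rep ≠ 0 := by
        by_contra hc
        push Not at hc
        exact hzW (hW.max _ hz hc)
      have h1 : Module.finrank F ↥(W ⊓ LinearMap.ker (h.fn z.rep)) + 1 = m := by
        have h2 := ((h.fn z.rep).domRestrict W).finrank_range_add_finrank_ker
        have h3 : LinearMap.range ((h.fn z.rep).domRestrict W) = ⊤ := by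
          rw [LinearMap.range_eq_top]
          intro c
          refine ⟨(c / B w z.rep) • ⟨w, hw⟩, ?_⟩
          rw [map_smul, smul_eq_mul]
          exact div_mul_cancel₀ _ hw0
        rw [h3, finrank_top, Module.finrank_self, LinearMap.ker_domRestrict, hm] at h2
        rw [← h2, add_comm, ← Submodule.map_comap_subtype, Submodule.finrank_map_subtype_eq]
      have h2 := Set.ncard_sdiff (s := {x : ℙ F (ι → F) | x.rep ∈ W ⊓ LinearMap.ker (h.fn z.rep)})
        (t := {x : ℙ F (ι → F) | x.rep ∈ W}) (fun y hy => hy.1)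
      rw [ncard_pts, ncard_pts, hm, ← h1, th_succ, Nat.add_sub_cancel_left] at h2
      rw [← h1, Nat.add_sub_cancel, ← h2]
      congr 1
      ext y
      simp only [Set.mem_ofPred_eq, Set.mem_sdiff, Submodule.mem_inf, LinearMap.mem_ker, h.fn_apply]
      tauto
  · refine ⟨Projectivization.mk F a ha0, ?_⟩
    obtain ⟨c, -, e⟩ := exists_rep_mk ha0
    simp only [Set.Finite.mem_toFinset, Set.mem_ofPred_eq, e]
    exact W.smul_mem c haW
  · obtain ⟨y, hy, hy0⟩ := h.partner a (hW.sg a haW) ha0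
    have h0 : y ≠ 0 := fun e => hy0 (by rw [e, h.zero_left])
    refine ⟨Projectivization.mk F y h0, hmk h0 hy, ?_⟩
    obtain ⟨c, hc, e⟩ := exists_rep_mk h0
    simp only [Set.Finite.mem_toFinset, Set.mem_ofPred_eq, e]
    exact fun h1 => hy0 (hW.ort _ ((W.smul_mem_iff hc).1 h1) _ haW)
  · refine ⟨Projectivization.mk F a ha0, hmk ha0 (hW.sg a haW), Projectivization.mk F b hb0, hmk hb0 (hW.sg b hbW),
      ?_, ?_⟩
    · obtain ⟨c, hc, e⟩ := exists_rep_mk ha0
      simp only [Set.mem_ofPred_eq, e]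
      exact hE c hc _ ((hA' a).1 haA).2
    · obtain ⟨c, hc, e⟩ := exists_rep_mk hb0
      simp only [Set.mem_ofPred_eq, e]
      intro h1
      have h2 := hE c⁻¹ (inv_ne_zero hc) _ h1
      rw [inv_smul_smul₀ hc] at h2
      exact hbA ((hA' b).2 ⟨hbW, h2⟩)
  · intro g
    obtain ⟨A, hA, hA'⟩ := hk g g.2
    rw [card_filter_eq, ← hA, ← ncard_pts]
    congr 1
    ext y
    exact ((hA' y.rep).trans (and_congr_right fun _ => (hE' g y).symm)).symm
  · intro g
    obtain ⟨y, hy, hy'⟩ := hY g g.2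
    rw [card_filter_eq, ← Set.ncard_image_of_injective _ (MulAction.injective y)]
    congr 1
    ext z
    constructor
    · rintro ⟨w, hw, rfl⟩
      exact ⟨hDY y hy w hw.1, (hE' y w).2 ((hy' _ (hD w hw.1)).1 ((hE' g w).1 hw.2))⟩
    · intro hz
      have h1 := hDY y⁻¹ (inv_mem hy) z hz.1
      refine ⟨y⁻¹ • z, ⟨h1, (hE' g _).2 ((hy' _ (hD _ h1)).2 ((hE' y _).1 ?_))⟩, smul_inv_smul y z⟩
      rw [smul_inv_smul]
      exact hz.2

/-- **A group which is transitive on the translates of the subspace `U`** (`U^⊥` has Witt index `m - dim U`). -/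
theorem tight_sub (h : Pol B Sg G) {W : Submodule F (ι → F)} (hW : Gen B Sg W) {m : ℕ} (hm : Module.finrank F W = m)
    (U : Submodule F (ι → F)) (hU0 : U ≠ ⊥) (hUm : Module.finrank F U < m)
    (hU : ∀ A : Submodule F (ι → F), Ts B Sg A → (∀ a ∈ A, ∀ u ∈ U, B a u = 0) →
      Module.finrank F A + Module.finrank F U ≤ m)
    {Y : Subgroup (GL ι F)} (hYG : Y ≤ G)
    (hY : ∀ g ∈ G, ∃ y ∈ Y, U.map (toLin' (g : Matrix ι ι F)) = U.map (toLin' (y : Matrix ι ι F))) :
    Tight B Sg m Y := by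
  have h0 : 0 < Module.finrank F U := by
    rw [Nat.pos_iff_ne_zero, Ne, Submodule.finrank_eq_zero]
    exact hU0
  have tr : ∀ g ∈ G, ∀ v, (∀ u ∈ U, B (ap g v) u = 0) ↔
      ∀ u ∈ U.map (toLin' ((g⁻¹ : GL ι F) : Matrix ι ι F)), B v u = 0 := by
    intro g hg v
    constructor
    · rintro h1 _ ⟨u, hu, rfl⟩
      rw [toLin'_apply, ← h.fix g hg]
      exact (congrArg _ (ap_ap_inv g u)).trans (h1 u hu)
    · intro h1 u hu
      rw [← h.fix g⁻¹ (inv_mem hg), ap_inv_ap]
      exact h1 _ ⟨u, hu, rfl⟩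
  refine tight_of h hW hm (fun v => ∀ u ∈ U, B v u = 0) (fun c _ v hv u hu => by rw [h.smul, hv u hu, mul_zero])
    (k := m - Module.finrank F U) (by omega) (by omega) (fun g hg => ?_) fun g hg => ?_
  · let b := Module.finBasis F U
    let f : (ι → F) →ₗ[F] (Fin (Module.finrank F U) → F) :=
      (LinearMap.pi fun i => h.fn (b i)).comp (toLin' (g : Matrix ι ι F))
    have hf : ∀ w, w ∈ LinearMap.ker f ↔ ∀ u ∈ U, B (ap g w) u = 0 := by
      intro w
      rw [LinearMap.mem_ker]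
      refine ⟨fun h1 u hu => h.refl _ _ ?_, fun h1 => funext fun i => h1 _ (b i).2⟩
      have h2 : (h.fn (ap g w)).comp U.subtype = 0 := b.ext fun i => h.refl _ _ (congrFun h1 i)
      exact LinearMap.congr_fun h2 ⟨u, hu⟩
    refine ⟨W ⊓ LinearMap.ker f, le_antisymm ?_ ?_, fun w => by rw [Submodule.mem_inf, hf]⟩
    · have h1 := hU ((W ⊓ LinearMap.ker f).map (toLin' (g : Matrix ι ι F))) ⟨?_, ?_⟩ ?_
      · have h2 : Module.finrank F ((W ⊓ LinearMap.ker f).map (toLin' (g : Matrix ι ι F))) =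
            Module.finrank F ↥(W ⊓ LinearMap.ker f) :=
          (Submodule.equivMapOfInjective _ (fun x y e => by
            rw [← ap_inv_ap g x, ← ap_inv_ap g y]
            exact congrArg _ e) _).finrank_eq.symm
        omega
      · rintro _ ⟨w, hw, rfl⟩
        exact h.sg g hg w (hW.sg w hw.1)
      · rintro _ ⟨w, hw, rfl⟩ _ ⟨w', hw', rfl⟩
        exact (h.fix g hg w w').trans (hW.ort w hw.1 w' hw'.1)
      · rintro _ ⟨w, hw, rfl⟩
        exact (hf w).1 hw.2
    · have h2 := (f.domRestrict W).finrank_range_add_finrank_ker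
      have h3 := (LinearMap.range (f.domRestrict W)).finrank_le
      rw [Module.finrank_fintype_fun_eq_card, Fintype.card_fin] at h3
      rw [LinearMap.ker_domRestrict, hm, ← Submodule.finrank_map_subtype_eq, Submodule.map_comap_subtype] at h2
      omega
  · obtain ⟨y, hy, e⟩ := hY g⁻¹ (inv_mem hg)
    refine ⟨y⁻¹, inv_mem hy, fun v _ => ?_⟩
    rw [tr g hg, tr y⁻¹ (hYG (inv_mem hy)), inv_inv, e]

/-- the orbits of a tight group -/
theorem Tight.dvd {m : ℕ} {Y : Subgroup (GL ι F)} (h : Tight B Sg m Y) (hm : 0 < m) {D : Set (ℙ F (ι → F))}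
    (h1 : ∀ x ∈ D, Sg x.rep) (h2 : ∀ y ∈ Y, ∀ x ∈ D, y • x ∈ D) : th (Nat.card F) m ∣ D.ncard := by
  rcases D.eq_empty_or_nonempty with rfl | ⟨x, hx⟩
  · simp
  obtain ⟨k, rfl⟩ : ∃ k, m = k + 1 := ⟨m - 1, by omega⟩
  exact ((th_coprime _ k).pow_right _).dvd_of_dvd_mul_right ⟨_, h D h1 h2 x hx⟩

theorem Tight.mono {m : ℕ} {Y Y' : Subgroup (GL ι F)} (h : Tight B Sg m Y) (hY : Y ≤ Y') : Tight B Sg m Y' :=
  fun D h1 h2 => h D h1 fun y hy => h2 y (hY hy)

end Cfsg.Agent.SM.Ti
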