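import Cfsg.Agent.SM.Ti.Box
import Cfsg.Agent.SM.CS.Defs

/-!
# S3570, the polar spaces of the five spheres: the boxes `BoxQ`, `BoxH`, `BoxP` (helper69, `notes/SM/ti.md`)
-/

set_option autoImplicit false

namespace Cfsg.Agent.SM.Ti

open Cfsg Cfsg.Geo Matrix
open Cfsg.Agent.SM.CS (Sph Cs Kind)

/-- polar space, fixed singular vectors, tight -/
def Ins (k : Kind) : Prop :=
  ∀ (ι : Type) [Fintype ι] [DecidableEq ι] (K : Type) [Field K] [Fintype K] (q m : ℕ) (B : (ι → K) → (ι → K) → K)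
    (Sg : (ι → K) → Prop) (G X Y P : Subgroup (GL ι K)), Sph q m k B Sg G X → Cs k G X Y P →
    Pol B Sg G ∧ Sing Sg G ∧ Tight B Sg m Y

/-- [Ti-Q] -/
def BoxQ : Prop := Ins .p1 ∧ Ins .p2 ∧ Ins .o
/-- [Ti-H] -/
def BoxH : Prop := Ins .u
/-- [Ti-P] -/
def BoxP : Prop := Ins .s

end Cfsg.Agent.SM.Ti
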