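import Cfsg.Agent.SM.Ti.HPa
import Cfsg.Agent.SM.Ti.Ins
import Cfsg.Agent.SM.CSi.Uni
import Cfsg.Agent.H921.UnitBase
import Cfsg.Agent.S0749
import Cfsg.Agent.S0751

/-!
# S3570, the unitary and the symplectic sphere: `boxH`, `boxP` (helper6)
-/

set_option autoImplicit false
set_option linter.unusedSectionVars false

namespace Cfsg.Agent.SM.Ti.HP

open Cfsg Cfsg.Geo Matrix Module
open Cfsg.Agent.H919 (HermForm)
open Cfsg.Agent.H924 (perpOf finrank_perpOf form_symm_zero)
open Cfsg.Agent.LieClassical.HermBasic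
open Cfsg.Agent.SM.CS (Sph Cs Kind Iso)

variable {ι : Type} [Fintype ι] [DecidableEq ι] {K : Type} [Field K] [Fintype K] {q : ℕ}
  {f : (ι → K) → (ι → K) → K}

/-! ### unitary forms -/

theorem det_norm {σ : K ≃+* K} {ε : K} (hf : HermForm σ ε f) {g : GL ι K} (hg : g ∈ Iso f) :
    (g : Matrix ι ι K).det * σ (g : Matrix ι ι K).det = 1 := by
  have h1 := congrArg Matrix.det (H924.adjM_isometry hf hg)
  have h2 := (isUnit_iff_isUnit_det _).1 (H924.isUnit_gram hf)
  have h3 : (H924.adjM σ f (g : Matrix ι ι K)).det = σ (g : Matrix ι ι K).det := by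
    refine (RingHom.map_det (σ : K →+* K) _).symm.trans (congrArg σ ?_)
    rw [det_mul_right_comm, nonsing_inv_mul _ h2, Matrix.one_mul, det_transpose]
  rw [← h3, h1, ← det_mul, ← Units.val_mul, mul_inv_cancel, Units.val_one, det_one]

section unitary

variable (hK : Fintype.card K = q ^ 2) (hf : IsUnitaryFormPow q f)
include hK hf

theorem herm : HermForm (conj hK) 1 f := (H921.isUnitaryFormPow_iff hK).1 hf

theorem wts_u : WtS f := by
  have h := herm hK hf
  intro X Y φ hφ
  obtain ⟨g, h1, h2⟩ := S0751.result ((conj hK : K ≃+* K) : K →+* K) (fun e => by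
      obtain ⟨x, hx⟩ := exists_not_fixed hK
      exact hx (RingHom.congr_fun e x)) (pow_q_pow_q hK)
    (LinearMap.mk₂'ₛₗ ((conj hK : K ≃+* K) : K →+* K) (RingHom.id K) (fun u v => f v u)
      (fun u u' v => h.add_right v u u') (fun c u v => h.smul_right v c u)
      (fun u v v' => hf.add_left v v' u) (fun c u v => hf.smul_left c v u))
    ⟨fun u v => (hf.herm u v).symm⟩
    ⟨fun u hu => H924.eq_zero_of_forall_left h hu,
      fun u hu => H924.eq_zero_of_forall_left h fun x => (form_symm_zero h).1 (hu x)⟩ X Y φ fun x x' => hφ x' x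
  exact ⟨g, fun u v => h1 v u, h2⟩

theorem expand (a b : ι → K) (c : K) :
    f (a + c • b) (a + c • b) = f a a + (c * f b a + (c * f b a) ^ q) + c * c ^ q * f b b := by
  have h := herm hK hf
  rw [h.add_left, h.add_right, h.add_right, h.smul_left, h.smul_left, h.smul_right, h.smul_right, conj_apply,
    hf.herm a b, mul_pow]
  ring

theorem iso_u (a b : ι → K) (hb : f b b ≠ 0) (h : f b a = 0) : ∃ c : K, f (a + c • b) (a + c • b) = 0 := by
  obtain ⟨c, hc⟩ := exists_norm_eq hK (c := -(f a a * (f b b)⁻¹)) (by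
    rw [neg_pow_q hK, mul_pow, inv_pow, ← hf.herm, ← hf.herm])
  refine ⟨c, ?_⟩
  rw [expand hK hf, h, mul_zero, zero_pow_q hK, hc]
  field_simp
  ring

theorem partner_u (x : ι → K) (hx : f x x = 0) (h0 : x ≠ 0) : ∃ y, f y y = 0 ∧ f y x ≠ 0 := by
  obtain ⟨y, hy⟩ := (hf.nondegenerate x h0).2
  obtain ⟨t, ht⟩ := exists_trace_eq hK (c := -f y y) (by rw [neg_pow_q hK, ← hf.herm])
  refine ⟨y + (t * (f x y)⁻¹) • x, ?_, ?_⟩
  · rw [expand hK hf, inv_mul_cancel_right₀ hy, ht, hx, mul_zero, add_zero, add_neg_cancel]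
  · rw [hf.add_left, hf.smul_left, hx, mul_zero, add_zero]
    exact fun e => hy ((form_symm_zero (herm hK hf)).1 e)

theorem wt_u (hn : 5 ≤ Fintype.card ι) : Wt f (Iso f ⊓ specialLinear ι K) := by
  have h := herm hK hf
  intro k v w hk hv hw e
  obtain ⟨g, hg, h1⟩ := wt_of h (wts_u hK hf) k v w hk hv hw e
  have hsl : ∀ x : GL ι K, (x : Matrix ι ι K).det = 1 → x ∈ specialLinear ι K := fun x hx => Units.ext hx
  by_cases h2 : (g : Matrix ι ι K).det = 1
  · exact ⟨g, ⟨hg, hsl g h2⟩, h1⟩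
  obtain ⟨a, ha, ha0⟩ : ∃ a ∈ perpOf h (Submodule.span K (Set.range v)), f a a ≠ 0 := by
    by_contra hc
    push Not at hc
    have h3 := finrank_perpOf h (Submodule.span K (Set.range v))
    have h4 := finrank_perpOf h (perpOf h (Submodule.span K (Set.range v)))
    have h5 := Submodule.finrank_mono (show perpOf h (Submodule.span K (Set.range v)) ≤
        perpOf h (perpOf h (Submodule.span K (Set.range v))) from fun x hx y hy =>
      eq_zero_of_forall_trace hK fun c => by
        have h6 := hc _ (add_mem hy (Submodule.smul_mem _ c hx))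
        rwa [expand hK hf, hc x hx, hc y hy, mul_zero, add_zero, zero_add] at h6)
    rw [finrank_span_eq_card hv, Fintype.card_fin] at h3
    omega
  have hd := det_norm h hg
  rw [conj_apply] at hd
  obtain ⟨δ, hδ⟩ : ∃ δ, δ = (g : Matrix ι ι K).det := ⟨_, rfl⟩
  rw [← hδ] at hd h2
  have hδ0 : δ ≠ 0 := left_ne_zero_of_mul_eq_one hd
  have h3 : δ ^ q = δ⁻¹ := eq_inv_of_mul_eq_one_right hd
  have h4 : δ - 1 ≠ 0 := sub_ne_zero.2 h2
  have h5 : 1 - δ ≠ 0 := sub_ne_zero.2 (Ne.symm h2)
  obtain ⟨x, hx, hap, hdet⟩ := CS.Ix.exists_qrefl hK hf a (β := f a a * (δ * (δ - 1)⁻¹))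
    (mul_ne_zero ha0 (mul_ne_zero hδ0 (inv_ne_zero h4))) (by
    rw [mul_pow, mul_pow, inv_pow, sub_pow_q hK, one_pow, h3, ← hf.herm]
    have : δ⁻¹ - 1 = δ⁻¹ * (1 - δ) := by field_simp
    rw [this]
    field_simp
    ring)
  refine ⟨g * x, ⟨Subgroup.mul_mem _ hg hx, hsl _ ?_⟩, fun i => ?_⟩
  · rw [Units.val_mul, det_mul, hdet, ← hδ]
    field_simp
    ring
  · rw [ap_mul, ← h1 i]
    refine congrArg _ ((hap _).trans ?_)
    rw [(form_symm_zero h).1 (ha _ (Submodule.subset_span ⟨i, rfl⟩)), mul_zero, zero_smul, sub_zero]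

theorem sing_u (hn : 2 ≤ Fintype.card ι) : Sing (fun x => f x x = 0) (Iso f ⊓ specialLinear ι K) := by
  have h := herm hK hf
  intro p U hp h0 hle hU
  obtain ⟨a, -, ha0, ha⟩ := exists_fix hp h0 hU (W := ⊤) (fun e => by
    have := congrArg (fun W : Submodule K (ι → K) => finrank K W) e
    rw [finrank_top, finrank_bot, finrank_fintype_fun_eq_card] at this
    omega) fun _ _ _ _ => trivial
  by_cases h1 : f a a = 0
  · exact ⟨a, ha0, h1, ha⟩
  obtain ⟨b, hb, hb0, hb'⟩ := exists_fix hp h0 hU (W := perpOf h (Submodule.span K {a})) (fun e => by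
    have := finrank_perpOf h (Submodule.span K {a})
    rw [e, finrank_bot, finrank_span_singleton ha0] at this
    omega) fun u hu w hw y hy => by
      obtain ⟨c, rfl⟩ := Submodule.mem_span_singleton.1 hy
      rw [← ha u hu, ← ap_smul]
      exact ((hle hu).1 _ _).trans (hw _ hy)
  by_cases h2 : f b b = 0
  · exact ⟨b, hb0, h2, hb'⟩
  have h3 := hb a (Submodule.mem_span_singleton_self a)
  obtain ⟨c, hc⟩ := iso_u hK hf a b h2 h3
  refine ⟨_, fun e => h1 ?_, hc, fun u hu => by rw [ap_add, ap_smul, ha u hu, hb' u hu]⟩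
  have h4 := congrArg (fun x => f x a) e
  rwa [hf.add_left, hf.smul_left, h3, mul_zero, add_zero, h.zero_left] at h4

end unitary

theorem boxH : BoxH := by
  intro ι _ _ K _ _ q m B Sg G X Y P hs hc
  cases hs with
  | u f hf hK hd v hv =>
  have h := herm hK hf
  have hn := hc.big
  have hP : Pol B (fun x => B x x = 0) (Iso B ⊓ specialLinear ι K) :=
    pol_of h (fun _ => Iff.rfl) (partner_u hK hf) inf_le_left (wt_u hK hf (by omega))
  obtain ⟨W, hW, hm⟩ := exists_gen (Sg := fun x => B x x = 0) h (fun _ => Iff.rfl)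
    (fun a b _ => iso_u hK hf a b) hd
  have hv0 : v ≠ 0 := fun e => hv (by rw [e, h.zero_left])
  refine ⟨hP, sing_u hK hf (by omega), tight_sub hP hW hm (Submodule.span K {v}) (mt Submodule.span_singleton_eq_bot.1 hv0)
    (by rw [finrank_span_singleton hv0]; omega) (fun A hA h1 => ?_) hc.le fun g hg => ?_⟩
  · have h2 := finrank_perpOf h A
    have h3 := Submodule.finrank_lt_finrank_of_lt (lt_of_le_of_ne (show A ≤ perpOf h A from hA.ort) fun e =>
      hv (hA.sg v (e.ge fun w hw => (form_symm_zero h).1 (h1 w hw v (Submodule.mem_span_singleton_self v)))))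
    rw [finrank_span_singleton hv0]
    omega
  · obtain ⟨y, hy, x, hx, rfl⟩ := hc.fac g hg
    exact ⟨y, hy, by rw [Units.val_mul, toLin'_mul, Submodule.map_comp, map_of_stab hx]⟩

/-! ### alternating forms -/

theorem boxP : BoxP := by
  intro ι _ _ K _ _ q m B Sg G X Y P hs hc
  cases hs with
  | s Q hQ hp hK hq hd =>
  have hn := hc.big
  have : CharP K 2 := ringChar.of_eq (FiniteField.even_card_iff_char_two.2 (by rw [hK]; exact Nat.even_iff.1 hq))
  have hb := hQ.polar_bilinear
  have alt : ∀ x, QuadraticMap.polar Q x x = 0 := fun x => by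
    show Q (x + x) - Q x - Q x = 0
    rw [← two_smul K x, hQ.smul, sub_sub, CharTwo.add_self_eq_zero, CharTwo.two_eq_zero]
    ring
  have h : HermForm (RingEquiv.refl K) 1 (QuadraticMap.polar Q) :=
    ⟨hb.add_left, hb.smul_left, fun _ => rfl, one_mul _, fun v w => by rw [one_mul]; exact QuadraticMap.polar_comm Q v w,
      hQ.nondegenerate⟩
  have hs : ∀ x : ι → K, True ↔ QuadraticMap.polar Q x x = 0 := fun x => iff_of_true trivial (alt x)
  have hP : Pol (QuadraticMap.polar Q) (fun _ => True) (Iso (QuadraticMap.polar Q)) :=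
    pol_of h hs (fun x _ h0 => (hQ.nondegenerate x h0).1.imp fun y hy => ⟨alt y, hy⟩) le_rfl (wt_of h fun X Y φ hφ =>
      S0749.result (LinearMap.mk₂ K (QuadraticMap.polar Q) hb.add_left hb.smul_left hb.add_right hb.smul_right)
        ⟨fun u hu => H924.eq_zero_of_forall_left h fun x => (form_symm_zero h).1 (hu x),
          fun u hu => H924.eq_zero_of_forall_left h hu⟩ alt X Y φ hφ)
  obtain ⟨W, hW, hm⟩ := exists_gen (Sg := fun _ => True) h hs (fun a _ k => absurd (alt a) k) hd
  refine ⟨hP, fun p U hp h0 _ hU => ?_, tight_of hP hW hm (fun v => Q v = 0)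
    (fun c _ v hv => by rw [hQ.smul, hv, mul_zero]) (k := m - 1) (by omega) (by omega) (fun g hg => ?_) fun g hg => ?_⟩
  · obtain ⟨a, -, ha0, ha⟩ := exists_fix hp h0 hU (W := ⊤) (fun e => by
      have := congrArg (fun W : Submodule K (ι → K) => finrank K W) e
      rw [finrank_top, finrank_bot, finrank_fintype_fun_eq_card] at this
      omega) fun _ _ _ _ => trivial
    exact ⟨a, ha0, trivial, ha⟩
  · let φ : W →ₗ[K] K :=
      { toFun := fun w => (frobeniusEquiv K 2).symm (Q (ap g w))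
        map_add' := fun x y => by
          have h1 : Q (ap g x + ap g y) - Q (ap g x) - Q (ap g y) = 0 := (hg x y).trans (hW.ort x x.2 y y.2)
          rw [← map_add, Submodule.coe_add, ap_add]
          exact congrArg _ (by linear_combination h1)
        map_smul' := fun c x => by
          rw [Submodule.coe_smul, ap_smul, hQ.smul, map_mul]
          exact congrArg (· * _) (frobeniusEquiv_symm_apply_frobenius K 2 c) }
    have h1 : ∀ w : W, φ w = 0 ↔ Q (ap g w) = 0 := fun w => map_eq_zero_iff _ (frobeniusEquiv K 2).symm.injective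
    have h2 := φ.finrank_range_add_finrank_ker
    have h3 := (LinearMap.range φ).finrank_le
    have h4 : finrank K (LinearMap.range φ) ≠ 0 := fun e => hp ⟨W.map (toLin' (g : Matrix ι ι K)), le_top, by
      rintro _ ⟨w, hw, rfl⟩
      exact (h1 ⟨w, hw⟩).1 ((Submodule.mem_bot K).1 (Submodule.finrank_eq_zero.1 e ▸ LinearMap.mem_range_self φ _)), by
      rw [finrank_top, finrank_fintype_fun_eq_card, hd, ← hm]
      exact congrArg _ (Submodule.equivMapOfInjective _ (fun x y e => by
        rw [← ap_inv_ap g x, ← ap_inv_ap g y]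
        exact congrArg _ e) _).finrank_eq.symm⟩
    rw [finrank_self] at h3
    refine ⟨(LinearMap.ker φ).map W.subtype, by rw [Submodule.finrank_map_subtype_eq]; omega, fun w => ⟨?_, ?_⟩⟩
    · rintro ⟨w, hw, rfl⟩
      exact ⟨w.2, (h1 w).1 hw⟩
    · exact fun k => ⟨⟨w, k.1⟩, (h1 _).2 k.2, rfl⟩
  · obtain ⟨y, hy, x, hx, e⟩ := hc.fac g⁻¹ (inv_mem hg)
    refine ⟨y⁻¹, inv_mem hy, fun v _ => ?_⟩
    rw [inv_eq_iff_eq_inv.1 e, _root_.mul_inv_rev, ap_mul]
    exact iff_of_eq (congrArg (· = 0) ((isometryGroup K Q).inv_mem hx _ 0))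

end Cfsg.Agent.SM.Ti.HP
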