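import Cfsg.Agent.SM.Ti.Ins
import Cfsg.Agent.H925.OrthBasic
import Cfsg.Agent.H445.AH.OTrans
import Cfsg.Agent.H510.OA.Chev
import Cfsg.Agent.H922.OddPerp

/-!
# S3570, the three orthogonal spheres: `boxQ` (helper23)

* `pol`, `sing` : the polar space of a quadratic form with the group `Ω`;
* `two_le`, `gen_of`, `exists_ts` : totally singular subspaces;
* `tight` : `tight_sub` from a factorisation.
-/

set_option autoImplicit false
set_option linter.unusedSectionVars false

namespace Cfsg.Agent.SM.Ti.Q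

open Cfsg Cfsg.Geo Matrix Module
open Cfsg.Agent.SM.CS (Sph Cs Kind)
open Cfsg.Agent.H922 (perp mem_perp finrank_perp perp_perp)

variable {ι : Type} [Fintype ι] [DecidableEq ι] {K : Type} [Field K] [Fintype K]

/-- a factorisation gives the transitivity on the translates of `U` -/
theorem map_fac {U : Submodule K (ι → K)} {x : GL ι K} (hx : x ∈ subspaceStabilizer U) (y : GL ι K) :
    U.map (toLin' ((y * x : GL ι K) : Matrix ι ι K)) = U.map (toLin' (y : Matrix ι ι K)) := by
  have hx' : ∀ v, v ∈ U ↔ ap x v ∈ U := hx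
  ext z
  constructor
  · rintro ⟨u, hu, rfl⟩
    exact ⟨ap x u, (hx' u).1 hu, (ap_mul y x u).symm⟩
  · rintro ⟨u, hu, rfl⟩
    refine ⟨ap x⁻¹ u, (hx' _).2 (by rw [ap_ap_inv]; exact hu), ?_⟩
    show ap (y * x) (ap x⁻¹ u) = ap y u
    rw [ap_mul, ap_ap_inv]

variable {Q : (ι → K) → K} (hQ : IsNondegenerateQuadraticForm Q)

theorem Q_add (x y : ι → K) : Q (x + y) = Q x + Q y + QuadraticMap.polar Q x y := by
  unfold QuadraticMap.polar
  ring

theorem ts_of {A : Submodule K (ι → K)} (h : ∀ w ∈ A, Q w = 0) : Ts (QuadraticMap.polar Q) (fun x => Q x = 0) A :=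
  ⟨h, fun u hu v hv => by
    have h1 := Q_add (Q := Q) u v
    rw [h _ (A.add_mem hu hv), h u hu, h v hv, zero_add, zero_add] at h1
    exact h1.symm⟩

theorem fix {g : GL ι K} (hg : g ∈ omegaGL Q) (v : ι → K) : Q (ap g v) = Q v :=
  H925.mem_iso_iff.1 (H925.omegaGL_le_iso Q hg) v

include hQ

theorem Q_zero : Q 0 = 0 := by
  have h := hQ.smul 0 0
  rwa [zero_smul, zero_pow two_ne_zero, zero_mul] at h

theorem pol (hn : 6 ≤ Fintype.card ι) : Pol (QuadraticMap.polar Q) (fun x => Q x = 0) (omegaGL Q) where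
  add := hQ.polar_bilinear.add_left
  smul := hQ.polar_bilinear.smul_left
  refl x y h := by rw [QuadraticMap.polar_comm]; exact h
  sg_smul c x h := by
    show Q (c • x) = 0
    rw [hQ.smul, show Q x = 0 from h, mul_zero]
  sg_self x h := LieClassical.OrthCore.polar_self_of_sing (Q := H925.qf hQ) h
  partner x h h0 := by
    obtain ⟨y, hy⟩ := LieClassical.OrthTrans.exists_hyp (H925.nondeg_qf hQ) (x := x) h h0
    refine ⟨y, hy.right, ?_⟩
    rw [show QuadraticMap.polar Q y x = 1 from hy.symm.pair]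
    exact one_ne_zero
  fix g hg x y := by
    unfold QuadraticMap.polar
    rw [← ap_add, fix hg, fix hg, fix hg]
  sg g hg x h := (fix hg x).trans h
  witt1 x y hx hy hx0 hy0 := H925.exists_trans hQ (by omega) hx0 hy0 (Eq.trans hx (Eq.symm hy))
  witt2 x y x' y' hx hy hx' hy' i1 i2 e := by
    have s1 : QuadraticMap.polar Q x x = 0 := LieClassical.OrthCore.polar_self_of_sing (Q := H925.qf hQ) hx
    have s2 : QuadraticMap.polar Q y y = 0 := LieClassical.OrthCore.polar_self_of_sing (Q := H925.qf hQ) hy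
    have s3 : QuadraticMap.polar Q x' x' = 0 := LieClassical.OrthCore.polar_self_of_sing (Q := H925.qf hQ) hx'
    have s4 : QuadraticMap.polar Q y' y' = 0 := LieClassical.OrthCore.polar_self_of_sing (Q := H925.qf hQ) hy'
    obtain ⟨g, hg, h⟩ := H445.AH.exists_E_family (H925.good_qf hQ (by omega)) ![x, y] ![x', y'] i1 i2
      (fun i => by
        fin_cases i
        · exact Eq.trans hx (Eq.symm hx')
        · exact Eq.trans hy (Eq.symm hy'))
      (fun i j => by
        fin_cases i <;> fin_cases j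
        · exact s1.trans s3.symm
        · exact e
        · exact (QuadraticMap.polar_comm Q y x).trans (e.trans (QuadraticMap.polar_comm Q x' y'))
        · exact s2.trans s4.symm)
      (by rw [finrank_fintype_fun_eq_card]; omega)
    obtain ⟨g', hg', h'⟩ := H925.exists_omegaGL hQ (by omega) hg
    exact ⟨g', hg', (h' x).trans (h 0), (h' y).trans (h 1)⟩

theorem sing (hn : 3 ≤ Fintype.card ι) : Sing (fun x => Q x = 0) (omegaGL Q) := by
  intro p U hp h0 hU hP
  have : Fact p.Prime := ⟨hp⟩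
  have : CharP K p := (CharP.charP_iff_prime_eq_zero hp).2 h0
  let ρ : U →* Module.End K (ι → K) :=
    { toFun := fun u => toLin' ((u : GL ι K) : Matrix ι ι K)
      map_one' := by simp [Module.End.one_eq_id]
      map_mul' := fun a b => by simp [Module.End.mul_eq_comp, toLin'_mul] }
  obtain ⟨v, h1, h2, h3⟩ := H510.OA.exists_fixed_zero (H925.qf hQ) (by rwa [finrank_fintype_fun_eq_card]) hP ρ
    fun x v => fix (hU x.2) v
  exact ⟨v, h1, h2, fun u hu => h3 ⟨u, hu⟩⟩

theorem two_le {A : Submodule K (ι → K)} (h : Ts (QuadraticMap.polar Q) (fun x => Q x = 0) A) :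
    2 * finrank K A ≤ Fintype.card ι := by
  have h1 := finrank_perp hQ.polar_bilinear hQ.nondegenerate A
  have h2 := Submodule.finrank_mono (show A ≤ perp hQ.polar_bilinear A from fun x hx w hw => h.ort w hw x hx)
  omega

theorem ts_sup {A : Submodule K (ι → K)} (h : Ts (QuadraticMap.polar Q) (fun x => Q x = 0) A) {v : ι → K} (hv : Q v = 0)
    (hA : ∀ w ∈ A, QuadraticMap.polar Q w v = 0) :
    Ts (QuadraticMap.polar Q) (fun x => Q x = 0) (A ⊔ Submodule.span K {v}) := by
  refine ts_of fun w hw => ?_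
  obtain ⟨a, ha, b, hb, rfl⟩ := Submodule.mem_sup.1 hw
  obtain ⟨c, rfl⟩ := Submodule.mem_span_singleton.1 hb
  rw [Q_add (Q := Q), show Q a = 0 from h.sg a ha, hQ.smul, hv, hQ.polar_bilinear.smul_right, hA a ha]
  ring

omit hQ in
theorem lt_sup {A : Submodule K (ι → K)} {v : ι → K} (hv : v ∉ A) :
    finrank K A < finrank K ↥(A ⊔ Submodule.span K {v}) :=
  Submodule.finrank_lt_finrank_of_lt (lt_of_le_of_ne le_sup_left fun e =>
    hv (e ▸ Submodule.mem_sup_right (Submodule.mem_span_singleton_self v)))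

theorem gen_of {W : Submodule K (ι → K)} (h : Ts (QuadraticMap.polar Q) (fun x => Q x = 0) W)
    (hn : Fintype.card ι ≤ 2 * finrank K W + 1) : Gen (QuadraticMap.polar Q) (fun x => Q x = 0) W := by
  refine ⟨h, fun v hv hW => ?_⟩
  by_contra hc
  have h1 := two_le hQ (ts_sup hQ h hv hW)
  have h2 := lt_sup hc
  omega

theorem exists_ts (k : ℕ) (hk : 2 * k + 1 ≤ Fintype.card ι) :
    ∃ W : Submodule K (ι → K), Ts (QuadraticMap.polar Q) (fun x => Q x = 0) W ∧ finrank K W = k := by
  induction k with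
  | zero =>
    refine ⟨⊥, ts_of fun w hw => ?_, finrank_bot _ _⟩
    rw [(Submodule.mem_bot K).1 hw]
    exact Q_zero hQ
  | succ k ih =>
    obtain ⟨W, hW, hd⟩ := ih (by omega)
    obtain ⟨C, hC⟩ := W.exists_isCompl
    have h1 := finrank_perp hQ.polar_bilinear hQ.nondegenerate W
    have h2 := Submodule.finrank_add_eq_of_isCompl hC
    have h3 := Submodule.finrank_sup_add_finrank_inf_eq C (perp hQ.polar_bilinear W)
    have h4 := Submodule.finrank_le (C ⊔ perp hQ.polar_bilinear W)
    rw [finrank_fintype_fun_eq_card] at h2 h4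
    obtain ⟨v, hv, hv0, hvQ⟩ := LieClassical.OrthFinite.exists_sing_mem (Q := H925.qf hQ)
      (C ⊓ perp hQ.polar_bilinear W) (by omega)
    have h5 : v ∉ W := fun h => hv0 ((Submodule.disjoint_def.1 hC.disjoint) v h hv.1)
    refine ⟨W ⊔ Submodule.span K {v}, ts_sup hQ hW hvQ hv.2, ?_⟩
    have h6 := lt_sup h5
    have h7 := Submodule.finrank_sup_add_finrank_inf_eq W (Submodule.span K {v})
    rw [finrank_span_singleton hv0] at h7
    omega

theorem exists_plus {m : ℕ} (hp : IsPlusTypeOn Q ⊤) (hd : Fintype.card ι = 2 * m) :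
    ∃ W : Submodule K (ι → K), Ts (QuadraticMap.polar Q) (fun x => Q x = 0) W ∧ finrank K W = m := by
  obtain ⟨W, -, h1, h2⟩ := hp
  rw [finrank_top, finrank_fintype_fun_eq_card] at h2
  exact ⟨W, ts_of h1, by omega⟩

/-- the three results from a subspace `U` whose translates are permuted transitively -/
theorem tight {m : ℕ} (hn : 6 ≤ Fintype.card ι) (hd : Fintype.card ι ≤ 2 * m + 1)
    (hW : ∃ W : Submodule K (ι → K), Ts (QuadraticMap.polar Q) (fun x => Q x = 0) W ∧ finrank K W = m)
    (U : Submodule K (ι → K)) (hU0 : 0 < finrank K U) (hUm : finrank K U < m)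
    (hU : ∀ A : Submodule K (ι → K), Ts (QuadraticMap.polar Q) (fun x => Q x = 0) A →
      (∀ a ∈ A, ∀ u ∈ U, QuadraticMap.polar Q a u = 0) → finrank K A + finrank K U ≤ m)
    {Y : Subgroup (GL ι K)} (hYG : Y ≤ omegaGL Q)
    (hY : ∀ g ∈ omegaGL Q, ∃ y ∈ Y, ∃ x ∈ subspaceStabilizer U, g = y * x) :
    Pol (QuadraticMap.polar Q) (fun x => Q x = 0) (omegaGL Q) ∧ Sing (fun x => Q x = 0) (omegaGL Q) ∧
      Tight (QuadraticMap.polar Q) (fun x => Q x = 0) m Y := by
  obtain ⟨W, h1, h2⟩ := hW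
  refine ⟨pol hQ hn, sing hQ (by omega), tight_sub (pol hQ hn) (gen_of hQ h1 (by omega)) h2 U (fun e => ?_) hUm hU hYG
    fun g hg => ?_⟩
  · rw [e, finrank_bot] at hU0
    exact lt_irrefl _ hU0
  · obtain ⟨y, hy, x, hx, rfl⟩ := hY g hg
    exact ⟨y, hy, map_fac hx y⟩

/-- the perpendicular space of an anisotropic plane in plus type has Witt index `m - 2` -/
theorem plane {m : ℕ} (hp : IsPlusTypeOn Q ⊤) (hd : Fintype.card ι = 2 * m) {W : Submodule K (ι → K)}
    (h2 : finrank K W = 2) (hW : ∀ w ∈ W, Q w = 0 → w = 0) {A : Submodule K (ι → K)}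
    (hA : Ts (QuadraticMap.polar Q) (fun x => Q x = 0) A) (hAW : ∀ a ∈ A, ∀ u ∈ W, QuadraticMap.polar Q a u = 0) :
    finrank K A + 2 ≤ m := by
  by_contra hc
  obtain ⟨W0, hW0, hm⟩ := exists_plus hQ hp hd
  have h1 : A ⊔ W ≤ perp hQ.polar_bilinear A :=
    sup_le (fun x hx w hw => hA.ort w hw x hx) fun x hx w hw => hAW w hw x hx
  have h3 : A ⊓ W = ⊥ := (Submodule.eq_bot_iff _).2 fun x hx => hW x hx.2 (hA.sg x hx.1)
  have h4 := Submodule.finrank_sup_add_finrank_inf_eq A W
  rw [h3, finrank_bot, h2] at h4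
  have h5 := finrank_perp hQ.polar_bilinear hQ.nondegenerate A
  have h6 := Submodule.finrank_mono h1
  have h7 : A ⊔ W = perp hQ.polar_bilinear A := Submodule.eq_of_le_of_finrank_le h1 (by omega)
  have h8 : W0 = perp hQ.polar_bilinear W0 := by
    have := finrank_perp hQ.polar_bilinear hQ.nondegenerate W0
    exact Submodule.eq_of_le_of_finrank_le (fun x hx w hw => hW0.ort w hw x hx) (by omega)
  have h9 : perp hQ.polar_bilinear (W0 ⊔ A) ≤ W0 ⊓ A := by
    intro x hx
    have a1 : x ∈ W0 := by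
      rw [h8]
      exact fun w hw => hx w (Submodule.mem_sup_left hw)
    have a2 : x ∈ A ⊔ W := by
      rw [h7]
      exact fun w hw => hx w (Submodule.mem_sup_right hw)
    obtain ⟨a, ha, u, hu, rfl⟩ := Submodule.mem_sup.1 a2
    have a3 : Q (a + u) = 0 := hW0.sg _ a1
    rw [Q_add (Q := Q), show Q a = 0 from hA.sg a ha, hAW a ha u hu, zero_add, add_zero] at a3
    refine ⟨a1, ?_⟩
    rw [hW u hu a3, add_zero]
    exact ha
  have h10 := Submodule.finrank_mono h9
  have h11 := finrank_perp hQ.polar_bilinear hQ.nondegenerate (W0 ⊔ A)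
  have h12 := Submodule.finrank_sup_add_finrank_inf_eq W0 A
  omega

omit hQ

theorem ins_p1 : Ins .p1 := by
  intro ι _ _ K _ _ q m B Sg G X Y P hS hC
  have hb := hC.big
  have hle := hC.le
  have hf := hC.fac
  clear hC
  cases hS with
  | p1 Q hQ hp hK hd v hv =>
    have hv0 : v ≠ 0 := fun e => hv (by rw [e]; exact Q_zero hQ)
    have h1 := finrank_span_singleton (K := K) hv0
    refine tight hQ (by omega) (by omega) (exists_plus hQ hp hd) _ (by omega) (by omega) (fun A hA hU => ?_) hle hf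
    have h2 := lt_sup (show v ∉ A from fun h => hv (hA.sg v h))
    have h3 := Submodule.finrank_mono (show A ⊔ Submodule.span K {v} ≤ perp hQ.polar_bilinear A from
      sup_le (fun x hx w hw => hA.ort w hw x hx) fun x hx w hw => hU w hw x hx)
    have h4 := finrank_perp hQ.polar_bilinear hQ.nondegenerate A
    omega

theorem ins_p2 : Ins .p2 := by
  intro ι _ _ K _ _ q m B Sg G X Y P hS hC
  have hb := hC.big
  have hle := hC.le
  have hf := hC.fac
  clear hC
  cases hS with
  | p2 Q hQ hp hK hd W h2 hW =>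
    refine tight hQ (by omega) (by omega) (exists_plus hQ hp hd) _ (by omega) (by omega) (fun A hA hU => ?_) hle hf
    rw [h2]
    exact plane hQ hp hd h2 hW hA hU

theorem ins_o : Ins .o := by
  intro ι _ _ K _ _ q m B Sg G X Y P hS hC
  have hb := hC.big
  have hle := hC.le
  have hf := hC.fac
  clear hC
  cases hS with
  | o Q hQ hK hq hd W h2 hn hW =>
    have h1 := finrank_perp hQ.polar_bilinear hQ.nondegenerate W
    refine tight hQ (by omega) (by omega) (exists_ts hQ m (by omega)) (perp hQ.polar_bilinear W) (by omega) (by omega)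
      (fun A hA hU => ?_) hle fun g hg => ?_
    · have h3 : A ≤ W := by
        rw [← perp_perp hQ.polar_bilinear (QuadraticMap.polar_comm Q) hQ.nondegenerate W]
        exact fun a ha u hu => (QuadraticMap.polar_comm Q u a).trans (hU a ha u hu)
      have h4 := two_le hQ hA
      have h5 : 2 * finrank K A ≠ finrank K W := fun e => hW ⟨A, h3, hA.sg, e⟩
      omega
    · obtain ⟨y, hy, x, hx, rfl⟩ := hf g hg
      have h3 : x ∈ omegaGL Q := (Subgroup.mul_mem_cancel_left _ (hle hy)).1 hg
      exact ⟨y, hy, x, (H922.subspaceStabilizer_perp_le hQ W ⟨hx, H925.omegaGL_le_iso Q h3⟩).1, rfl⟩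

/-- **[Ti-Q]** -/
theorem boxQ : BoxQ := ⟨ins_p1, ins_p2, ins_o⟩

end Cfsg.Agent.SM.Ti.Q
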