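import Cfsg.Agent.SM.Ti.Hy
import Cfsg.Agent.SM.Ti.Q
import Cfsg.Agent.SM.Ti.HP

/-!
# S3570 : `CS.BoxTi`, and tight cores from spheres (helper69)
-/

set_option autoImplicit false

namespace Cfsg.Agent.SM.Ti

open Cfsg Cfsg.Geo Matrix
open Cfsg.Agent.SM.CS (Sph Cs Hy Kind)

theorem ins (k : Kind) : Ins k := ins_all Q.boxQ HP.boxH HP.boxP k

/-- **[CS-Ti]** -/
theorem boxTi : CS.BoxTi := boxTi_of Q.boxQ HP.boxH HP.boxP

variable {n : ℕ} {K : Type} [Field K] [Fintype K] {k : Kind} {q m : ℕ} {B : (Fin n → K) → (Fin n → K) → K}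
  {Sg : (Fin n → K) → Prop} {G X Y P : Subgroup (GL (Fin n) K)}

theorem tc_sph (s : Sph q m k B Sg G X) (c : Cs k G X Y P) : Tc m P := tc_of (ins k) s c

theorem tc_hy (h : Hy k q m B Sg G X Y P) : Tc m P := tc_of_hy (ins k) h

end Cfsg.Agent.SM.Ti
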