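import Cfsg.Agent.SM.Ti.Sur
import Cfsg.Agent.SM.Ti.KU
import Cfsg.Agent.SM.Ti.TiBox
import Cfsg.Agent.SM.CS.Num

/-!
# S3570 : `CS.BoxD`, factors of class `S` in the defining characteristic (helper69, `notes/SM/ti.md`)

* `idx_dvd` : the size of the sphere divides `|Aut (Soc P)|`;
* `not_p2`, `fixA_of`, `unit_of` : the kinds `p2`, `s`, `u` in degree 16;
* **`boxD`**.
-/

set_option autoImplicit false
set_option linter.unusedSectionVars false

namespace Cfsg.Agent.SM.Ti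

open Cfsg Cfsg.Geo Matrix
open Cfsg.Agent.SM.CS (Sph Cs Hy Kind)
open Cfsg.Agent.H915.LD (Core FixA FixQ)
open Cfsg.Agent.H100.Ppd (conjSoc scalar_of_conjSoc)

namespace Fin16

variable {n : ℕ} {K : Type} [Field K] [Fintype K] {k : Kind} {q m : ℕ} {B : (Fin n → K) → (Fin n → K) → K}
  {Sg : (Fin n → K) → Prop} {G X Y P : Subgroup (GL (Fin n) K)}

theorem idx_dvd (h : Hy k q m B Sg G X Y P) : X.relIndex Y ∣ Nat.card (MulAut (H915.LD.Soc P)) := by
  have hC := H915.LD.core_of_residual h.core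
  have hYN : Y ≤ Subgroup.normalizer (P : Set (GL (Fin n) K)) := fun y hy =>
    H100.Ppd.mem_normalizer (h.core.normal y hy)
  let f : Y →* MulAut (H915.LD.Soc P) := (conjSoc hC.absIrred).comp (Subgroup.inclusion hYN)
  have h2 : f.ker ≤ X.subgroupOf Y := fun y hy =>
    h.sc ⟨h.le y.2, scalar_of_conjSoc hC (g := Subgroup.inclusion hYN y) hy⟩
  refine (Subgroup.index_dvd_of_le h2).trans ?_
  rw [Subgroup.index_ker]
  exact Subgroup.card_subgroup_dvd_card _

/-- the kind `p2` -/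
theorem not_p2 (h : Hy .p2 q 8 B Sg G X Y P) {p f : ℕ} (hp : p.Prime) (hf : 1 ≤ f) (hq : q = p ^ f)
    (hd : Nat.card (MulAut (H915.LD.Soc P)) ∣ f * (q ^ 4 ^ 2 * ∏ i ∈ Finset.range 4, (q ^ (2 * (i + 1)) - 1))) : False := by
  obtain ⟨r, hr, h1, h2, h3⟩ := Lib.Zsigmondy.exists_primitive (a := p) (n := f * 7) hp.two_le (by omega)
    (fun e => by omega) (fun e => by omega)
  have h4 : ∀ i, r ∣ q ^ i - 1 ↔ 7 ∣ i := fun i => by
    rw [hq, ← pow_mul, h1, Nat.mul_dvd_mul_iff_left hf]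
  have h5 := Nat.le_of_dvd (by have := hr.two_le; omega) h2
  have h6 : r ∣ X.relIndex Y * (2 * (q + 1)) := by
    have h7 : X.relIndex Y * (2 * (q + 1)) = q ^ (2 * 8 - 2) * (q ^ 8 - 1) * (q ^ (8 - 1) - 1) := h.idx
    rw [h7]
    exact ((h4 _).2 (by norm_num)).mul_left _
  rcases hr.dvd_mul.1 h6 with h7 | h7
  · rcases hr.dvd_mul.1 (h7.trans ((idx_dvd h).trans hd)) with h8 | h8
    · have := Nat.le_of_dvd hf h8
      omega
    · rcases hr.dvd_mul.1 h8 with h9 | h9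
      · rw [hq, ← pow_mul] at h9
        exact h3 (hr.dvd_of_dvd_pow h9)
      · obtain ⟨i, hi, h10⟩ := (Prime.dvd_finsetProd_iff hr.prime _).1 h9
        rw [Finset.mem_range] at hi
        rw [h4] at h10
        omega
  · rcases hr.dvd_mul.1 h7 with h8 | h8
    · have := Nat.le_of_dvd two_pos h8
      omega
    · have h9 := add_dvd_sub q 1
      rw [pow_one] at h9
      have h10 := (h4 _).1 (h8.trans h9)
      omega

/-- the kind `s` -/
theorem fixA_of (s : Sph q m .s B Sg G X) (hP : P ≤ G) (h2 : (2 : K) = 0) : FixA P := by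
  generalize hk : Kind.s = k at s
  cases s with
  | s Q hQ =>
    have h3 : ∀ v, QuadraticMap.polar Q v v = 0 := fun v => by
      rw [QuadraticMap.polar, ← two_smul K v, hQ.smul]
      linear_combination ((2 : K) * Q v - Q v) * h2
    refine ⟨_, ⟨hQ.polar_bilinear, fun v w => ?_, h3, hQ.nondegenerate⟩, ?_⟩
    · rw [QuadraticMap.polar_comm]
      linear_combination (QuadraticMap.polar Q w v) * h2
    · rintro _ ⟨g, hg, rfl⟩
      exact hP hg
  | _ => cases hk

/-- the kind `u` -/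
theorem unit_of (s : Sph q m .u B Sg G X) (hP : P ≤ G) : IsUnitaryFormPow q B ∧
    ∀ g ∈ P, ∀ u v, B ((g : Matrix _ _ K) *ᵥ u) ((g : Matrix _ _ K) *ᵥ v) = B u v := by
  generalize hk : Kind.u = k at s
  cases s with
  | u f hf => exact ⟨hf, fun g hg => (hP hg).1⟩
  | _ => cases hk

end Fin16

open Fin16 in
/-- **[CS-D]** -/
theorem boxD : CS.BoxD := by
  intro n K _ _ k q m B Sg G X Y P h p hp _ hT
  have : Fact p.Prime := ⟨hp⟩
  have ht := tc_hy h
  have hd := sph_dim h.sph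
  rw [Fintype.card_fin] at hd
  have hPG : P ≤ G := h.core.le.trans h.le
  obtain ⟨F, _, _, _, hF, hs⟩ := (ht.sw p hT).resolve_left fun h1 => h.nat ((CS.natG_iff P).2 h1)
  have hF' := hF.trans (Nat.card_eq_fintype_card (α := K))
  obtain ⟨f, hf, hq⟩ := exists_exp F p
  rw [Nat.card_eq_fintype_card] at hq
  rcases hs with ⟨rfl, he⟩ | ⟨rfl, rfl, hA, ⟨e⟩⟩ | ⟨rfl, ho, ⟨e⟩⟩ | ⟨rfl, he⟩
  · rcases hd with ⟨h1, h2, -, h3⟩ | h1 | h1
    · exact Or.inr (Or.inr (Or.inl ⟨h1, by omega, F, _, _, hF'.trans h3, he⟩))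
    · omega
    · omega
  · rcases hd with h1 | ⟨rfl, -, h1⟩ | ⟨h1, h2, rfl⟩
    · omega
    · obtain ⟨h2, h3⟩ := unit_of h.sph hPG
      exact (KU.psp (p := 2) ht e hF (hF'.trans h1) h2 h3).elim
    · obtain rfl : m = 8 := by omega
      rcases h1 with rfl | rfl | ⟨rfl, -⟩
      · exact Or.inr (Or.inl ⟨rfl, rfl, by rw [← hF', hq]; exact (Nat.even_pow' hf.ne').2 even_two, F, _, _, hF', ⟨e⟩⟩)
      · refine (not_p2 h hp hf (hF'.symm.trans hq) (Dvd.intro 1 ?_)).elim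
        rw [CS.card_aut_congr e, S0814.result 2 f hf hq 4 (by omega) (by omega), if_neg (by omega), ← hF',
          ← CS.psp_eq F (by omega), ← hq]
        ring
      · exact (h.nq rfl (hA (fixA_of h.sph hPG (by exact_mod_cast CharP.cast_eq_zero K 2)))).elim
  · rcases hd with h1 | ⟨rfl, -, h1⟩ | ⟨h1, h2, rfl⟩
    · omega
    · obtain ⟨h2, h3⟩ := unit_of h.sph hPG
      exact (KU.podd (p := p) ht ho e hF (hF'.trans h1) h2 h3).elim
    · obtain rfl : m = 8 := by omega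
      rcases h1 with rfl | rfl | ⟨rfl, h1⟩
      · exact Or.inl ⟨rfl, rfl, hF' ▸ ho, F, _, _, hF', ⟨e⟩⟩
      · refine (not_p2 h hp hf (hF'.symm.trans hq) (Dvd.intro 1 ?_)).elim
        rw [CS.card_aut_congr e, S0816.result p f hf hq ((Nat.odd_pow_iff hf.ne').1 (hq ▸ ho)) 4 (by omega), ← hF',
          ← S0292.result (F := F) rfl ho 4 (by omega)]
        ring
      · exact (Nat.not_odd_iff_even.2 h1 (hF' ▸ ho)).elim
  · rcases hd with ⟨h1, h2, -, h3⟩ | h1 | h1
    · exact Or.inr (Or.inr (Or.inr ⟨h1, by omega, F, _, _, hF'.trans h3, he⟩))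
    · omega
    · omega

end Cfsg.Agent.SM.Ti
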