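import Cfsg.Agent.SM.Ti.Ins

/-!
# S3570, from the spheres to the tight cores (helper69, `notes/SM/ti.md`)

* `ins_all` : the boxes `BoxQ`, `BoxH`, `BoxP` give `Ins k` for all kinds;
* `boxTi_of` : `CS.BoxTi`;
* `tc_of` : `Sph`, `Cs` on `Fin n` give `Tc m P`.
-/

set_option autoImplicit false
set_option linter.unusedSectionVars false

namespace Cfsg.Agent.SM.Ti

open Cfsg Cfsg.Geo Matrix
open Cfsg.Agent.SM.CS (Sph Cs Hy Kind)

theorem ins_all (hQ : BoxQ) (hH : BoxH) (hP : BoxP) (k : Kind) : Ins k := by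
  cases k
  · exact hH
  · exact hQ.1
  · exact hQ.2.1
  · exact hQ.2.2
  · exact hP

theorem boxTi_of (hQ : BoxQ) (hH : BoxH) (hP : BoxP) : CS.BoxTi := fun ι _ _ K _ _ k q m B Sg G X Y P s c =>
  ⟨(ins_all hQ hH hP k ι K q m B Sg G X Y P s c).1, (ins_all hQ hH hP k ι K q m B Sg G X Y P s c).2.2⟩

variable {ι : Type} [Fintype ι] [DecidableEq ι] {K : Type} [Field K] [Fintype K] {k : Kind} {q m : ℕ}
  {B : (ι → K) → (ι → K) → K} {Sg : (ι → K) → Prop} {G X Y P : Subgroup (GL ι K)}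

/-- the dimension and the field of a sphere -/
theorem sph_dim (s : Sph q m k B Sg G X) :
    (k = .o ∧ Fintype.card ι = 2 * m + 1 ∧ Odd q ∧ Fintype.card K = q) ∨
      (k = .u ∧ Fintype.card ι = 2 * m ∧ Fintype.card K = q ^ 2) ∨
      ((k = .p1 ∨ k = .p2 ∨ (k = .s ∧ Even q)) ∧ Fintype.card ι = 2 * m ∧ Fintype.card K = q) := by
  cases s with
  | u f hf hK hd => exact Or.inr (Or.inl ⟨rfl, hd, hK⟩)
  | p1 Q hQ hp hK hd => exact Or.inr (Or.inr ⟨Or.inl rfl, hd, hK⟩)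
  | p2 Q hQ hp hK hd => exact Or.inr (Or.inr ⟨Or.inr (Or.inl rfl), hd, hK⟩)
  | o Q hQ hK hq hd => exact Or.inl ⟨rfl, hd, hq, hK⟩
  | s Q hQ hp hK hq hd => exact Or.inr (Or.inr ⟨Or.inr (Or.inr ⟨rfl, hq⟩), hd, hK⟩)

/-- **From a sphere to a tight core.** -/
theorem tc_of {n : ℕ} {B : (Fin n → K) → (Fin n → K) → K} {Sg : (Fin n → K) → Prop} {G X Y P : Subgroup (GL (Fin n) K)}
    (hI : Ins k) (s : Sph q m k B Sg G X) (c : Cs k G X Y P) : Tc m P := by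
  obtain ⟨h1, h2, h3⟩ := hI _ K q m B Sg G X Y P s c
  have h4 := c.big
  have h5 := sph_dim s
  rw [Fintype.card_fin] at h4 h5
  refine ⟨H915.LD.core_of_residual c.core, h4, by omega, by omega, fun e => ?_,
    B, Sg, G, Y, h1, h2, c.core.le.trans c.le, c.le, c.core.normal, h3⟩
  rcases h5 with ⟨-, -, h6, h7⟩ | h6 | h6
  · rwa [Nat.card_eq_fintype_card, h7]
  · omega
  · omega

theorem tc_of_hy {n : ℕ} {B : (Fin n → K) → (Fin n → K) → K} {Sg : (Fin n → K) → Prop} {G X Y P : Subgroup (GL (Fin n) K)}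
    (hI : Ins k) (h : Hy k q m B Sg G X Y P) : Tc m P := tc_of hI h.sph h.toCs

end Cfsg.Agent.SM.Ti
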