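import Cfsg.Agent.SM.Ti.Big

/-!
# S3570, the big cell on a polar space (helper69)

**`cell`** : the fixed point `⟨v⟩` of `U` is singular, its stabiliser is `P_J`, and the points of its orbit which are not
perpendicular to it form one orbit of `U`.
-/

set_option autoImplicit false
set_option linter.unusedSectionVars false

namespace Cfsg.Agent.SM.Ti

open CoxeterSystem Cfsg.Agent.ChevalleyStructure.CoxeterGeom Cfsg.Agent.Tits.Roots Cfsg.Agent.Tits.Core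
  Cfsg.Agent.Tits.Exchange Cfsg.Agent.Nodes.Reps Cfsg.Agent.Nodes.BNOf Cfsg.Agent.Nodes.StabComb
  Cfsg.Agent.Nodes.Bruhat Cfsg.Agent.Nodes.OppDec Cfsg.Agent.Nodes.LeviDec Cfsg.Agent.KFacts.RgdOpp
  Cfsg.Agent.Omega.CR Cfsg.Agent.Omega.FOne.Lift.Sd Cfsg.Agent.H911 Cfsg.Agent.H905.Md Cfsg.Agent.H156.Ppd
open Cfsg Cfsg.Geo Projectivization
open Cfsg.Agent.H915.LD Cfsg.Agent.H100.Ppd
open scoped MatrixGroups Matrix LinearAlgebra.Projectivization Pointwise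

universe u

variable {I W Y : Type*} [Fintype I] [DecidableEq I] [Group W] [Group Y] {M : CoxeterMatrix I}
  {cs : CoxeterSystem M W} {A : I → I → ℤ} {hA : IsCartan M A} {p : ℕ} {T : Subgroup Y} {nn : I → Y}
  {X : (I → ℤ) → Subgroup Y} {n : ℕ} {F : Type u} [Field F] [Finite F] {m : ℕ} {P : Subgroup (GL (Fin n) F)}

/-- **The big cell.** -/
theorem cell {B : (Fin n → F) → (Fin n → F) → F} {Sg : (Fin n → F) → Prop} {G : Subgroup (GL (Fin n) F)} (hC : Core P)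
    (hB : Pol B Sg G) (hS : Sing Sg G) (hPG : P ≤ G) (R : RGD cs hA p T nn X) [Finite Y] [Finite W] [hp : Fact p.Prime]
    [CharP F p] (hG : GG cs hA T X = ⊤) (hT : ∀ s ∈ T, ∀ t ∈ T, s * t = t * s) {φ : Y →* GL (Fin n) F} (hφ : φ.range = P) :
    ∃ (v : Fin n → F) (k : Y), v ≠ 0 ∧ Sg v ∧ v ∈ D cs hA X (lrep φ) ∧ (∀ x ∈ D cs hA X (lrep φ), ∃ c : F, x = c • v) ∧
      Rp cs R.nsys (w0 cs) k ∧ B (ap (φ k⁻¹) v) v ≠ 0 ∧
      (∀ g : Y, g ∈ PJ cs hA T X (Jx cs hA X (lrep φ)) ↔ ∃ c : F, c • v = ap (φ g) v) ∧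
      (∀ g : Y, B (ap (φ g) v) v ≠ 0 ↔
        ∃ u ∈ RGD.Sup X (RGD.Pos cs hA), ∃ c : F, c ≠ 0 ∧ ap (φ g) v = c • ap (φ u) (ap (φ k⁻¹) v)) ∧
      ∀ (w : W) (g : Y), Rp cs R.nsys w g → B (ap (φ g) v) v ≠ 0 → w0 cs * w ∈ WJ cs (Jx cs hA X (lrep φ)) := by
  have hne : Nonempty (Fin n) := hC.nonempty
  have hirr := H69.Ppd.lrep_irr (T := T) (X := X) (h := hA) (cs := cs) hG hφ hC.absIrred
  set ρ := lrep φ with hρ
  set J := Jx cs hA X ρ with hJ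
  set U := RGD.Sup X (RGD.Pos cs hA) with hU
  have hρa : ∀ y v, ρ y v = ap (φ y) v := fun y v => H69.Ppd.lrep_apply φ y v
  have hP : ∀ y, φ y ∈ P := fun y => hφ ▸ ⟨y, rfl⟩
  have hfix : ∀ y a b, B (ρ y a) (ρ y b) = B a b := fun y a b => by
    rw [hρa, hρa]
    exact hB.fix _ (hPG (hP y)) a b
  -- the fixed vector
  have hUp : IsPGroup p U := R.isPGroup_Upos
  obtain ⟨v, hv0, hvS, hvU⟩ := hS p (U.map φ) hp.out (CharP.cast_eq_zero F p)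
    (by rintro _ ⟨y, -, rfl⟩; exact hPG (hP y)) (hUp.map φ)
  have hvD : v ∈ D cs hA X ρ := fun u hu => by
    rw [hρa]
    exact hvU _ ⟨u, hu, rfl⟩
  have hD : ∀ x ∈ D cs hA X ρ, ∃ c : F, x = c • v := by
    obtain ⟨w, -, hw, -⟩ := H69.Ppd.exists_w R hG hT hφ hC.absIrred
    intro x hx
    rw [hw] at hx hvD
    obtain ⟨c, rfl⟩ := Submodule.mem_span_singleton.1 hx
    obtain ⟨d, rfl⟩ := Submodule.mem_span_singleton.1 hvD
    have hd : d ≠ 0 := fun e => hv0 (by rw [e, zero_smul])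
    exact ⟨c / d, by rw [smul_smul, div_mul_cancel₀ _ hd]⟩
  have hρ0 : ∀ y {x : Fin n → F}, x ≠ 0 → ρ y x ≠ 0 := fun y x hx => by
    rw [hρa]
    exact ap_ne _ hx
  have hD' : ∀ y, ρ y v ∈ D cs hA X ρ → ∃ c : F, c ≠ 0 ∧ ρ y v = c • v := fun y hy => by
    obtain ⟨c, hc⟩ := hD _ hy
    exact ⟨c, fun e => hρ0 y hv0 (by rw [hc, e, zero_smul]), hc⟩
  have hBv : ∀ b ∈ RGD.B cs hA T X, ∃ c : F, c ≠ 0 ∧ ρ b v = c • v := by
    intro b hb
    obtain ⟨t, ht, u, hu, rfl⟩ := R.mem_B.1 hb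
    refine hD' _ ?_
    rw [rho_mul, hvD u hu]
    exact D_ivt R hirr t ht v hvD
  -- the functional
  obtain ⟨k, hk⟩ := exists_rp cs R.nsys (w0 cs)
  have hψ : hB.fn (ρ k v) ∈ fx (dualRep ρ) (UN cs hA X) := by
    rw [mem_fx_dual]
    intro u hu x
    rw [← cj_U R hk, mem_cj] at hu
    rw [hB.fn_apply, hB.fn_apply, ← hfix u x (ρ k v)]
    congr 1
    have e : u * k = k * (k⁻¹ * u * k) := by group
    rw [← rho_mul, e, rho_mul, hvD _ hu]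
  have hcell : ∀ {w : W} {g : Y}, Rp cs R.nsys w g → B (ρ g v) v ≠ 0 → w0 cs * w ∈ WJ cs J := by
    intro w g hg h0
    refine mem_WJ_of_pair R hirr hψ (hk.mul hg) hvD ?_
    rwa [hB.fn_apply, rho_mul, hfix]
  have hnp : ∀ g : Y, B (ρ g v) v ≠ 0 → ∃ u ∈ U, ∃ c : F, c ≠ 0 ∧ ρ g v = c • ρ u (ρ k⁻¹ v) := by
    intro g h0
    obtain ⟨w, b₁, hb₁, g', hg', b₂, hb₂, rfl⟩ := (mem_GG R).1 (show g ∈ GG cs hA T X by rw [hG]; trivial)
    obtain ⟨c₂, hc₂, e₂⟩ := hBv b₂ hb₂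
    obtain ⟨c₁, hc₁, e₁⟩ := hBv b₁⁻¹ (inv_mem hb₁)
    have h1 : B (ρ g' v) v ≠ 0 := by
      intro h1
      apply h0
      rw [← hfix b₁⁻¹, ← rho_mul, mul_assoc, inv_mul_cancel_left, rho_mul, e₂, map_smul, e₁, hB.eq_zero_iff hc₂ hc₁]
      exact h1
    obtain ⟨t, ht, u, hu, rfl⟩ := R.mem_B.1 hb₁
    have h2 : Rp cs R.nsys (w0 cs * w) (k * (t * g')) := by
      have h3 := hk.mul ((rp_of_mem (cs := cs) (hN := R.nsys) ht).mul hg')
      rwa [one_mul] at h3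
    obtain ⟨c, hc, e⟩ := hD' _ (rp_D R hirr (hcell hg' h1) h2 hvD)
    refine ⟨t * u * t⁻¹, (Subgroup.mem_normalizer_iff.1 (R.T_le_normalizer_U ht) u).1 hu, c₂ * c, mul_ne_zero hc₂ hc, ?_⟩
    have e' : t * u * g' * b₂ = t * u * t⁻¹ * (k⁻¹ * (k * (t * g'))) * b₂ := by group
    rw [e', rho_mul, e₂, map_smul, rho_mul ρ (t * u * t⁻¹), rho_mul ρ k⁻¹, e, map_smul, map_smul, smul_smul]
  have hUB : ∀ u ∈ U, ∀ x, B (ρ u x) v = B x v := fun u hu x => by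
    conv_lhs => rw [← hvD u hu]
    exact hfix u x v
  have hk0 : B (ρ k⁻¹ v) v ≠ 0 := by
    intro h0
    obtain ⟨y, -, hy⟩ := hB.partner v hvS hv0
    have h1 := span_translates hirr hv0
    have h2 : Submodule.span F (Set.range fun g : GG cs hA T X => ρ g.1 v) ≤ LinearMap.ker (hB.fn v) := by
      rw [Submodule.span_le]
      rintro _ ⟨g, rfl⟩
      by_contra h3
      obtain ⟨u, hu, c, -, e⟩ := hnp g h3
      apply h3
      show B (ρ g v) v = 0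
      rw [e, hB.smul, hUB u hu, h0, mul_zero]
    rw [h1] at h2
    exact hy (h2 Submodule.mem_top)
  have hk1 : B v (ρ k v) ≠ 0 := by rwa [← hfix k⁻¹, rho_inv_rho]
  -- the stabiliser
  let x : ℙ F (Fin n → F) := Projectivization.mk F v hv0
  have hx : ∀ g : GL (Fin n) F, g • x = x ↔ ∃ c : F, c • v = ap g v := fun g => by
    rw [smul_mk', mk_eq_mk_iff']
  have hst : (MulAction.stabilizer (GL (Fin n) F) x).comap φ = PJ cs hA T X J := by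
    ext g
    rw [Subgroup.mem_comap, MulAction.mem_stabilizer_iff, hx, ← hρa]
    constructor
    · rintro ⟨c, hc⟩
      obtain ⟨w, hw⟩ := (mem_GG R).1 (show g ∈ GG cs hA T X by rw [hG]; trivial)
      rw [cell_mem_PJ_iff R hw]
      obtain ⟨b₁, hb₁, g', hg', b₂, hb₂, rfl⟩ := hw
      obtain ⟨c₂, hc₂, e₂⟩ := hBv b₂⁻¹ (inv_mem hb₂)
      obtain ⟨c₁, hc₁, e₁⟩ := hBv b₁⁻¹ (inv_mem hb₁)
      have hc0 : c ≠ 0 := fun e => hρ0 _ hv0 (by rw [← hc, e, zero_smul])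
      refine mem_WJ_of_pair R hirr hψ hg' hvD ?_
      have e' : g' = b₁⁻¹ * (b₁ * g' * b₂ * b₂⁻¹) := by group
      rw [hB.fn_apply, e', rho_mul, rho_mul, e₂, map_smul, ← hc, map_smul, map_smul, e₁, hB.smul, hB.smul, hB.smul]
      exact mul_ne_zero hc₂ (mul_ne_zero hc0 (mul_ne_zero hc₁ hk1))
    · intro hg
      obtain ⟨l, hl, u, hu, rfl⟩ := (mem_PJ R).1 hg
      rw [rho_mul, hvD u (VJ_le_U J hu)]
      obtain ⟨c, hc⟩ := hD _ (LJ_D R hirr l hl v hvD)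
      exact ⟨c, hc.symm⟩
  refine ⟨v, k, hv0, hvS, hvD, hD, hk, hk0, fun g => ?_, fun g => ⟨hnp g, ?_⟩, fun w g hg => hcell hg⟩
  · rw [← hst, Subgroup.mem_comap, MulAction.mem_stabilizer_iff, hx]
  · rintro ⟨u, hu, c, hc, e⟩
    rw [e, hB.smul]
    refine mul_ne_zero hc ?_
    have h1 := hUB u hu (ρ k⁻¹ v)
    rw [hρa, hρa] at h1
    rw [h1]
    exact hk0

end Cfsg.Agent.SM.Ti
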