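import Cfsg.Agent.SM.Ti.Rows
import Cfsg.Agent.H650.Ppd.Psl
import Cfsg.Agent.H35.Poin

/-!
# S3570, tight cores: the row `PSL_N` (helper38)
-/

set_option autoImplicit false
set_option linter.style.haveILetI false

namespace Cfsg.Agent.SM.Ti.A

open Matrix CoxeterSystem Cfsg.Agent.ChevalleyStructure.CoxeterGeom Cfsg.Agent.Tits.Roots Cfsg.Agent.Tits.Core
  Cfsg.Agent.Tits.Exchange Cfsg.Agent.Nodes.Reps Cfsg.Agent.Nodes.BNOf Cfsg.Agent.Nodes.StabComb
  Cfsg.Agent.Nodes.Bruhat Cfsg.Agent.Nodes.OppDec Cfsg.Agent.Nodes.LeviDec Cfsg.Agent.KFacts.RgdOpp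
  Cfsg.Agent.Omega.CR Cfsg.Agent.Omega.FOne.Lift.Sd Cfsg.Agent.H905.Md Cfsg.Agent.Nodes.RootsA
open Cfsg Cfsg.Geo
open Cfsg.Agent.H911 (lin)
open Cfsg.Agent.LieRecognition.BNCox (cA)
open Cfsg.Agent.H915.LD (Core Soc)
open Cfsg.Agent.H650.Ppd Cfsg.Agent.H35.Poin

section index

variable {l p y : ℕ} {W Y : Type*} [Group W] [Group Y] [Finite W] [Finite Y] {cs : CoxeterSystem (cA l) W} {T : Subgroup Y}
  {nn : Fin l → Y} {X : (Fin l → ℤ) → Subgroup Y}

theorem card_interval (R : RGD cs (isCartan l) p T nn X) (hl : 0 < l) (hy : ∀ i, Nat.card (X (sr i)) = y) {J : Set (Fin l)}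
    {a b : ℕ} (hb : b ≤ l) (hJ : ∀ i, i ∈ J ↔ a ≤ i.1 ∧ i.1 < b) :
    Nat.card ↥(PJ cs (isCartan l) T X J) =
      (∏ i ∈ Finset.range (b - a), th y (i + 2)) * Nat.card ↥(PJ cs (isCartan l) T X ∅) := by
  rw [card_PJ_path R (c := fun t => ⟨min (a + t) (l - 1), by omega⟩) (m := b - a) (y := y) ⟨fun t ht => ?_, fun t ht => ?_,
    fun s t h1 h2 => ?_, fun j hj h t ht => ?_, fun s h1 t h2 e => ?_⟩ fun _ _ => hy _]
  · rw [Set.sdiff_eq_empty.2]
    · rfl
    · exact fun j hj => ⟨j - a, by have := (hJ j).1 hj; omega, Fin.ext (by have := (hJ j).1 hj; simp only; omega)⟩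
  · rw [hJ]; simp only; omega
  · simp only [AA, Fin.mk.injEq]
    constructor <;> rw [if_neg (by omega), if_pos (by omega)]
  · simp only [AA, Fin.mk.injEq]
    constructor <;> rw [if_neg (by omega), if_neg (by omega)]
  · have := (hJ j).1 hj
    exact (h (j - a) (by omega) (Fin.ext (by simp only; omega))).elim
  · simp only [Fin.mk.injEq] at e
    omega

theorem index_cases (R : RGD cs (isCartan l) p T nn X) (hG : GG cs (isCartan l) T X = ⊤) (hl : 0 < l)
    (hy : ∀ i, Nat.card (X (sr i)) = y) {J : Set (Fin l)} (hJ : ∀ i : Fin l, 0 < i.1 → i.1 + 1 < l → i ∈ J) :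
    (PJ cs (isCartan l) T X J).index = 1 ∨ (PJ cs (isCartan l) T X J).index = th y (l + 1) ∨
      (2 ≤ l ∧ (PJ cs (isCartan l) T X J).index = th y l * th y (l + 1)) := by
  classical
  have h1 := card_interval R hl hy (J := Set.univ) (a := 0) le_rfl fun i => by simp
  rw [show PJ cs (isCartan l) T X Set.univ = ⊤ from top_le_iff.1 (by rw [← hG, ← LJ_univ]; exact LJ_le_PJ), Subgroup.card_top,
    Nat.sub_zero] at h1
  obtain ⟨a, b, ha, hb, hb', h⟩ : ∃ a b, a ≤ 1 ∧ b ≤ l ∧ l ≤ b + 1 ∧ ∀ i, i ∈ J ↔ a ≤ i.1 ∧ i.1 < b := by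
    refine ⟨if ⟨0, hl⟩ ∈ J then 0 else 1, if ⟨l - 1, by omega⟩ ∈ J then l else l - 1, by split_ifs <;> omega,
      by split_ifs <;> omega, by split_ifs <;> omega, fun i => ?_⟩
    have := i.2
    have e0 : i.1 = 0 → (i ∈ J ↔ ⟨0, hl⟩ ∈ J) := fun e => by rw [show i = ⟨0, hl⟩ from Fin.ext e]
    have e1 : i.1 = l - 1 → (i ∈ J ↔ ⟨l - 1, by omega⟩ ∈ J) := fun e => by rw [show i = ⟨l - 1, by omega⟩ from Fin.ext e]
    have e2 := hJ i
    by_cases k : i ∈ J <;> split_ifs with k0 k1 k1 <;> simp only [k, k0, k1, iff_true, iff_false, true_iff, false_iff,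
      not_true, not_false_iff, imp_false, implies_true] at * <;> omega
  have h2 := (PJ cs (isCartan l) T X J).card_mul_index
  rw [card_interval R hl hy hb h, h1, mul_right_comm] at h2
  have h3 := Nat.eq_of_mul_eq_mul_right Nat.card_pos h2
  have h4 : ∀ k, 0 < ∏ i ∈ Finset.range k, th y (i + 2) := fun k => Finset.prod_pos fun i _ => th_pos _ (by omega)
  generalize hm : b - a = m at h3
  rcases show l = m ∨ l = m + 1 ∨ l = m + 2 by omega with rfl | rfl | rfl
  · exact .inl (Nat.eq_of_mul_eq_mul_left (h4 _) (h3.trans (mul_one _).symm))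
  · rw [Finset.prod_range_succ] at h3
    exact .inr (.inl (Nat.eq_of_mul_eq_mul_left (h4 _) h3))
  · rw [Finset.prod_range_succ, Finset.prod_range_succ, mul_assoc] at h3
    exact .inr (.inr ⟨by omega, Nat.eq_of_mul_eq_mul_left (h4 _) h3⟩)

end index

theorem num {p Q s j l : ℕ} (hp : p.Prime) (hQ : p ∣ Q) (h : (1 + p ^ s) * th Q j = th (Q ^ j) l)
    (hj : (j = 1 ∧ 3 ≤ l) ∨ (j = 2 ∧ (l = 2 ∨ l = 3))) (h2 : 2 ≤ Q) : False := by
  rcases hj with ⟨rfl, hl⟩ | ⟨rfl, rfl | rfl⟩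
  · obtain ⟨k, rfl⟩ : ∃ k, l = k + 3 := ⟨l - 3, by omega⟩
    rw [pow_one, th_succ' Q (k + 2), show th Q 1 = 1 by simp [th], mul_one] at h
    obtain ⟨t, -, ht⟩ := (Nat.dvd_prime_pow hp).1 (Dvd.intro_left Q (show Q * th Q (k + 2) = p ^ s by omega))
    have h3 := th_coprime Q (k + 1)
    rcases Nat.eq_zero_or_pos t with rfl | h0
    · have := th_pos Q (Nat.succ_pos k)
      rw [th_succ', pow_zero] at ht
      nlinarith
    · exact hp.one_lt.ne' (Nat.eq_one_of_dvd_coprimes h3 (ht ▸ dvd_pow_self p h0.ne') hQ)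
  · have h1 : (Q + 1 : ℤ) ∣ 2 := ⟨1 + p ^ s - (Q - 1), by
      simp only [th, Finset.sum_range_succ, Finset.range_zero, Finset.sum_empty] at h
      zify at h
      linear_combination -h⟩
    have := Int.le_of_dvd (by norm_num) h1
    omega
  · simp only [th, Finset.sum_range_succ, Finset.range_zero, Finset.sum_empty] at h
    have h1 : (Q + 1 : ℤ) ∣ 3 := ⟨1 + p ^ s - (Q - 1) * (Q ^ 2 + 2), by
      zify at h
      linear_combination -h⟩
    have := Int.le_of_dvd (by norm_num) h1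
    obtain rfl : Q = 2 := by omega
    obtain rfl := (Nat.prime_dvd_prime_iff_eq hp Nat.prime_two).1 hQ
    have h3 : 3 ∣ 2 ^ s := ⟨2, by omega⟩
    have := Nat.prime_three.dvd_of_dvd_pow h3
    omega

theorem pow_ge {j : ℕ} (hj : 3 ≤ j) : 2 * j + 2 ≤ 2 ^ j := by
  induction j, hj using Nat.le_induction with
  | base => norm_num
  | succ j _ ih => rw [pow_succ]; omega

theorem boxA : BoxA := fun n m p hp F _ _ _ K _ _ _ P h N hN h4 hm => ⟨fun e => by
  have hC := h.core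
  obtain ⟨l, rfl⟩ : ∃ l, N = l + 1 := ⟨N - 1, by omega⟩
  have hK4 : l = 1 → 4 ≤ Nat.card K := fun hl => by rw [Nat.card_eq_fintype_card]; exact h4 (by omega)
  obtain ⟨j, hj, hjK⟩ := psl_card p hC.absIrred hC.perfect (by omega) hK4 e hC.no_subfield
  have hQ : 2 ≤ Nat.card F := Finite.one_lt_card
  rw [← Nat.card_eq_fintype_card, ← hjK, ← pow_mul] at hm
  obtain rfl := Nat.pow_right_injective hQ hm
  obtain ⟨φ, hφ, -, -⟩ := psl_cover p hC.perfect (by omega) hK4 e
  have h6 := h.six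
  have hn := h.hi
  have h13 := h.ge
  haveI : Nonempty (Fin n) := ⟨⟨0, by omega⟩⟩
  haveI : Finite (cA l).Group := finite_W (cA l).toCoxeterSystem (isCartan l)
  haveI hchar : CharP (AlgebraicClosure F) p := charP_of_injective_algebraMap (algebraMap F _).injective p
  have R := Nodes.RGDTypeA.rgd (cA l).toCoxeterSystem (isCartan l) (F := K) (p := p)
  have hG := gg_eq_top (T := Nodes.RGDTypeA.T (Fin (l + 1)) K)
    (Nodes.RGDTypeA.G1_eq_top (F := K) (cA l).toCoxeterSystem (isCartan l))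
  have hirr := ac_irr R hG slT_comm hφ hC.absIrred
  have hD := finrank_D R hirr slT_comm
  have hc : (l + 1).choose 2 * 2 = (l + 1) * l := by
    rw [Nat.choose_two_right, Nat.add_sub_cancel, Nat.div_mul_cancel]
    rw [mul_comm]
    exact (Nat.even_mul_succ_self l).two_dvd
  have hjl : 2 ≤ l → (j = 1 ∧ 5 ≤ l) ∨ (j = 2 ∧ (l = 2 ∨ l = 3)) := fun hl => by
    have h5 := card_ge_A p hC hl e hjK.symm
    rw [Fintype.card_fin] at h5
    rcases lt_trichotomy j 2 with k | rfl | k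
    · obtain rfl : j = 1 := by omega
      omega
    · norm_num at h5
      have : l < 4 := by nlinarith
      omega
    · have h7 := Nat.mul_le_mul_left ((l + 1).choose 2) (show 2 * j ≤ 2 ^ j - 2 by have := pow_ge k; omega)
      nlinarith [Nat.mul_le_mul_left (j * (l + 1)) hl]
  obtain ⟨⟨s, -, hs⟩, -, -⟩ := h.big R hG slT_comm hφ
  rw [th_mul_th, hjK, ← mul_assoc] at hs
  have h1 := th_pos (Nat.card K) (Nat.succ_pos l)
  have h2 : 2 ≤ (1 + p ^ s) * th (Nat.card F) j := by nlinarith [th_pos (Nat.card F) hj, pow_pos hp.out.pos s]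
  rcases index_cases R hG (by omega) (y := Nat.card K) (fun i => by
    rw [Nodes.RGDTypeA.X_sr]
    exact (Nat.card_congr (Equiv.ofInjective _ fun a b k => Nodes.RGDTypeA.tv_inj (Fin.castSucc_lt_succ).ne k)).symm)
    (J := Jx (cA l).toCoxeterSystem (isCartan l) (Nodes.RGDTypeA.X K) (lin (acRep φ))) (fun i k1 k2 => by
      by_contra hi
      obtain ⟨d, hd2, hd⟩ := edge_pow_of_card R hG slT_comm hφ hC.absIrred (nd_A i) hi hjK.symm
      have h3 := dim_ge_A R hirr hi
      have h4 := finrank_Io R hirr i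
      rw [hd, hD] at h4
      rw [hD, mul_one, Module.finrank_fintype_fun_eq_card, Fintype.card_fin] at h3
      have h5 : 2 ^ j ≤ d ^ j := Nat.pow_le_pow_left hd2 j
      have h7 := choose_two_le (m := l + 1) (k := i.val + 1) (by omega) (by omega)
      rcases hjl (by omega) with ⟨rfl, k⟩ | ⟨rfl, rfl | rfl⟩
      · have := h7.trans (le_self_add.trans h3)
        nlinarith
      · omega
      · rw [show Nat.choose (3 + 1) 2 = 6 from rfl] at h3 h7
        omega) with k | k | ⟨hl, k⟩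
  · rw [k] at hs
    nlinarith
  · rw [k] at hs
    nlinarith
  · rw [k, ← hjK] at hs
    obtain ⟨a, -, ha⟩ := @FiniteField.card F _ (Fintype.ofFinite F) p _
    exact num hp.out (by rw [@Nat.card_eq_fintype_card F (Fintype.ofFinite F), ha]; exact dvd_pow_self p a.ne_zero)
      (Nat.eq_of_mul_eq_mul_right (hjK ▸ h1) hs).symm ((hjl hl).imp_left fun k => ⟨k.1, by omega⟩) hQ⟩

end Cfsg.Agent.SM.Ti.A
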