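import Mathlib

/-!
# S3570, tight sets: the abstract double count (helper69)

`G` acts with rank three on the set `S` (relation `np`).  If `W` is a subset whose points see `0` (inside) or `t`
(outside) points of `W`, and `E` meets all translates of `W` and all translates of `D` in a constant number of points,
then `D` is tight.
-/

set_option autoImplicit false

namespace Cfsg.Agent.SM.Ti

open Finset

variable {G Ω : Type*} [Group G] [MulAction G Ω]

/-- rank three on the invariant set `S` -/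
structure R3 (G : Type*) {Ω : Type*} [Group G] [MulAction G Ω] (S : Set Ω) (np : Ω → Ω → Prop) : Prop where
  irrefl : ∀ x ∈ S, ¬ np x x
  t0 : ∀ x ∈ S, ∀ y ∈ S, ∃ g : G, g • x = y
  t1 : ∀ x ∈ S, ∀ y ∈ S, ∀ x' ∈ S, ∀ y' ∈ S, x ≠ y → x' ≠ y' → (np x y ↔ np x' y') → ∃ g : G, g • x = x' ∧ g • y = y'

open Classical in
/-- the number of `g` moving both points into `E` -/
noncomputable def kk (G : Type*) {Ω : Type*} [Group G] [MulAction G Ω] [Fintype G] (E : Set Ω) (x y : Ω) : ℕ :=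
  #{g : G | g • x ∈ E ∧ g • y ∈ E}

theorem kk_smul [Fintype G] (E : Set Ω) (h : G) (x y : Ω) : kk G E (h • x) (h • y) = kk G E x y := by
  classical
  unfold kk
  refine card_bij (fun g _ => g * h) ?_ ?_ ?_
  · intro g hg
    simpa [mul_smul] using hg
  · intro g _ g' _ e
    exact mul_right_cancel e
  · intro g hg
    exact ⟨g * h⁻¹, by simpa [mul_smul] using hg, by simp⟩

open Classical in
theorem sum_kk [Fintype G] (E : Set Ω) (D : Finset Ω) {c : ℕ} (h : ∀ g : G, #{y ∈ D | g • y ∈ E} = c) (x : Ω) :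
    ∑ y ∈ D, kk G E x y = kk G E x x * c := by
  unfold kk
  simp only [and_self, card_filter]
  rw [sum_comm, sum_mul]
  refine sum_congr rfl fun g _ => ?_
  by_cases hg : g • x ∈ E
  · simp only [hg, true_and, if_true, one_mul]
    rw [← h g, card_filter]
  · simp [hg]

open Classical in
theorem sum_kk_self [Fintype G] (E : Set Ω) (D : Finset Ω) {c : ℕ} (h : ∀ g : G, #{y ∈ D | g • y ∈ E} = c) :
    ∑ y ∈ D, kk G E y y = Fintype.card G * c := by
  unfold kk
  simp only [and_self, card_filter]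
  rw [sum_comm, ← card_univ, ← smul_eq_mul, ← sum_const]
  refine sum_congr rfl fun g _ => ?_
  rw [← h g, card_filter]

open Classical in
/-- **The double count.** -/
theorem tight_abs [Finite G] {S : Set Ω} {np : Ω → Ω → Prop} (R : R3 G S np) (W D : Finset Ω) (E : Set Ω) {t : ℕ}
    (hWS : ∀ x ∈ W, x ∈ S) (hDS : ∀ x ∈ D, x ∈ S)
    (hW : ∀ x ∈ S, #{y ∈ W | np x y} = if x ∈ W then 0 else t) (hW0 : W.Nonempty) (hW1 : ∃ x ∈ S, x ∉ W)
    (hE : ∃ x ∈ S, ∃ y ∈ S, x ∈ E ∧ y ∉ E) {cW cD : ℕ} (hEW : ∀ g : G, #{y ∈ W | g • y ∈ E} = cW)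
    (hED : ∀ g : G, #{y ∈ D | g • y ∈ E} = cD) {x : Ω} (hx : x ∈ D) :
    #D * t = #W * (t + #{y ∈ D | np x y}) := by
  have := Fintype.ofFinite G
  obtain ⟨w, hw⟩ := hW0
  have ha : ∀ y ∈ S, kk G E y y = kk G E w w := fun y hy => by
    obtain ⟨g, rfl⟩ := R.t0 w (hWS w hw) y hy
    exact kk_smul E g w w
  obtain ⟨b, hb⟩ : ∃ b, ∀ y ∈ S, ∀ z ∈ S, y ≠ z → ¬ np y z → kk G E y z = b := by
    by_cases h : ∃ y ∈ S, ∃ z ∈ S, y ≠ z ∧ ¬ np y z
    · obtain ⟨y, hy, z, hz, h1, h2⟩ := h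
      refine ⟨kk G E y z, fun y' hy' z' hz' h3 h4 => ?_⟩
      obtain ⟨g, rfl, rfl⟩ := R.t1 y hy z hz y' hy' z' hz' h1 h3 (iff_of_false h2 h4)
      exact kk_smul E g y z
    · exact ⟨0, fun y hy z hz h1 h2 => (h ⟨y, hy, z, hz, h1, h2⟩).elim⟩
  obtain ⟨c, hc⟩ : ∃ c, ∀ y ∈ S, ∀ z ∈ S, np y z → kk G E y z = c := by
    by_cases h : ∃ y ∈ S, ∃ z ∈ S, np y z
    · obtain ⟨y, hy, z, hz, h2⟩ := h
      refine ⟨kk G E y z, fun y' hy' z' hz' h4 => ?_⟩
      obtain ⟨g, rfl, rfl⟩ := R.t1 y hy z hz y' hy' z' hz' (fun e => R.irrefl y hy (e ▸ h2))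
        (fun e => R.irrefl y' hy' (e ▸ h4)) (iff_of_true h2 h4)
      exact kk_smul E g y z
    · exact ⟨0, fun y hy z hz h2 => (h ⟨y, hy, z, hz, h2⟩).elim⟩
  set a := kk G E w w with ha'
  have key : ∀ (A : Finset Ω), (∀ y ∈ A, y ∈ S) → ∀ {k : ℕ}, (∀ g : G, #{y ∈ A | g • y ∈ E} = k) →
      (a : ℤ) * #A = Fintype.card G * k ∧ ∀ y ∈ S,
        (a : ℤ) * k = b * #A + (a - b) * (if y ∈ A then 1 else 0) + (c - b) * #{z ∈ A | np y z} := by
    intro A hA k hk
    constructor
    · have h1 := sum_kk_self E A hk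
      rw [sum_congr rfl (fun y hy => ha y (hA y hy)), sum_const, smul_eq_mul, mul_comm] at h1
      exact_mod_cast h1
    · intro y hy
      have h1 := sum_kk E A hk y
      rw [ha y hy] at h1
      have h2 : ∀ z ∈ A, (kk G E y z : ℤ) = b + (a - b) * (if y = z then 1 else 0) +
          (c - b) * (if np y z then 1 else 0) := by
        intro z hz
        by_cases h3 : y = z
        · subst h3
          rw [ha y hy, if_pos rfl, if_neg (R.irrefl y hy)]
          ring
        · by_cases h4 : np y z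
          · rw [hc y hy z (hA z hz) h4, if_neg h3, if_pos h4]
            ring
          · rw [hb y hy z (hA z hz) h3 h4, if_neg h3, if_neg h4]
            ring
      have h3 : ((∑ z ∈ A, kk G E y z : ℕ) : ℤ) = a * k := by exact_mod_cast h1
      rw [← h3, Nat.cast_sum, sum_congr rfl h2, sum_add_distrib, sum_add_distrib, sum_const, ← mul_sum, ← mul_sum,
        sum_ite_eq, card_filter]
      push_cast
      simp [mul_comm]
  obtain ⟨w1, w2⟩ := key W hWS hEW
  obtain ⟨d1, d2⟩ := key D hDS hED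
  obtain ⟨z, hz, hzW⟩ := hW1
  have e1 := w2 w (hWS w hw)
  have e2 := w2 z hz
  have e3 := d2 x (hDS x hx)
  rw [hW w (hWS w hw), if_pos hw, if_pos hw] at e1
  rw [hW z hz, if_neg hzW, if_neg hzW] at e2
  rw [if_pos hx] at e3
  have hab : (a : ℤ) - b = (c - b) * t := by
    push_cast at e1 e2
    linear_combination e2 - e1
  have hcb : (c : ℤ) - b ≠ 0 := by
    intro h0
    rw [h0, zero_mul] at hab
    obtain ⟨u, hu, v, hv, h1, h2⟩ := hE
    have h3 : kk G E u v = kk G E u u := by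
      rw [ha u hu]
      have h4 : u ≠ v := fun e => h2 (e ▸ h1)
      by_cases h5 : np u v
      · rw [hc u hu v hv h5]; omega
      · rw [hb u hu v hv h4 h5]; omega
    unfold kk at h3
    have h4 := eq_of_subset_of_card_le (s := {g : G | g • u ∈ E ∧ g • v ∈ E}) (t := {g : G | g • u ∈ E ∧ g • u ∈ E})
      (fun g hg => by
        rw [mem_filter] at hg ⊢
        exact ⟨hg.1, hg.2.1, hg.2.1⟩) h3.ge
    have h5 : (1 : G) ∈ ({g : G | g • u ∈ E ∧ g • v ∈ E} : Finset G) := by
      rw [h4]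
      simpa using h1
    exact h2 (by simpa using (mem_filter.1 h5).2.2)
  have hG : (Fintype.card G : ℤ) ≠ 0 := by exact_mod_cast Fintype.card_ne_zero
  have h6 : ((#D : ℤ) * t - #W * (t + #{y ∈ D | np x y})) * ((c - b) * Fintype.card G) = 0 := by
    rw [hab] at e3
    linear_combination (-(#D : ℤ) * Fintype.card G) * e2 + (#W : ℤ) * Fintype.card G * e3 -
      (a : ℤ) * #D * w1 + (a : ℤ) * #W * d1
  have h7 := (mul_eq_zero.1 h6).resolve_right (mul_ne_zero hcb hG)
  have h8 : (#D : ℤ) * t = #W * (t + #{y ∈ D | np x y}) := by linear_combination h7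
  exact_mod_cast h8

end Cfsg.Agent.SM.Ti
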