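import Cfsg.Agent.SM.Ti.Box
import Cfsg.Agent.H69.Ppd.FieldD
import Cfsg.Agent.H65.Disp.Rgd
import Cfsg.Agent.H905.MdQ

/-!
# S3570, tight cores: the big cell (helper69)

`R` a root group datum of `Y` with commutative torus, `φ : Y → GL_n(F)` with image a tight core `P`, `J` the type of the
module.

* **`Tc.big`** : `|Y : P_J| = (1 + p ^ s) th |F| m` with `s ≥ 1`, `|Y : P_J|` divides `|Soc P|`, and `w₀` normalises `W_J`.
-/

set_option autoImplicit false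
set_option linter.unusedSectionVars false

namespace Cfsg.Agent.SM.Ti

open CoxeterSystem Cfsg.Agent.ChevalleyStructure.CoxeterGeom Cfsg.Agent.Tits.Roots Cfsg.Agent.Tits.Core
  Cfsg.Agent.Tits.Exchange Cfsg.Agent.Nodes.Reps Cfsg.Agent.Nodes.BNOf Cfsg.Agent.Nodes.StabComb
  Cfsg.Agent.Nodes.Bruhat Cfsg.Agent.Nodes.OppDec Cfsg.Agent.Nodes.LeviDec Cfsg.Agent.KFacts.RgdOpp
  Cfsg.Agent.Omega.CR Cfsg.Agent.Omega.FOne.Lift.Sd Cfsg.Agent.H911 Cfsg.Agent.H905.Md Cfsg.Agent.H156.Ppd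
open Cfsg Cfsg.Geo Projectivization
open Cfsg.Agent.H915.LD Cfsg.Agent.H100.Ppd
open scoped MatrixGroups Matrix LinearAlgebra.Projectivization Pointwise

universe u

theorem num_big {p a m N t : ℕ} (hp : p.Prime) (ha : 0 < a) (hm : 0 < m) (hN : N ≡ 1 [MOD p])
    (h : N * (p ^ a) ^ (m - 1) = th (p ^ a) m * ((p ^ a) ^ (m - 1) + p ^ t)) :
    ∃ s, 1 ≤ s ∧ N = (1 + p ^ s) * th (p ^ a) m := by
  have hth : th (p ^ a) m ≡ 1 [MOD p] := by
    obtain ⟨k, rfl⟩ : ∃ k, m = k + 1 := ⟨m - 1, by omega⟩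
    rw [th_succ']
    have h1 : p ^ a * th (p ^ a) k ≡ 0 [MOD p] :=
      (Nat.modEq_zero_iff_dvd).2 ((dvd_pow_self p ha.ne').mul_right _)
    simpa using h1.add_right 1
  have h1 : ¬ p ∣ th (p ^ a) m := fun h2 => by
    have h3 := ((Nat.modEq_zero_iff_dvd).2 h2).symm.trans hth
    exact hp.one_lt.ne' (Nat.dvd_one.1 ((Nat.modEq_zero_iff_dvd).1 h3.symm))
  rw [← pow_mul] at h
  set e := a * (m - 1) with he
  rcases Nat.lt_or_ge t e with h2 | h2
  · exfalso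
    obtain ⟨d, hd⟩ : ∃ d, e = t + (d + 1) := ⟨e - t - 1, by omega⟩
    have h3 : N * p ^ (d + 1) = th (p ^ a) m * (p ^ (d + 1) + 1) := by
      refine Nat.eq_of_mul_eq_mul_left (pow_pos hp.pos t) ?_
      rw [hd, pow_add] at h
      linear_combination h
    have h4 : p ∣ th (p ^ a) m * (p ^ (d + 1) + 1) := by
      rw [← h3]
      exact (dvd_pow_self p (by omega)).mul_left _
    have h5 := (hp.dvd_mul.1 h4).resolve_left h1
    exact hp.one_lt.ne' (Nat.dvd_one.1 ((Nat.dvd_add_right (dvd_pow_self p (by omega))).1 h5))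
  · obtain ⟨s, rfl⟩ : ∃ s, t = e + s := ⟨t - e, by omega⟩
    have h3 : N = (1 + p ^ s) * th (p ^ a) m := by
      refine Nat.eq_of_mul_eq_mul_right (pow_pos hp.pos e) ?_
      rw [h, pow_add]
      ring
    refine ⟨s, ?_, h3⟩
    by_contra h4
    obtain rfl : s = 0 := by omega
    have h5 : N ≡ 2 [MOD p] := by
      rw [h3]
      simpa using hth.mul_left 2
    have h6 := (Nat.modEq_iff_dvd' (by norm_num)).1 (hN.symm.trans h5)
    exact hp.one_lt.ne' (Nat.dvd_one.1 h6)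

variable {I W Y : Type*} [Fintype I] [DecidableEq I] [Group W] [Group Y] {M : CoxeterMatrix I}
  {cs : CoxeterSystem M W} {A : I → I → ℤ} {hA : IsCartan M A} {p : ℕ} {T : Subgroup Y} {nn : I → Y}
  {X : (I → ℤ) → Subgroup Y} {n : ℕ} {F : Type u} [Field F] [Finite F] {m : ℕ} {P : Subgroup (GL (Fin n) F)}

theorem index_modEq (R : RGD cs hA p T nn X) [Finite Y] [Finite W] [Fact p.Prime] (hG : GG cs hA T X = ⊤) (J : Set I) :
    (PJ cs hA T X J).index ≡ 1 [MOD p] := by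
  have h1 := H65.Disp.Rgd.relIndex_modEq R hG (N := ⊤) le_top
  have h2 := H65.Disp.Rgd.relIndex_modEq R hG (N := PJ cs hA T X J) B_le_PJ
  rw [Subgroup.relIndex_top_right, ← Subgroup.relIndex_mul_index (B_le_PJ (J := J))] at h1
  have h3 := h2.mul_right (PJ cs hA T X J).index
  rw [one_mul] at h3
  exact h3.symm.trans h1

/-- **The big cell.** -/
theorem Tc.big (h : Tc m P) (R : RGD cs hA p T nn X) [Finite Y] [Finite W] [hp : Fact p.Prime] [CharP F p]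
    (hG : GG cs hA T X = ⊤) (hT : ∀ s ∈ T, ∀ t ∈ T, s * t = t * s) {φ : Y →* GL (Fin n) F} (hφ : φ.range = P) :
    (∃ s, 1 ≤ s ∧ (PJ cs hA T X (Jx cs hA X (lin (acRep φ)))).index = (1 + p ^ s) * th (Nat.card F) m) ∧
      (PJ cs hA T X (Jx cs hA X (lin (acRep φ)))).index ∣ Nat.card (Soc P) ∧
      ∀ w ∈ WJ cs (Jx cs hA X (lin (acRep φ))), w0 cs * w * w0 cs ∈ WJ cs (Jx cs hA X (lin (acRep φ))) := by
  obtain ⟨B, Sg, G, Y0, hB, hS, hPG, -, hY, hTi⟩ := h.geo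
  have hC := h.core
  have hne : Nonempty (Fin n) := hC.nonempty
  rw [H69.Ppd.Jx_eq R hG hT hφ hC.absIrred]
  have hirr := H69.Ppd.lrep_irr (T := T) (X := X) (h := hA) (cs := cs) hG hφ hC.absIrred
  set ρ := lrep φ with hρ
  set J := Jx cs hA X ρ with hJ
  set U := RGD.Sup X (RGD.Pos cs hA) with hU
  have hρa : ∀ y v, ρ y v = ap (φ y) v := fun y v => H69.Ppd.lrep_apply φ y v
  have hP : ∀ y, φ y ∈ P := fun y => hφ ▸ ⟨y, rfl⟩
  have hfix : ∀ y a b, B (ρ y a) (ρ y b) = B a b := fun y a b => by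
    rw [hρa, hρa]
    exact hB.fix _ (hPG (hP y)) a b
  -- the fixed vector
  have hUp : IsPGroup p U := R.isPGroup_Upos
  obtain ⟨v, hv0, hvS, hvU⟩ := hS p (U.map φ) hp.out (CharP.cast_eq_zero F p)
    (by rintro _ ⟨y, -, rfl⟩; exact hPG (hP y)) (hUp.map φ)
  have hvD : v ∈ D cs hA X ρ := fun u hu => by
    rw [hρa]
    exact hvU _ ⟨u, hu, rfl⟩
  have hD : ∀ x ∈ D cs hA X ρ, ∃ c : F, x = c • v := by
    obtain ⟨w, -, hw, -⟩ := H69.Ppd.exists_w R hG hT hφ hC.absIrred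
    intro x hx
    rw [hw] at hx hvD
    obtain ⟨c, rfl⟩ := Submodule.mem_span_singleton.1 hx
    obtain ⟨d, rfl⟩ := Submodule.mem_span_singleton.1 hvD
    have hd : d ≠ 0 := fun e => hv0 (by rw [e, zero_smul])
    exact ⟨c / d, by rw [smul_smul, div_mul_cancel₀ _ hd]⟩
  have hρ0 : ∀ y {x : Fin n → F}, x ≠ 0 → ρ y x ≠ 0 := fun y x hx => by
    rw [hρa]
    exact ap_ne _ hx
  have hD' : ∀ y, ρ y v ∈ D cs hA X ρ → ∃ c : F, c ≠ 0 ∧ ρ y v = c • v := fun y hy => by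
    obtain ⟨c, hc⟩ := hD _ hy
    exact ⟨c, fun e => hρ0 y hv0 (by rw [hc, e, zero_smul]), hc⟩
  have hBv : ∀ b ∈ RGD.B cs hA T X, ∃ c : F, c ≠ 0 ∧ ρ b v = c • v := by
    intro b hb
    obtain ⟨t, ht, u, hu, rfl⟩ := R.mem_B.1 hb
    refine hD' _ ?_
    rw [rho_mul, hvD u hu]
    exact D_ivt R hirr t ht v hvD
  -- the functional
  obtain ⟨k, hk⟩ := exists_rp cs R.nsys (w0 cs)
  have hψ : hB.fn (ρ k v) ∈ fx (dualRep ρ) (UN cs hA X) := by
    rw [mem_fx_dual]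
    intro u hu x
    rw [← cj_U R hk, mem_cj] at hu
    rw [hB.fn_apply, hB.fn_apply, ← hfix u x (ρ k v)]
    congr 1
    have e : u * k = k * (k⁻¹ * u * k) := by group
    rw [← rho_mul, e, rho_mul, hvD _ hu]
  have hcell : ∀ {w : W} {g : Y}, Rp cs R.nsys w g → B (ρ g v) v ≠ 0 → w0 cs * w ∈ WJ cs J := by
    intro w g hg h0
    refine mem_WJ_of_pair R hirr hψ (hk.mul hg) hvD ?_
    rwa [hB.fn_apply, rho_mul, hfix]
  have hnp : ∀ g : Y, B (ρ g v) v ≠ 0 → ∃ u ∈ U, ∃ c : F, c ≠ 0 ∧ ρ g v = c • ρ u (ρ k⁻¹ v) := by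
    intro g h0
    obtain ⟨w, b₁, hb₁, g', hg', b₂, hb₂, rfl⟩ := (mem_GG R).1 (show g ∈ GG cs hA T X by rw [hG]; trivial)
    obtain ⟨c₂, hc₂, e₂⟩ := hBv b₂ hb₂
    obtain ⟨c₁, hc₁, e₁⟩ := hBv b₁⁻¹ (inv_mem hb₁)
    have h1 : B (ρ g' v) v ≠ 0 := by
      intro h1
      apply h0
      rw [← hfix b₁⁻¹, ← rho_mul, mul_assoc, inv_mul_cancel_left, rho_mul, e₂, map_smul, e₁, hB.eq_zero_iff hc₂ hc₁]
      exact h1
    obtain ⟨t, ht, u, hu, rfl⟩ := R.mem_B.1 hb₁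
    have h2 : Rp cs R.nsys (w0 cs * w) (k * (t * g')) := by
      have h3 := hk.mul ((rp_of_mem (cs := cs) (hN := R.nsys) ht).mul hg')
      rwa [one_mul] at h3
    obtain ⟨c, hc, e⟩ := hD' _ (rp_D R hirr (hcell hg' h1) h2 hvD)
    refine ⟨t * u * t⁻¹, (Subgroup.mem_normalizer_iff.1 (R.T_le_normalizer_U ht) u).1 hu, c₂ * c, mul_ne_zero hc₂ hc, ?_⟩
    have e' : t * u * g' * b₂ = t * u * t⁻¹ * (k⁻¹ * (k * (t * g'))) * b₂ := by group
    rw [e', rho_mul, e₂, map_smul, rho_mul ρ (t * u * t⁻¹), rho_mul ρ k⁻¹, e, map_smul, map_smul, smul_smul]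
  have hUB : ∀ u ∈ U, ∀ x, B (ρ u x) v = B x v := fun u hu x => by
    conv_lhs => rw [← hvD u hu]
    exact hfix u x v
  have hk0 : B (ρ k⁻¹ v) v ≠ 0 := by
    intro h0
    obtain ⟨y, -, hy⟩ := hB.partner v hvS hv0
    have h1 := span_translates hirr hv0
    have h2 : Submodule.span F (Set.range fun g : GG cs hA T X => ρ g.1 v) ≤ LinearMap.ker (hB.fn v) := by
      rw [Submodule.span_le]
      rintro _ ⟨g, rfl⟩
      by_contra h3
      obtain ⟨u, hu, c, -, e⟩ := hnp g h3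
      apply h3
      show B (ρ g v) v = 0
      rw [e, hB.smul, hUB u hu, h0, mul_zero]
    rw [h1] at h2
    exact hy (h2 Submodule.mem_top)
  have hk1 : B v (ρ k v) ≠ 0 := by rwa [← hfix k⁻¹, rho_inv_rho]
  -- the stabiliser
  let x : ℙ F (Fin n → F) := Projectivization.mk F v hv0
  have hx : ∀ g : GL (Fin n) F, g • x = x ↔ ∃ c : F, c • v = ap g v := fun g => by
    rw [smul_mk', mk_eq_mk_iff']
  have hst : (MulAction.stabilizer (GL (Fin n) F) x).comap φ = PJ cs hA T X J := by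
    ext g
    rw [Subgroup.mem_comap, MulAction.mem_stabilizer_iff, hx, ← hρa]
    constructor
    · rintro ⟨c, hc⟩
      obtain ⟨w, hw⟩ := (mem_GG R).1 (show g ∈ GG cs hA T X by rw [hG]; trivial)
      rw [cell_mem_PJ_iff R hw]
      obtain ⟨b₁, hb₁, g', hg', b₂, hb₂, rfl⟩ := hw
      obtain ⟨c₂, hc₂, e₂⟩ := hBv b₂⁻¹ (inv_mem hb₂)
      obtain ⟨c₁, hc₁, e₁⟩ := hBv b₁⁻¹ (inv_mem hb₁)
      have hc0 : c ≠ 0 := fun e => hρ0 _ hv0 (by rw [← hc, e, zero_smul])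
      refine mem_WJ_of_pair R hirr hψ hg' hvD ?_
      have e' : g' = b₁⁻¹ * (b₁ * g' * b₂ * b₂⁻¹) := by group
      rw [hB.fn_apply, e', rho_mul, rho_mul, e₂, map_smul, ← hc, map_smul, map_smul, e₁, hB.smul, hB.smul, hB.smul]
      exact mul_ne_zero hc₂ (mul_ne_zero hc0 (mul_ne_zero hc₁ hk1))
    · intro hg
      obtain ⟨l, hl, u, hu, rfl⟩ := (mem_PJ R).1 hg
      rw [rho_mul, hvD u (VJ_le_U J hu)]
      obtain ⟨c, hc⟩ := hD _ (LJ_D R hirr l hl v hvD)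
      exact ⟨c, hc.symm⟩
  have hidx : (PJ cs hA T X J).index = (MulAction.stabilizer P x).index := by
    rw [← hst, Subgroup.index_comap, hφ]
    rfl
  refine ⟨?_, ?_, fun w hw => ?_⟩
  · -- the orbit is invariant
    have hxS : Sg x.rep := by
      obtain ⟨c, -, e⟩ := exists_rep_mk hv0
      rw [e]
      exact hB.sg_smul c _ hvS
    have hinv : ∀ y ∈ Y0, y • x ∈ MulAction.orbit P x := by
      intro y hy
      obtain ⟨S, hS'⟩ := H65.Disp.Rgd.exists_sylow_eq R hG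
      let f : Y →* P := φ.codRestrict P hP
      have hf : Function.Surjective f := by
        rintro ⟨g, hg⟩
        rw [← hφ] at hg
        obtain ⟨z, rfl⟩ := hg
        exact ⟨z, rfl⟩
      let α : MulAut P := P.normalizerMonoidHom ⟨y, mem_normalizer (hY y hy)⟩
      obtain ⟨g, hg⟩ := MulAction.exists_smul_eq P (S.mapSurjective hf) (α • S.mapSurjective hf)
      have h1 : ρ 1 (ap y⁻¹ (ap (g : GL (Fin n) F) v)) ∈ D cs hA X ρ := by
        rw [rho_one]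
        intro u hu
        have h2 : α (f u) ∈ (α • S.mapSurjective hf : Sylow p P) :=
          Subgroup.smul_mem_pointwise_smul (f u) α _ ⟨u, hS'.symm ▸ hu, rfl⟩
        rw [← hg] at h2
        obtain ⟨_, ⟨u', hu', rfl⟩, e⟩ := h2
        have e' : (g : GL (Fin n) F) * φ u' * (g : GL (Fin n) F)⁻¹ = y * φ u * y⁻¹ := congrArg Subtype.val e
        have e'' : φ u * (y⁻¹ * g) = y⁻¹ * g * φ u' := by
          have e3 : φ u = y⁻¹ * ((g : GL (Fin n) F) * φ u' * (g : GL (Fin n) F)⁻¹) * y := by rw [e']; group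
          rw [e3]
          group
        rw [hρa, ← ap_mul y⁻¹, ← ap_mul, e'', ap_mul, ← hρa u', hvD u' (hS' ▸ hu')]
      rw [rho_one] at h1
      obtain ⟨c, hc⟩ := hD _ h1
      have h2 : (y⁻¹ * (g : GL (Fin n) F)) • x = x := (hx _).2 ⟨c, by rw [ap_mul, hc]⟩
      refine ⟨g, ?_⟩
      show (g : GL (Fin n) F) • x = y • x
      conv_rhs => rw [← h2, ← mul_smul, mul_inv_cancel_left]
    have key := hTi (MulAction.orbit P x) (by
      rintro _ ⟨g, rfl⟩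
      obtain ⟨c, -, e⟩ := exists_rep_smul (g : GL (Fin n) F) x
      show Sg ((g : GL (Fin n) F) • x).rep
      rw [e]
      exact hB.sg_smul c _ (hB.sg _ (hPG g.2) _ hxS)) (by
      rintro y hy _ ⟨g, rfl⟩
      obtain ⟨g', hg'⟩ := hinv y hy
      refine ⟨⟨y * g * y⁻¹, hY y hy g g.2⟩ * g', ?_⟩
      have hg'' : (g' : GL (Fin n) F) • x = y • x := hg'
      show ((y * g * y⁻¹) * (g' : GL (Fin n) F)) • x = y • (g : GL (Fin n) F) • x
      rw [mul_smul, hg'', ← mul_smul, inv_mul_cancel_right, mul_smul]) x (MulAction.mem_orbit_self x)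
    -- the points which are not perpendicular
    have hrep : ∀ g : Y, B (φ g • x).rep x.rep ≠ 0 ↔ B (ρ g v) v ≠ 0 := by
      intro g
      obtain ⟨c, hc, e⟩ := exists_rep_mk hv0
      obtain ⟨d, hd, e'⟩ := exists_rep_smul (φ g) x
      rw [e', e, ap_smul, smul_smul, Ne, hB.eq_zero_iff (mul_ne_zero hd hc) hc, hρa]
    have h3 : {z ∈ MulAction.orbit P x | B z.rep x.rep ≠ 0} = MulAction.orbit (U.map φ) (φ k⁻¹ • x) := by
      ext z
      constructor
      · rintro ⟨⟨⟨g, hg⟩, rfl⟩, hz⟩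
        rw [← hφ] at hg
        obtain ⟨g, rfl⟩ := hg
        obtain ⟨u, hu, c, -, e⟩ := hnp g ((hrep g).1 hz)
        refine ⟨⟨φ u, u, hu, rfl⟩, ?_⟩
        show φ u • φ k⁻¹ • x = φ g • x
        rw [smul_mk', smul_mk', smul_mk', eq_comm, mk_eq_mk_iff']
        exact ⟨c, by rw [← hρa, ← hρa, ← hρa, e]⟩
      · rintro ⟨⟨_, u, hu, rfl⟩, rfl⟩
        have e : φ u • φ k⁻¹ • x = φ (u * k⁻¹) • x := by rw [map_mul, mul_smul]
        refine ⟨⟨⟨φ (u * k⁻¹), hP _⟩, e.symm⟩, ?_⟩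
        show B (φ u • φ k⁻¹ • x).rep x.rep ≠ 0
        rw [e, hrep, rho_mul, hUB u hu]
        exact hk0
    obtain ⟨t, ht⟩ := (hUp.map φ).index (MulAction.stabilizer (U.map φ) (φ k⁻¹ • x))
    rw [h3, ← MulAction.index_stabilizer, ← MulAction.index_stabilizer, ht, ← hidx] at key
    have := Fintype.ofFinite F
    obtain ⟨a, -, ha⟩ := FiniteField.card F p
    rw [Nat.card_eq_fintype_card, ha] at key ⊢
    exact num_big hp.out a.pos (by have := h.six; omega) (index_modEq R hG J) key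
  · rw [hidx]
    refine Subgroup.index_dvd_of_le (H := (scalars (Fin n) F).subgroupOf P) fun g hg => ?_
    obtain ⟨c, hc⟩ := (mem_scalars_iff _).1 (Subgroup.mem_subgroupOf.1 hg)
    refine (hx g).2 ⟨c, ?_⟩
    rw [ap, hc, Matrix.smul_mulVec, Matrix.one_mulVec]
  · obtain ⟨g, hg⟩ := exists_rp cs R.nsys w
    rw [mul_assoc]
    refine hcell (hg.mul hk) fun h0 => hk1 (hB.refl _ _ ?_)
    obtain ⟨c, hc, e⟩ := hD' _ (rp_D R hirr (inv_mem hw) hg.inv hvD)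
    rw [← hfix g⁻¹, ← rho_mul, inv_mul_cancel_left, e, ← one_smul F (ρ k v), hB.eq_zero_iff one_ne_zero hc] at h0
    exact h0

/-- `th |F| m` divides the order of the socle -/
theorem Tc.dvd_soc (h : Tc m P) (R : RGD cs hA p T nn X) [Finite Y] [Finite W] [Fact p.Prime] [CharP F p]
    (hG : GG cs hA T X = ⊤) (hT : ∀ s ∈ T, ∀ t ∈ T, s * t = t * s) {φ : Y →* GL (Fin n) F} (hφ : φ.range = P) :
    th (Nat.card F) m ∣ Nat.card (Soc P) := by
  obtain ⟨⟨s, -, h1⟩, h2, -⟩ := h.big R hG hT hφ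
  rw [h1] at h2
  exact (Dvd.intro_left _ rfl).trans h2

end Cfsg.Agent.SM.Ti
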