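import Cfsg.Agent.SM.Ti.Defs
import Cfsg.Agent.H100.Ppd.Basic
import Cfsg.Agent.Lib.Zsigmondy
import Cfsg.Prelude.Def_LieTypeChar

/-!
# S3570, tight cores: the interface (helper69)

* `Sing Sg G` : the `p`-subgroups of `G` fix non-zero singular vectors;
* `Tc m P` : `P ≤ GL_n(F)` is a core, `13 ≤ n`, `2 m ≤ n ≤ 2 m + 1`, normalised by a tight group;
* `Sv p P` : the survivors in the defining characteristic;
* `Tc.dvd_aut` : `th |F| m` divides `|Aut (Soc P)|`;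
* `exists_ppd`, `Tc.ppd`, `Tc.top` : primitive prime divisors of `th |F| m`;
* `ord_iff` : the order of `p ^ a` modulo a primitive prime divisor.
-/

set_option autoImplicit false
set_option linter.unusedSectionVars false

namespace Cfsg.Agent.SM.Ti

open Cfsg Cfsg.Geo Matrix Projectivization
open Cfsg.Agent.H915.LD Cfsg.Agent.H100.Ppd
open scoped LinearAlgebra.Projectivization

universe u

/-- the `p`-subgroups of `G` fix non-zero singular vectors -/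
def Sing {ι : Type} [Fintype ι] [DecidableEq ι] {F : Type u} [Field F] (Sg : (ι → F) → Prop)
    (G : Subgroup (GL ι F)) : Prop :=
  ∀ (p : ℕ) (U : Subgroup (GL ι F)), p.Prime → (p : F) = 0 → U ≤ G → IsPGroup p U →
    ∃ v, v ≠ 0 ∧ Sg v ∧ ∀ u ∈ U, ap u v = v

variable {n : ℕ} {F : Type u} [Field F] [Finite F]

/-- **A tight core.** -/
structure Tc (m : ℕ) (P : Subgroup (GL (Fin n) F)) : Prop where
  core : Core P
  ge : 13 ≤ n
  lo : 2 * m ≤ n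
  hi : n ≤ 2 * m + 1
  odd : n = 2 * m + 1 → Odd (Nat.card F)
  geo : ∃ (B : (Fin n → F) → (Fin n → F) → F) (Sg : (Fin n → F) → Prop) (G Y : Subgroup (GL (Fin n) F)),
    Pol B Sg G ∧ Sing Sg G ∧ P ≤ G ∧ Y ≤ G ∧ (∀ y ∈ Y, ∀ x ∈ P, y * x * y⁻¹ ∈ P) ∧ Tight B Sg m Y

/-- **The survivors.** -/
def Sv (p : ℕ) (P : Subgroup (GL (Fin n) F)) : Prop :=
  ∃ (K : Type) (_ : Field K) (_ : Fintype K) (_ : CharP K p), Fintype.card K = Nat.card F ∧
    ((n = 13 ∧ Nonempty (Soc P ≃* PSp 3 K)) ∨ (n = 16 ∧ p = 2 ∧ Nonempty (Soc P ≃* PSp 4 K)) ∨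
      (n = 16 ∧ p ≠ 2 ∧ Nonempty (Soc P ≃* POmega K (quadFormOdd 4 K))) ∨
      (n = 25 ∧ Nonempty (Soc P ≃* Lie.chevF4.group K)))

/-! ### numbers -/

theorem th_mul' {Q : ℕ} (hQ : 1 ≤ Q) (m : ℕ) : th Q m * (Q - 1) = Q ^ m - 1 := by
  have := th_mul hQ m
  omega

theorem th_dvd {Q : ℕ} (hQ : 1 ≤ Q) (m : ℕ) : th Q m ∣ Q ^ m - 1 := ⟨_, (th_mul' hQ m).symm⟩

theorem th_pos (Q : ℕ) {m : ℕ} (hm : 0 < m) : 0 < th Q m := by
  obtain ⟨k, rfl⟩ : ∃ k, m = k + 1 := ⟨m - 1, by omega⟩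
  rw [th_succ']
  omega

/-- `th Q (j h) = th Q j * th (Q ^ j) h` -/
theorem th_mul_th (Q j h : ℕ) : th Q (j * h) = th Q j * th (Q ^ j) h := by
  induction h with
  | zero => simp [th]
  | succ h ih =>
    rw [Nat.mul_succ, th_succ (Q ^ j), mul_add, ← ih]
    unfold th
    rw [Finset.sum_range_add, Finset.sum_mul]
    congr 1
    refine Finset.sum_congr rfl fun i _ => ?_
    rw [← pow_mul, ← pow_add, add_comm]

/-- a prime which divides `Q ^ m - 1` and not `Q - 1` divides `th Q m` -/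
theorem dvd_th {Q m r : ℕ} (hQ : 1 ≤ Q) (hr : r.Prime) (h1 : r ∣ Q ^ m - 1) (h2 : ¬ r ∣ Q - 1) : r ∣ th Q m := by
  rw [← th_mul' hQ] at h1
  exact (hr.dvd_mul.1 h1).resolve_right h2

/-- **A primitive prime divisor of `p ^ k - 1` divides `th (p ^ a) m`** if `k ∣ a m`, `k ∤ a`. -/
theorem exists_ppd {p a m k : ℕ} (hp : p.Prime) (hk : 3 ≤ k) (h6 : ¬ (p = 2 ∧ k = 6)) (h1 : k ∣ a * m) (h2 : ¬ k ∣ a) :
    ∃ r, r.Prime ∧ r ∣ th (p ^ a) m ∧ (∀ i, r ∣ p ^ i - 1 ↔ k ∣ i) ∧ k ∣ r - 1 ∧ ¬ r ∣ p := by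
  obtain ⟨r, hr, h3, h4, h5⟩ := Lib.Zsigmondy.exists_primitive (a := p) (n := k) hp.two_le (by omega)
    (fun e => by omega) h6
  refine ⟨r, hr, dvd_th (Nat.one_le_pow _ _ hp.pos) hr ?_ fun h7 => h2 ((h3 a).1 h7), h3, h4, h5⟩
  rw [← pow_mul]
  exact (h3 _).2 h1

/-- the order of `p ^ a` modulo a primitive prime divisor of `p ^ k - 1` is `k / gcd k a` -/
theorem ord_iff {p a k r : ℕ} (hp : 0 < p) (hk : 0 < k) (h : ∀ i, r ∣ p ^ i - 1 ↔ k ∣ i) (i : ℕ) :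
    ((p ^ a : ℕ) : ZMod r) ^ i = 1 ↔ k / Nat.gcd k a ∣ i := by
  have h1 : 1 ≤ p ^ (a * i) := Nat.one_le_pow _ _ hp
  have h2 : ((p ^ a : ℕ) : ZMod r) ^ i = 1 ↔ r ∣ p ^ (a * i) - 1 := by
    rw [← ZMod.natCast_eq_zero_iff, Nat.cast_sub h1, Nat.cast_one, sub_eq_zero, pow_mul, Nat.cast_pow (p ^ a)]
  rw [h2, h]
  have hg : 0 < Nat.gcd k a := Nat.gcd_pos_of_pos_left _ hk
  have hc := Nat.coprime_div_gcd_div_gcd hg
  obtain ⟨x, hx⟩ := Nat.gcd_dvd_left k a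
  obtain ⟨y, hy⟩ := Nat.gcd_dvd_right k a
  set g := Nat.gcd k a
  have e1 : k / g = x := by rw [hx, Nat.mul_div_cancel_left _ hg]
  have e2 : a / g = y := by rw [hy, Nat.mul_div_cancel_left _ hg]
  rw [e1, e2] at hc
  rw [e1]
  conv_lhs => rw [hx, hy, mul_assoc, Nat.mul_dvd_mul_iff_left hg]
  exact hc.dvd_mul_left

variable {m : ℕ} {P : Subgroup (GL (Fin n) F)}

namespace Tc

variable (h : Tc m P)
include h

theorem six : 6 ≤ m := by
  have := h.ge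
  have := h.hi
  omega

theorem seven (h2 : Even (Nat.card F)) : 7 ≤ m ∧ n = 2 * m := by
  have h3 := h.ge
  have h4 := h.hi
  have h5 := h.lo
  have h6 : n ≠ 2 * m + 1 := fun e => (Nat.not_odd_iff_even.2 h2) (h.odd e)
  omega

/-- primitive prime divisors of `th |F| m` -/
theorem ppd {p a k : ℕ} (hp : p.Prime) (hF : Nat.card F = p ^ a) (hk : 3 ≤ k) (h6 : ¬ (p = 2 ∧ k = 6)) (h1 : k ∣ a * m)
    (h2 : ¬ k ∣ a) :
    ∃ r, r.Prime ∧ r ∣ th (Nat.card F) m ∧ (∀ i, r ∣ p ^ i - 1 ↔ k ∣ i) ∧ k ∣ r - 1 ∧ ¬ r ∣ p := by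
  rw [hF]
  exact exists_ppd hp hk h6 h1 h2

/-- the primitive prime divisor of `|F| ^ m - 1` -/
theorem top {p a : ℕ} (hp : p.Prime) (hF : Nat.card F = p ^ a) :
    ∃ r, r.Prime ∧ r ∣ th (Nat.card F) m ∧ (∀ i, r ∣ p ^ i - 1 ↔ a * m ∣ i) ∧ a * m ∣ r - 1 ∧ ¬ r ∣ p := by
  have h6 := h.six
  have ha : 0 < a := by
    rcases Nat.eq_zero_or_pos a with rfl | ha
    · have := Finite.one_lt_card (α := F)
      rw [hF, pow_zero] at this
      omega
    · exact ha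
  have h1 : 1 * m ≤ a * m := Nat.mul_le_mul_right _ ha
  refine h.ppd hp hF (by omega) ?_ dvd_rfl fun h2 => ?_
  · rintro ⟨rfl, h3⟩
    have h4 := (h.seven (by rw [hF]; exact (Nat.even_pow' ha.ne').2 even_two)).1
    omega
  · have h3 := Nat.le_of_dvd ha h2
    have h4 : a * 6 ≤ a * m := Nat.mul_le_mul_left _ h6
    omega

/-- **`th |F| m` divides the order of the automorphism group of the socle.** -/
theorem dvd_aut : th (Nat.card F) m ∣ Nat.card (MulAut (Soc P)) := by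
  obtain ⟨B, Sg, G, Y, hB, hS, -, hYG, hY, hT⟩ := h.geo
  have hC := h.core
  obtain ⟨p, hp⟩ := CharP.exists F
  have hpp : p.Prime := CharP.char_is_prime F p
  obtain ⟨v, hv0, hv, -⟩ := hS p ⊥ hpp (CharP.cast_eq_zero F p) bot_le IsPGroup.of_bot
  let x : ℙ F (Fin n → F) := Projectivization.mk F v hv0
  have hx : Sg x.rep := by
    obtain ⟨c, -, e⟩ := exists_rep_mk hv0
    rw [e]
    exact hB.sg_smul c _ hv
  have h1 : th (Nat.card F) m ∣ (MulAction.orbit Y x).ncard := by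
    refine hT.dvd (by have := h.six; omega) ?_ ?_
    · rintro _ ⟨y, rfl⟩
      obtain ⟨c, -, e⟩ := exists_rep_smul (y : GL (Fin n) F) x
      show Sg ((y : GL (Fin n) F) • x).rep
      rw [e]
      exact hB.sg_smul c _ (hB.sg _ (hYG y.2) _ hx)
    · rintro y hy _ ⟨z, rfl⟩
      exact ⟨⟨y, hy⟩ * z, mul_smul _ _ _⟩
  have hYN : Y ≤ Subgroup.normalizer (P : Set (GL (Fin n) F)) := fun y hy => mem_normalizer (hY y hy)
  let f : Y →* MulAut (Soc P) := (conjSoc hC.absIrred).comp (Subgroup.inclusion hYN)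
  have h2 : f.ker ≤ MulAction.stabilizer Y x := by
    intro y hy
    obtain ⟨c, hc⟩ := (mem_scalars_iff _).1 (scalar_of_conjSoc hC (g := Subgroup.inclusion hYN y) hy)
    refine smul_eq_of (g := (y : GL (Fin n) F)) (c := ((c⁻¹ : Fˣ) : F)) ?_
    have hc' : ((y : GL (Fin n) F) : Matrix (Fin n) (Fin n) F) = (c : F) • 1 := hc
    rw [ap, hc', smul_mulVec, one_mulVec, smul_smul, Units.mul_inv, one_smul]
  rw [← MulAction.index_stabilizer] at h1
  refine h1.trans ((Subgroup.index_dvd_of_le h2).trans ?_)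
  rw [Subgroup.index_ker]
  exact Subgroup.card_subgroup_dvd_card _

end Tc

end Cfsg.Agent.SM.Ti
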