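import Cfsg.Agent.SM.Ti.BC.Bord
import Cfsg.Agent.SM.Ti.BC.Spin
import Cfsg.Agent.SM.Ti.Tool
import Cfsg.Agent.H650.Ppd.Psp

/-!
# S3570, tight cores: `PSp_2l(K)` in the borderline case (helper35)

* `twenty` : type `C_4`, `J^c = {3}`, `p` odd, `σ_2(-1)` commutes with a representative of `s_3` : the degree is at least `20`;
* `exists_pair` : the nodes `l - 2`, `l - 1` of the symplectic group;
* **`boxC`**.
-/

set_option autoImplicit false
set_option linter.unusedSectionVars false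
set_option linter.style.haveILetI false

namespace Cfsg.Agent.SM.Ti.C

open CoxeterSystem Cfsg.Agent.ChevalleyStructure.CoxeterGeom Cfsg.Agent.Tits.Roots Cfsg.Agent.Tits.Core
  Cfsg.Agent.Tits.Exchange Cfsg.Agent.Nodes.Reps Cfsg.Agent.Nodes.BNOf Cfsg.Agent.Nodes.StabComb
  Cfsg.Agent.Nodes.Bruhat Cfsg.Agent.Nodes.OppDec Cfsg.Agent.Nodes.LeviDec Cfsg.Agent.KFacts.RgdOpp
  Cfsg.Agent.Omega.CR Cfsg.Agent.Omega.FOne.Lift.Sd Cfsg.Agent.H905.Md
open Cfsg.Agent.Nodes.TypeC (A isCartan nx ng)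
open Cfsg Cfsg.Geo
open Cfsg.Agent.H915.LD
open Cfsg.Agent.H911 (lin)
open Cfsg.Agent.H650.Ppd (Nd)
open Cfsg.Agent.H905.DC (co cf fire co_wordProd)
open Cfsg.Agent.H911.SLTwo (U Lo hh ww)
open Cfsg.Agent.H117.Levi (lrk one_le_lrk)
open scoped MatrixGroups

universe u

/-! ### the parity argument -/

/-- the vertices: four moved by the node `2`, eight fixed -/
def L12 : Fin 12 → List (Fin 4) := ![[3], [3, 2, 1, 3], [3, 2, 1, 0, 3], [3, 2, 1, 0, 3, 2, 1, 3], [], [3, 2, 1], [3, 2, 3],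
  [3, 2, 1, 0], [3, 2, 1, 3, 2, 3], [3, 2, 1, 0, 3, 2, 1], [3, 2, 1, 0, 3, 2, 3], [3, 2, 1, 0, 3, 2, 1, 3, 2, 3]]

theorem L_min : ∀ a m, 0 ≤ cf (A 4) m (L12 a) 2 := by decide +kernel

theorem L_ne : ∀ a a', a ≠ a' →
    (([3] : List (Fin 4)).map fun s => cf (A 4) s (L12 a)) ≠ (([3] : List (Fin 4)).map fun s => cf (A 4) s (L12 a')) ∧
    (([3] : List (Fin 4)).map fun s => fire (A 4) (cf (A 4) s (L12 a)) 2) ≠
      ([3] : List (Fin 4)).map fun s => cf (A 4) s (L12 a') := by decide +kernel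

theorem L_mv : ∀ a : Fin 12, (a : ℕ) < 4 → cf (A 4) 3 (L12 a) 2 ≠ 0 ∧ cf (A 4) 3 (L12 a ++ [3]) 2 = 0 := by
  decide +kernel

section

variable {W Y : Type*} [Group W] [Group Y] {cs : CoxeterSystem (CoxeterMatrix.B 4) W} {p : ℕ} {T : Subgroup Y}
  {nn : Fin 4 → Y} {X : (Fin 4 → ℤ) → Subgroup Y}
  {F : Type u} [Field F] [Finite F] {ι : Type} [Fintype ι] [DecidableEq ι] {P : Subgroup (GL ι F)}
  {E : Type} [Field E] [Fintype E]

/-- **Type `C_4`, the last node, odd characteristic.** -/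
theorem twenty [Finite Y] [Finite W] [hp : Fact p.Prime] [CharP F p] [CharP E p] (R : RGD cs (isCartan 4) p T nn X)
    (hC : Core P) (hG : GG cs (isCartan 4) T X = ⊤) (hT : ∀ s ∈ T, ∀ t ∈ T, s * t = t * s) {φ : Y →* GL ι F}
    (hφ : φ.range = P) {σ : SL(2, E) →* Y} (N : Nd T X 2 σ) (hp2 : p ≠ 2) {k : Y}
    (hk : Rp cs R.nsys (cs.simple 3) k) (hc : σ (hh (-1)) * k = k * σ (hh (-1)))
    (hJ : ∀ j, j ∉ Jx cs (isCartan 4) X (lin (acRep φ)) ↔ j = 3) : 20 ≤ Fintype.card ι := by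
  have hne := hC.nonempty
  have hchar : CharP (AlgebraicClosure F) p := charP_of_injective_algebraMap (algebraMap F _).injective p
  have hirr := ac_irr R hG hT hφ hC.absIrred
  have hi : (3 : Fin 4) ∉ Jx cs (isCartan 4) X (lin (acRep φ)) := (hJ 3).2 rfl
  choose g hg using fun a : Fin 12 => exists_rp cs R.nsys (cs.wordProd (L12 a))⁻¹
  have h1 := Tool.levi_list R hC hG hT hφ 2 [3] (by simpa using hi) L12 L_min L_ne g hg
  have h2 : ∀ a : Fin 12, (if (a : ℕ) < 4 then 3 else 1) ≤ lrk cs (isCartan 4) T X (lin (acRep φ)) {2} (g a) := by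
    intro a
    split_ifs with ha
    swap
    · exact one_le_lrk R hirr _ _
    obtain ⟨m1, m2⟩ := L_mv a ha
    refine Tool.par R hC hG hT hφ N hp2 (hg a) (Tool.min_word (L_min a)) (Tool.moved_word (isCartan 4) hi m1) ?_
    intro v hv
    have hg' := hk.mul (hg a)
    have hr : rep cs (isCartan 4) (cs.simple 3 * (cs.wordProd (L12 a))⁻¹)⁻¹ (sr 2) ∈
        RootsJ cs (isCartan 4) (Jx cs (isCartan 4) X (lin (acRep φ))) := by
      refine ⟨(isRoot_sr cs (isCartan 4) 2).act _, fun j hj => ?_⟩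
      rw [(hJ j).1 hj, _root_.mul_inv_rev, inv_inv, cs.inv_simple, ← cs.wordProd_singleton, ← cs.wordProd_append]
      rw [← co_wordProd cs (isCartan 4)] at m2
      exact m2
    let H : Subgroup SL(2, E) := (H924.D5.stb (lin (acRep φ)) v).comap
      ((MulAut.conj (k * g a)⁻¹).toMonoidHom.comp σ)
    have hH : ∀ y, y ∈ H ↔ lin (acRep φ) ((k * g a)⁻¹ * σ y * (k * g a)) v = v := by
      intro y
      change lin (acRep φ) ((k * g a)⁻¹ * σ y * ((k * g a)⁻¹)⁻¹) v = v ↔ _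
      rw [inv_inv]
    have h3 : hh (-1) ∈ H := by
      refine H650.Ppd.mem_of_UL (fun t => (hH _).2 ?_) (fun t => (hH _).2 ?_) _
      · exact X_fix_J R hirr hr (R.conj_mem' hg' (isRoot_sr cs _ 2) ((N.up _).2 ⟨t, rfl⟩)) hv
      · have h4 := R.conj_mem' hg' (isRoot_sr cs _ 2).neg ((N.lo _).2 ⟨t, rfl⟩)
        rw [map_neg] at h4
        exact X_fix_J R hirr (RootsJ.neg hr) h4 hv
    rw [hH] at h3
    have e : (k * g a)⁻¹ * σ (hh (-1)) * (k * g a) = (g a)⁻¹ * σ (hh (-1)) * g a := by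
      rw [_root_.mul_inv_rev, mul_assoc, ← mul_assoc (σ (hh (-1))), hc]
      group
    rwa [e] at h3
  have h3 := (Finset.sum_le_sum fun a (_ : a ∈ Finset.univ) => h2 a).trans h1
  have h4 : ∑ a : Fin 12, (if (a : ℕ) < 4 then 3 else 1) = 20 := by decide +kernel
  rwa [h4] at h3

end

/-! ### the symplectic group -/

section sp

open Cfsg.Agent.Nodes Cfsg.Agent.Nodes.WittRoot Cfsg.Agent.Nodes.WittRGD Cfsg.Agent.Nodes.WittAll
open Cfsg.Agent.TitsThree Cfsg.Agent.TitsThree.Siegel Cfsg.Agent.TitsThree.WittFrame Cfsg.Agent.TitsThree.SpIdent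
open Cfsg.Agent.H62.FrameSL

theorem lin_comm {F V : Type*} [Field F] [AddCommGroup V] [Module F V] {H : HForm F V} {n : ℕ} (Fr : Frame H (Fin n))
    {i j : Fin n} (hij : i ≠ j) (g : SL(2, F)) :
    phiS Fr hij (hh (-1)) * phiL Fr j g = phiL Fr j g * phiS Fr hij (hh (-1)) := by
  have hε := H.ε_ne
  ext v
  rw [LinearEquiv.mul_apply, LinearEquiv.mul_apply, phiS_apply, phiL_apply, phiL_apply, phiS_apply, linL_apply Fr j _ v,
    linS_apply Fr i j _ v]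
  simp only [linS_apply, linL_apply, H911.SLTwo.hh00, H911.SLTwo.hh01, H911.SLTwo.hh10, H911.SLTwo.hh11, H.add_left,
    H.smul_left, H62.FrameSL.ht, H62.FrameSL.hf, H62.FrameSL.hs, hn Fr hij, hn Fr hij.symm, mul_zero, mul_one, add_zero,
    zero_add, inv_neg, inv_one, Units.val_neg, Units.val_one, map_neg, map_one, map_zero, neg_zero, zero_mul, sub_zero]
  match_scalars <;> field_simp <;> ring

variable {m : ℕ} {K : Type*} [Field K] {G0 : Subgroup ((Fin m ⊕ Fin m → K) ≃ₗ[K] (Fin m ⊕ Fin m → K))}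

/-- the last two nodes -/
theorem exists_pair (hle : ∀ x, rg (frame m K) x ≤ G0) {i j : Fin m} (hij : (i : ℕ) + 1 = j) (hj : (j : ℕ) + 1 = m) :
    ∃ σ τ : SL(2, K) →* G0,
      Nd ((Tor (frame m K) G0).subgroupOf G0) (fun x => (rg (frame m K) x).subgroupOf G0) i σ ∧
      Nd ((Tor (frame m K) G0).subgroupOf G0) (fun x => (rg (frame m K) x).subgroupOf G0) j τ ∧
      ∀ g, σ (hh (-1)) * τ g = τ g * σ (hh (-1)) := by
  have hi : (i : ℕ) + 1 < m := by omega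
  obtain rfl : j = ⟨i + 1, hi⟩ := Fin.ext hij.symm
  have hne : i ≠ ⟨i + 1, hi⟩ := by
    intro e
    have := congrArg Fin.val e
    simp only at this
    omega
  have hu : ∀ y, y ∈ rg (frame m K) (sr i) ↔ ∃ t, phiS (frame m K) hne (U t) = y := by
    intro y
    rw [rg_sr, PG_ne (frame m K) (H61.SUNode.ne_nx hi), H61.SUNode.nx_of_lt hi, mem_XG]
    exact exists_congr fun t => eq_comm.trans (iff_of_eq (congrArg (· = y) (phiS_up (frame m K) hne t).symm))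
  have hl : ∀ y, y ∈ rg (frame m K) (-sr i) ↔ ∃ t, phiS (frame m K) hne (Lo t) = y := by
    intro y
    rw [rg_neg_sr, PG_ne (frame m K) (a := ng (i, true)) (b := ng (nx i)) (H61.SUNode.ne_nx hi),
      XG_swap (frame m K) (a := ng (i, true)) (b := ng (nx i)) (H61.SUNode.ne_nx hi), H61.SUNode.nx_of_lt hi, mem_XG]
    exact exists_congr fun t => eq_comm.trans (iff_of_eq (congrArg (· = y) (phiS_lo (frame m K) hne t).symm))
  obtain ⟨σ, h1, h2⟩ := H948.Ppd.exists_nd hle (phiS (frame m K) hne) hu hl (H948.Ppd.phiS_hh hne)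
  have hnx : nx (⟨i + 1, hi⟩ : Fin m) = (⟨i + 1, hi⟩, true) := by
    unfold nx
    rw [dif_neg (by omega)]
  obtain ⟨τ, h3, h4⟩ := H948.Ppd.exists_nd (Fr := frame m K) (G0 := G0) hle (i := ⟨i + 1, hi⟩)
    (phiL (frame m K) ⟨i + 1, hi⟩) (fun y => by
    rw [rg_sr, hnx, PG_self, H650.Ppd.mem_ZG]
    constructor
    · rintro ⟨t, e⟩
      exact ⟨-t, (phiL_up _ (-t)).trans (by rw [_root_.neg_neg, e])⟩
    · rintro ⟨t, rfl⟩
      exact ⟨-t, phiL_up _ t⟩) (fun y => by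
    rw [rg_neg_sr, hnx, PG_self, H650.Ppd.mem_ZG]
    constructor
    · rintro ⟨t, e⟩
      exact ⟨t, (phiL_lo _ t).trans e.symm⟩
    · rintro ⟨t, rfl⟩
      exact ⟨t, phiL_lo _ t⟩) (H650.Ppd.mono_phiL_hh _)
  refine ⟨σ, τ, Nd.ofH948 h2, Nd.ofH948 h4, fun g => Subtype.ext ?_⟩
  rw [Subgroup.coe_mul, Subgroup.coe_mul, h1, h3]
  exact lin_comm _ hne g

end sp

open Cfsg.Agent.Nodes Cfsg.Agent.Nodes.WittRoot Cfsg.Agent.Nodes.WittRGD Cfsg.Agent.Nodes.WittAll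
  Cfsg.Agent.TitsThree Cfsg.Agent.TitsThree.Siegel Cfsg.Agent.TitsThree.WittFrame Cfsg.Agent.TitsThree.FrameCN
  Cfsg.Agent.H925.Nat in
open Cfsg.Agent.H948.Ppd (TB XB NB rgdB) in
/-- **[Ti-C]** -/
theorem boxC : BoxC := by
  intro n m p hp F _ _ _ K _ _ _ P h l hl h3 hm ⟨e⟩
  have hC := h.core
  have hK : 3 ≤ l ∨ (l = 2 ∧ 3 ≤ Nat.card K) ∨ 4 ≤ Nat.card K := by
    rcases Nat.lt_or_ge l 3 with h1 | h1
    · exact Or.inr (Or.inl ⟨by omega, by rw [Nat.card_eq_fintype_card]; exact h3 (by omega)⟩)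
    · exact Or.inl h1
  obtain ⟨j, hj, hjK⟩ := H650.Ppd.exists_card p hC (by omega) hK e
  obtain ⟨φ₀, hφ₀, -, -⟩ := psp_cover p hC.perfect (by omega) hK e
  have hWf : Finite (CoxeterMatrix.B l).Group := TypeC.finite_W (CoxeterMatrix.B l).toCoxeterSystem
  have hfin := H948.Ppd.finite_GL (K := K) (ν := Fin l ⊕ Fin l)
  let M := H62.SpCross.model l K
  let φ : M.I →* GL (Fin n) F := φ₀.comp (H62.SpCross.isoSp l K).toMonoidHom
  have hφ : φ.range = P := by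
    rw [← hφ₀]
    ext y
    constructor
    · rintro ⟨x, rfl⟩
      exact ⟨_, rfl⟩
    · rintro ⟨x, rfl⟩
      obtain ⟨z, rfl⟩ := (H62.SpCross.isoSp l K).surjective x
      exact ⟨z, rfl⟩
  have hA : AmbT (SpIdent.frame l K) p M.I := AmbT.of_amb Nodes.WittU.amb_Sp p
  have hp0 : (SpIdent.adm (m := l) (1 : K)).c ≠ 0 := one_ne_zero
  have R := rgdB hA hp0 (CoxeterMatrix.B l).toCoxeterSystem
  have hG : GG (CoxeterMatrix.B l).toCoxeterSystem (isCartan l) (TB M) (XB M) = ⊤ := by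
    have h1 := WittModel.G1_eq_top M (by omega) (CoxeterMatrix.B l).toCoxeterSystem
    have h2 : WittModel.X M = XB M := funext fun x => Subgroup.map_id _
    rw [h2] at h1
    exact eq_top_iff.2 (h1.ge.trans le_sup_right)
  have hT : ∀ s ∈ TB M, ∀ t ∈ TB M, s * t = t * s := fun s hs t ht =>
    Subtype.ext (torus_comm hA.V0 (Or.inl rfl) (hA.iso _ s.2) (hA.iso _ t.2) hs.2 ht.2)
  have hN : ∀ i, ∃ σ : SL(2, K) →* M.I, Nd (TB M) (XB M) i σ := H650.Ppd.nd_Sp (G0 := M.I) hA.rg_le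
  obtain ⟨rfl, h4⟩ := BC.bord_B h R hG hT hφ hN hl hj hjK.symm (by rw [hm, Nat.card_eq_fintype_card])
  rw [pow_one, Nat.card_eq_fintype_card (α := K)] at hjK
  refine ⟨hjK.symm, ?_⟩
  rcases h4 with ⟨h5, h6, -⟩ | ⟨rfl, h6, h7, -⟩
  · exact Or.inl ⟨h5, h6⟩
  right
  have hJ : ∀ j, j ∉ Jx (CoxeterMatrix.B 4).toCoxeterSystem (isCartan 4) (XB M) (lin (acRep φ)) ↔ j = 3 := fun j => by
    rw [h7, Fin.ext_iff]
    rfl
  have hp2 : p = 2 := by
    by_contra hp2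
    obtain ⟨σ, τ, N, N', hc⟩ := exists_pair (G0 := M.I) hA.rg_le (i := 2) (j := 3) rfl rfl
    have h8 := twenty R hC hG hT hφ N hp2 (H948.Ppd.Nd.rp_ww R ⟨N'.up, N'.lo, N'.tor⟩) (hc ww) hJ
    rw [Fintype.card_fin] at h8
    omega
  subst hp2
  have h16 : n = 16 := by
    have := Fintype.ofFinite F
    obtain ⟨a, -, ha⟩ := FiniteField.card F 2
    have h8 := (h.seven (by rw [Nat.card_eq_fintype_card, ha]; exact (Nat.even_pow' a.ne_zero).2 even_two)).2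
    omega
  exact ⟨rfl, h16, rfl, BC.fixQ_spin hC hφ R hG hT hJ (by rw [Fintype.card_fin]; omega)⟩

end Cfsg.Agent.SM.Ti.C
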