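import Cfsg.Agent.SM.Ti.Tool
import Cfsg.Agent.H100.Ppd.FieldAsm
import Cfsg.Agent.H2.Ppd.Exc
import Cfsg.Agent.H69.Ppd.Psu6Aux
import Cfsg.Agent.H909.PpdSz
import Cfsg.Agent.H909.PpdReeB
import Cfsg.Agent.H953.Index
import Cfsg.Agent.S0245
import Cfsg.Agent.S0292
import Cfsg.Agent.S0293
import Cfsg.Agent.S0294
import Cfsg.Agent.S1059
import Cfsg.Agent.S1067
import Cfsg.Agent.S1068

/-!
# S3570, tight cores: degrees (helper69, `notes/SM/ti.md`)

* `Dg Q d N` : the primes of `N` which do not divide `Q` divide some `Q ^ e - 1`, `1 ≤ e ≤ d`; `dg_psl`, ... : the families;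
* `Tc.dvd_card` : large primes of `th |F| m` divide the order of the socle;
* `Tc.le_of_dg` : `|F| ^ m ≤ Q ^ d`;  `Tc.lt_of` : the dimension in the case `|F| ^ m < Q ^ d`.
-/

set_option autoImplicit false
set_option linter.unusedSectionVars false

namespace Cfsg.Agent.SM.Ti

open Cfsg Cfsg.Geo Matrix
open Cfsg.Agent.H915.LD

universe u v

/-- the primes of `N` which do not divide `Q` divide some `Q ^ e - 1`, `1 ≤ e ≤ d` -/
def Dg (Q d N : ℕ) : Prop := ∀ s : ℕ, s.Prime → s ∣ N → ¬ s ∣ Q → ∃ e, 1 ≤ e ∧ e ≤ d ∧ s ∣ Q ^ e - 1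

theorem add_dvd_sub (q e : ℕ) : q ^ e + 1 ∣ q ^ (2 * e) - 1 := by
  rw [mul_comm, pow_mul]
  have := Nat.sq_sub_sq (q ^ e) 1
  rw [one_pow] at this
  exact ⟨_, this⟩

namespace Dg

variable {Q d N N' : ℕ}

theorem of_dvd (h : Dg Q d N') (h1 : N ∣ N') : Dg Q d N := fun s hs h2 => h s hs (h2.trans h1)

theorem of_mul {g : ℕ} (h1 : g * N = N') (h : Dg Q d N') : Dg Q d N := h.of_dvd ⟨g, by rw [← h1, mul_comm]⟩

theorem mul (h : Dg Q d N) (h' : Dg Q d N') : Dg Q d (N * N') := fun s hs h1 h2 =>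
  (hs.dvd_mul.1 h1).elim (fun h3 => h s hs h3 h2) fun h3 => h' s hs h3 h2

theorem pow (k : ℕ) : Dg Q d (Q ^ k) := fun _ hs h1 h2 => absurd (hs.dvd_of_dvd_pow h1) h2

theorem pow' {q c : ℕ} (hc : c ≠ 0) (k : ℕ) : Dg (q ^ c) d (q ^ k) := fun _ hs h1 h2 =>
  absurd (dvd_pow (hs.dvd_of_dvd_pow h1) hc) h2

theorem sub {e : ℕ} (h1 : 1 ≤ e) (h2 : e ≤ d) : Dg Q d (Q ^ e - 1) := fun _ _ h3 _ => ⟨e, h1, h2, h3⟩

theorem sub' {q c e x : ℕ} (h1 : 1 ≤ e) (h2 : e ≤ d) (hx : x ∣ c * e) : Dg (q ^ c) d (q ^ x - 1) :=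
  (sub h1 h2).of_dvd (by rw [← pow_mul]; exact Nat.pow_sub_one_dvd_pow_sub_one q hx)

theorem add {e : ℕ} (h1 : 1 ≤ e) (h2 : 2 * e ≤ d) : Dg Q d (Q ^ e + 1) :=
  (sub (by omega) h2).of_dvd (add_dvd_sub Q e)

theorem add' {q e : ℕ} (h1 : 1 ≤ e) (h2 : e ≤ d) : Dg (q ^ 2) d (q ^ e + 1) :=
  (sub h1 h2).of_dvd (by rw [← pow_mul]; exact add_dvd_sub q e)

theorem prod {S : Finset ℕ} {f : ℕ → ℕ} (h : ∀ i ∈ S, Dg Q d (f i)) : Dg Q d (∏ i ∈ S, f i) := fun s hs h1 h2 => by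
  obtain ⟨i, hi, h3⟩ := (Prime.dvd_finsetProd_iff hs.prime _).1 h1
  exact h i hi s hs h3 h2

end Dg

/-! ### the families -/

section fam

variable {K : Type} [Field K] [Fintype K]

theorem dg_psl {N : ℕ} (hN : 2 ≤ N) : Dg (Fintype.card K) N (Nat.card (ProjectiveSpecialLinearGroup (Fin N) K)) := by
  refine Dg.of_dvd (N' := Nat.card (SpecialLinearGroup (Fin N) K)) ?_ (Subgroup.card_quotient_dvd_card _)
  rw [H953.card_SL N (by omega)]
  refine (Dg.pow _).mul (Dg.prod fun i hi => ?_)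
  rw [Finset.mem_Icc] at hi
  exact Dg.sub (by omega) hi.2

theorem dg_psp (l : ℕ) : Dg (Fintype.card K) (2 * l) (Nat.card (PSp l K)) := by
  refine Dg.of_dvd (N' := Nat.card (symplecticGroup (Fin l) K)) ?_ (Subgroup.card_quotient_dvd_card _)
  rw [S0245.result (F := K) rfl l]
  refine (Dg.pow _).mul (Dg.prod fun i hi => ?_)
  rw [Finset.mem_range] at hi
  exact Dg.sub (by omega) (by omega)

theorem dg_podd {l : ℕ} (hl : 3 ≤ l) (hodd : Odd (Fintype.card K)) :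
    Dg (Fintype.card K) (2 * l) (Nat.card (POmega K (quadFormOdd l K))) := by
  refine Dg.of_mul (S0292.result (F := K) rfl hodd l hl) ((Dg.pow _).mul (Dg.prod fun i hi => ?_))
  rw [Finset.mem_range] at hi
  exact Dg.sub (by omega) (by omega)

theorem dg_pplus {l : ℕ} (hl : 4 ≤ l) : Dg (Fintype.card K) (2 * l - 2) (Nat.card (POmega K (quadFormPlus l K))) := by
  refine Dg.of_mul (S0293.result (F := K) rfl l hl)
    (((Dg.pow _).mul (Dg.sub (by omega) (by omega))).mul (Dg.prod fun i hi => ?_))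
  rw [Finset.mem_range] at hi
  exact Dg.sub (by omega) (by omega)

theorem dg_pminus {l : ℕ} (hl : 4 ≤ l) {a b : K}
    (hab : ∀ z₁ z₂ : K, z₁ ^ 2 + a * z₁ * z₂ + b * z₂ ^ 2 = 0 → z₁ = 0 ∧ z₂ = 0) :
    Dg (Fintype.card K) (2 * l) (Nat.card (POmega K (quadFormMinus (l - 1) K a b))) := by
  refine Dg.of_mul (S0294.result (F := K) rfl l hl a b hab)
    (((Dg.pow _).mul (Dg.add (by omega) le_rfl)).mul (Dg.prod fun i hi => ?_))
  rw [Finset.mem_range] at hi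
  exact Dg.sub (by omega) (by omega)

theorem dg_psu {N q : ℕ} (hN : 2 ≤ N) (hK : Fintype.card K = q ^ 2) :
    Dg (Fintype.card K) (2 * ((N - 1) / 2) + 1) (Nat.card (PSU N K q)) := fun s hs h1 h2 => by
  rw [hK] at h2 ⊢
  exact H69.Ppd.dvd_of_card_psu hN hK hs (fun h3 => h2 (dvd_pow h3 two_ne_zero)) h1

theorem dg_g2 : Dg (Fintype.card K) 6 (Nat.card (Lie.chevG2.group K)) := by
  rw [S1059.result (F := K) rfl]
  exact ((Dg.pow _).mul (Dg.sub (by norm_num) (by norm_num))).mul (Dg.sub (by norm_num) le_rfl)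

theorem dg_f4 : Dg (Fintype.card K) 12 (Nat.card (Lie.chevF4.group K)) := by
  rw [S1062.result (F := K) rfl]
  repeat' first | exact Dg.pow _ | exact Dg.sub (by norm_num) (by norm_num) | refine Dg.mul ?_ ?_

theorem dg_e6 : Dg (Fintype.card K) 12 (Nat.card (Lie.chevE6.group K)) := by
  refine Dg.of_mul (S1063.result (F := K) rfl) ?_
  repeat' first | exact Dg.pow _ | exact Dg.sub (by norm_num) (by norm_num) | refine Dg.mul ?_ ?_

theorem dg_e7 : Dg (Fintype.card K) 18 (Nat.card (Lie.chevE7.group K)) := by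
  refine Dg.of_mul (S1064.result (F := K) rfl) ?_
  repeat' first | exact Dg.pow _ | exact Dg.sub (by norm_num) (by norm_num) | refine Dg.mul ?_ ?_

theorem dg_e8 : Dg (Fintype.card K) 30 (Nat.card (Lie.chevE8.group K)) := by
  rw [S1065.result (F := K) rfl]
  repeat' first | exact Dg.pow _ | exact Dg.sub (by norm_num) (by norm_num) | refine Dg.mul ?_ ?_

theorem dg_2e6 {q : ℕ} (hq : IsPrimePow q) (hK : Fintype.card K = q ^ 2) :
    Dg (Fintype.card K) 9 (Nat.card (Lie.twistedE6 K q)) := by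
  refine Dg.of_mul (S1066.result hq hK) ?_
  rw [hK]
  exact (((((((Dg.pow' two_ne_zero _).mul (Dg.sub' (e := 1) le_rfl (by norm_num) (by norm_num))).mul
    (Dg.add' (by norm_num) (by norm_num))).mul (Dg.sub' (e := 3) (by norm_num) (by norm_num) (by norm_num))).mul
    (Dg.sub' (e := 4) (by norm_num) (by norm_num) (by norm_num))).mul (Dg.add' (by norm_num) (by norm_num))).mul
    (Dg.sub' (e := 6) (by norm_num) (by norm_num) (by norm_num)))

theorem tri_dvd (x : ℕ) : x ^ 2 + x + 1 ∣ x ^ 3 - 1 := by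
  rcases Nat.eq_zero_or_pos x with rfl | hx
  · simp
  obtain ⟨y, rfl⟩ : ∃ y, x = y + 1 := ⟨x - 1, by omega⟩
  refine ⟨y, ?_⟩
  apply Nat.sub_eq_of_eq_add
  ring

theorem dg_3d4 {q : ℕ} (hq : IsPrimePow q) (hK : Fintype.card K = q ^ 3) :
    Dg (Fintype.card K) 4 (Nat.card (Lie.twistedD4 K q)) := by
  rw [S1067.result hq hK, hK]
  refine (((Dg.pow' three_ne_zero _).mul (Dg.sub' (e := 2) (by norm_num) (by norm_num) (by norm_num))).mul
    (Dg.sub' (e := 2) (by norm_num) (by norm_num) (by norm_num))).mul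
    ((Dg.sub' (e := 4) (x := 4 * 3) (by norm_num) (by norm_num) (by norm_num)).of_dvd ?_)
  have := tri_dvd (q ^ 4)
  rwa [← pow_mul, ← pow_mul] at this

theorem dg_sz {l : ℕ} (hl : 1 ≤ l) (hK : Fintype.card K = 2 ^ (2 * l + 1)) :
    Dg (Fintype.card K) 4 (Nat.card (Lie.Sz K (2 ^ (l + 1)))) := fun s hs h1 h2 => by
  rw [(S1163.result hl hK).1, ← hK] at h1
  exact ⟨4, by norm_num, le_rfl, H909.Ppd.dvd_aux hs h2 h1⟩

theorem dg_ree {l : ℕ} (hK : Fintype.card K = 3 ^ (2 * l + 1)) :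
    Dg (Fintype.card K) 6 (Nat.card (Lie.twistedG2 K (3 ^ l))) := fun s hs h1 h2 => by
  rw [LieRecognition.ReeFinal.card hK, ← hK] at h1
  exact ⟨6, by norm_num, le_rfl, H909.Ppd.dvd_six hs h2 h1⟩

theorem dg_2f4 {l : ℕ} (hK : Fintype.card K = 2 ^ (2 * l + 1)) :
    Dg (Fintype.card K) 12 (Nat.card (Lie.twistedF4 K (2 ^ l))) := by
  rw [S1068.result hK, ← hK]
  refine ((((Dg.pow _).mul ?_).mul (Dg.add (by norm_num) (by norm_num))).mul (Dg.sub (by norm_num) (by norm_num))).mul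
    (Dg.add (by norm_num) (by norm_num))
  have := Dg.sub (Q := Fintype.card K) (d := 12) (e := 1) le_rfl (by norm_num)
  rwa [pow_one] at this

end fam

/-! ### tight cores -/

theorem exists_exp (F : Type u) [Field F] [Finite F] (p : ℕ) [CharP F p] : ∃ a, 0 < a ∧ Nat.card F = p ^ a := by
  have := Fintype.ofFinite F
  obtain ⟨a, -, ha⟩ := FiniteField.card F p
  exact ⟨a, a.pos, by rw [Nat.card_eq_fintype_card, ha]⟩

variable {n : ℕ} {F : Type u} [Field F] [Finite F] {m : ℕ} {P : Subgroup (GL (Fin n) F)}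

namespace Tc

variable (h : Tc m P)
include h

/-- **Large primes of `th |F| m` divide the order of the socle.** -/
theorem dvd_card {T : Type v} [Group T] (e : Soc P ≃* T) {p b d r : ℕ} (hp : p.Prime) (hT : H462.Ppd.FD T p)
    (hD : Dg (p ^ b) d (Nat.card T)) (hr : r.Prime) (h7 : 7 ≤ r) (hb : ¬ r ∣ b) (hd : d < r)
    (hth : r ∣ th (Nat.card F) m) : r ∣ Nat.card T := by
  have : Finite T := Finite.of_equiv _ e.toEquiv
  refine Tool.dvd_of_FD (L := b * d.factorial) hp hT (fun s hs h1 h2 => ?_) hr h7 (fun h1 => ?_) ?_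
  · obtain ⟨x, hx1, hx2, h3⟩ := hD s hs h1 fun h3 => h2 ((Nat.prime_dvd_prime_iff_eq hs hp).1 (hs.dvd_of_dvd_pow h3))
    rw [← pow_mul] at h3
    exact h3.trans (Nat.pow_sub_one_dvd_pow_sub_one p (Nat.mul_dvd_mul_left _ (Nat.dvd_factorial hx1 hx2)))
  · rcases hr.dvd_mul.1 h1 with h2 | h2
    · exact hb h2
    · have := hr.dvd_factorial.1 h2
      omega
  · rw [← Nat.card_congr (MulAut.congr e).toEquiv]
    exact hth.trans h.dvd_aut

/-- **`|F| ^ m ≤ Q ^ d`** -/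
theorem le_of_dg {T : Type v} [Group T] (e : Soc P ≃* T) {p Q d : ℕ} [hp : Fact p.Prime] [CharP F p]
    (hT : H462.Ppd.FD T p) (hQ : ∃ b, 0 < b ∧ Q = p ^ b) (hd : 0 < d) (hD : Dg Q d (Nat.card T)) :
    Nat.card F ^ m ≤ Q ^ d := by
  obtain ⟨b, hb, rfl⟩ := hQ
  obtain ⟨a, ha, hF⟩ := exists_exp F p
  obtain ⟨r, hr, h1, h2, h3, h4⟩ := h.top hp.out hF
  rw [hF, ← pow_mul, ← pow_mul]
  refine Nat.pow_le_pow_right hp.out.pos ?_
  by_contra h5
  have h6 := Nat.le_of_dvd (by have := hr.two_le; omega) h3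
  have h7 := h.six
  have h8 : 1 * m ≤ a * m := Nat.mul_le_mul_right _ ha
  have h9 := hr.two_le
  have h10 : b * 1 ≤ b * d := Nat.mul_le_mul_left _ hd
  have h11 : 1 * d ≤ b * d := Nat.mul_le_mul_right _ hb
  have h12 := h.dvd_card e hp.out hT hD hr (by omega) (fun h12 => by have := Nat.le_of_dvd hb h12; omega) (by omega) h1
  obtain ⟨x, hx1, hx2, h13⟩ := hD r hr h12 fun h13 => h4 (hr.dvd_of_dvd_pow h13)
  rw [← pow_mul, h2] at h13
  have h14 := Nat.le_of_dvd (Nat.mul_pos hb hx1) h13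
  have h15 : b * x ≤ b * d := Nat.mul_le_mul_left _ hx2
  omega

omit h in
theorem lt_of' {Q j d : ℕ} (hj : Nat.card F ^ j = Q) (hlt : Nat.card F ^ m < Q ^ d) : m < j * d := by
  rw [← hj, ← pow_mul] at hlt
  exact (Nat.pow_lt_pow_iff_right Finite.one_lt_card).1 hlt

/-- the dimension below the borderline -/
theorem lt_of {Q j d : ℕ} (hj : Nat.card F ^ j = Q) (hlt : Nat.card F ^ m < Q ^ d) : n < 2 * (j * d) := by
  have h1 := lt_of' hj hlt
  have h2 := h.hi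
  omega

omit h in
theorem le_of' {Q j d : ℕ} (hj : Nat.card F ^ j = Q) (hle : Nat.card F ^ m ≤ Q ^ d) : m ≤ j * d := by
  rw [← hj, ← pow_mul] at hle
  exact (Nat.pow_le_pow_iff_right Finite.one_lt_card).1 hle

end Tc

end Cfsg.Agent.SM.Ti
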