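import Cfsg.Agent.SM.Ti.Tool
import Cfsg.Agent.H948.Ppd.Pminus
import Cfsg.Agent.H965.XZ.IdxB

/-!
# S3570, tight cores: `PΩ⁻_{2l}(K)` (helper95, `notes/SM/ti.md`)

`W = B_(l-1)`, `|F| ^ j = |K| ^ 2`, `m = j l`, `n ≤ 2 j l + 1`.  The lower bounds of the degree leave the first node only,
its index `th |K| (l - 1) (1 + |K| ^ l)` is smaller than `2 th |F| m`.

* **`boxDm`** : `BoxDm`.
-/

set_option autoImplicit false
set_option linter.unusedSectionVars false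
set_option linter.style.haveILetI false

namespace Cfsg.Agent.SM.Ti.Dm

open CoxeterSystem Cfsg.Agent.ChevalleyStructure.CoxeterGeom Cfsg.Agent.Tits.Roots Cfsg.Agent.Tits.Core
  Cfsg.Agent.Nodes.Reps Cfsg.Agent.Nodes.BNOf Cfsg.Agent.Nodes.Bruhat Cfsg.Agent.Nodes.RGDLib
open Cfsg.Agent.Nodes Cfsg.Agent.Nodes.WittRoot Cfsg.Agent.Nodes.WittRGD Cfsg.Agent.Nodes.WittAll Cfsg.Agent.Nodes.WittInst
open Cfsg.Agent.Nodes.TypeC (isCartan)
open Cfsg.Agent.Nodes.LeviDec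
open Cfsg.Agent.TitsThree.Siegel Cfsg.Agent.TitsThree.SiegelGen Cfsg.Agent.TitsThree.WittFrame Cfsg.Agent.TitsThree.FrameCN
  Cfsg.Agent.TitsThree.WBridge Cfsg.Agent.TitsThree.KSideO Cfsg.Agent.TitsThree Cfsg.Agent.TitsThree.StdData
open Cfsg.Agent.LieClassical Cfsg.Agent.LieClassical.OrthCore Cfsg.Agent.LieClassical.OrthTrans
open Cfsg.Agent.LieClassical.OrthSimple Cfsg.Agent.LieClassical.OrthFinite Cfsg.Agent.LieClassical.OrthForms
open Cfsg.Agent.H915.LD Cfsg.Agent.H911 Cfsg.Agent.H905.Md Cfsg.Agent.H925.Nat Cfsg.Agent.Nodes.RGDLift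
open Cfsg.Agent.H156.Ppd (Cov lrep exists_cov)
open Cfsg.Agent.Omega.CR Cfsg.Agent.Omega.FOne.Lift.Sd
open Cfsg.Agent.H948.Ppd Cfsg.Agent.H948.Ppd.Minus
open Cfsg Cfsg.Geo QuadraticMap
open scoped MatrixGroups Matrix

/-! ### numbers -/

/-- the first node -/
theorem first {Q q j l x : ℕ} (hq : 2 ≤ q) (hQ : 1 ≤ Q) (hj : 1 ≤ j) (h1 : Q ^ j = q ^ 2) (hl : 1 ≤ l) (hx : 2 ≤ x)
    (e : th q l * (1 + q ^ (l - 1) * q ^ 2) = x * th Q (j * (l + 1))) : False := by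
  have h2 := th_mul hQ (j * (l + 1))
  have h3 := th_mul (Q := q) (by omega) l
  have h4 : Q ≤ q ^ 2 := h1 ▸ Nat.le_self_pow (by omega) Q
  rw [pow_mul, h1, ← pow_mul] at h2
  have h5 : q ^ (l - 1) * q ^ 2 = q * q ^ l := by
    rw [← pow_add, ← pow_succ']
    congr 1
    omega
  have h6 : q ^ (2 * (l + 1)) = (q * q ^ l) ^ 2 := by ring
  have h7 : q ≤ q ^ l := Nat.le_self_pow (by omega) q
  rw [h5] at e
  rw [h6] at h2
  obtain ⟨y, rfl⟩ : ∃ y, q = y + 1 := ⟨q - 1, by omega⟩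
  obtain ⟨Z, rfl⟩ : ∃ Z, Q = Z + 1 := ⟨Q - 1, by omega⟩
  rw [Nat.add_sub_cancel] at h2 h3
  generalize th (y + 1) l = A at *
  generalize th (Z + 1) (j * (l + 1)) = B at *
  generalize (y + 1) ^ l = u at *
  obtain ⟨v, hv⟩ : ∃ v, (y + 1) * u = v + 1 := ⟨(y + 1) * u - 1, by
    have : 0 < (y + 1) * u := Nat.mul_pos (by omega) (by omega)
    omega⟩
  rw [hv] at e h2
  have h8 : B * Z = v * (v + 2) := by nlinarith
  have h9 : A * Z = x * v := by
    refine Nat.eq_of_mul_eq_mul_right (show 0 < v + 2 by omega) ?_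
    calc A * Z * (v + 2) = A * (1 + (v + 1)) * Z := by ring
      _ = x * (B * Z) := by rw [e]; ring
      _ = x * v * (v + 2) := by rw [h8]; ring
  have h10 : Z ≤ y * (y + 2) := by nlinarith
  have h11 : A * Z ≤ A * (y * (y + 2)) := Nat.mul_le_mul_left _ h10
  have h12 : 2 * v ≤ x * v := Nat.mul_le_mul_right _ hx
  have h13 : u ≤ y * u := Nat.le_mul_of_pos_left _ (by omega)
  have h14 : A * (y * (y + 2)) + (y + 2) = u * (y + 2) := by rw [← h3]; ring
  nlinarith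

theorem last {l j n d ε : ℕ} (hl : 3 ≤ l) (hj : 1 ≤ j) (h6 : 6 ≤ j * (l + 1)) (hn : n ≤ 2 * (j * (l + 1)) + 1)
    (hd : ∃ m, 2 ≤ m ∧ d = m ^ j) (hε : d ≤ ε + 2) (h : 2 ^ l + l * 2 ^ (l - 1) * ε ≤ n) : False := by
  obtain ⟨x, rfl⟩ : ∃ x, j = x + 1 := ⟨j - 1, by omega⟩
  have h1 := eps_ge hd hε
  have h2 := succ_le_pow hl
  have e : 2 ^ l = 2 * 2 ^ (l - 1) := by
    rw [← pow_succ']
    congr 1
    omega
  rw [e] at h
  have h3 : l * (l + 1) * (2 * x) ≤ l * 2 ^ (l - 1) * ε := Nat.mul_le_mul (Nat.mul_le_mul_left _ h2) h1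
  have h4 : 3 * (l + 1) * (2 * x) ≤ l * (l + 1) * (2 * x) := Nat.mul_le_mul_right _ (Nat.mul_le_mul_right _ hl)
  have h5 : 3 * (l + 1) * (2 * x) = 6 * (x * (l + 1)) := by ring
  have h7 : (x + 1) * (l + 1) = x * (l + 1) + (l + 1) := by ring
  rw [h7] at hn h6
  have h8 : x * (l + 1) = 0 := by omega
  have h9 : 4 ≤ l - 1 := by omega
  obtain ⟨k, hk⟩ : ∃ k, l - 1 = k + 1 := ⟨l - 2, by omega⟩
  have h10 := succ_le_pow (l := k + 1) (by omega)
  rw [Nat.add_sub_cancel] at h10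
  rw [hk, pow_succ] at h
  omega

theorem choose_ge {l k : ℕ} (hl : 4 ≤ l) (h1 : 2 ≤ k) (h2 : k < l) : 4 * l + 6 ≤ l.choose k * 2 ^ k := by
  rcases Nat.lt_or_ge 2 k with h3 | h3
  · have h4 := TypeB.le_choose (n := l) (k := k) (by omega) h2
    have h5 : 2 ^ 3 ≤ 2 ^ k := Nat.pow_le_pow_right (by norm_num) h3
    have h6 : l * 2 ^ 3 ≤ l.choose k * 2 ^ k := Nat.mul_le_mul h4 h5
    omega
  · obtain rfl : k = 2 := by omega
    rw [Nat.choose_two_right]
    have h4 : 2 * (l * (l - 1) / 2) = l * (l - 1) := Nat.mul_div_cancel' (Nat.even_mul_pred_self l).two_dvd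
    have h5 : l * 3 ≤ l * (l - 1) := Nat.mul_le_mul_left _ (by omega)
    omega

theorem mid {l j n d c : ℕ} (hn : n ≤ 2 * (j * (l + 1)) + 1) (hd : j ≤ d) (hd2 : 2 ≤ d) (hc : 4 * l + 6 ≤ c)
    (h : c * d ≤ 2 * n) : False := by
  have h1 : (4 * l + 6) * d ≤ c * d := Nat.mul_le_mul_right _ hc
  have h2 : j * (l + 1) ≤ d * (l + 1) := Nat.mul_le_mul_right _ hd
  have h3 : (4 * l + 6) * d = 4 * (d * (l + 1)) + 2 * d := by ring
  omega

/-! ### the row -/

theorem card_nd {I W Y : Type*} [Fintype I] [DecidableEq I] [Group W] [Group Y] {M : CoxeterMatrix I}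
    {cs : CoxeterSystem M W} {A : I → I → ℤ} {h : IsCartan M A} {p : ℕ} {T : Subgroup Y} {n : I → Y}
    {X : (I → ℤ) → Subgroup Y} (R : RGD cs h p T n X) {i : I} {E : Type*} [Field E] {σ : SL(2, E) →* Y}
    (N : Nd T X i σ) : Nat.card (X (sr i)) = Nat.card E :=
  (Nat.card_congr (Equiv.ofBijective (fun t : E => (⟨σ (SLTwo.U t), (N.up _).2 ⟨t, rfl⟩⟩ : X (sr i)))
    ⟨fun _ _ e => N.U_inj R (congrArg Subtype.val e), fun y => by
      obtain ⟨t, ht⟩ := (N.up y).1 y.2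
      exact ⟨t, Subtype.ext ht⟩⟩)).symm

/-- **[Ti-Dm]** -/
theorem boxDm : BoxDm := by
  intro n m p hp F _ _ _ K _ _ _ P h l a b hl hab hcard
  refine ⟨fun e => ?_⟩
  have hC := h.core
  obtain ⟨l, rfl⟩ : ∃ l', l = l' + 1 := ⟨l - 1, by omega⟩
  have hl3 : 3 ≤ l := by omega
  have e' : Soc P ≃* POmega K (quadFormMinus l K a b) := e
  have hG := good_minus (m := l) hab (by omega)
  have hA := ambT_minus hab p (by omega) hG
  have hp0 := pc_ne (m := l) hab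
  rw [← coe_minusForm] at e'
  have hWf : Finite (CoxeterMatrix.B l).Group := TypeC.finite_W (CoxeterMatrix.B l).toCoxeterSystem
  have hperf : commutator ↥(MM hab hG).I = ⊤ := H911.Five.commutator_top hG.E_perfect
  obtain ⟨Y, _, _, f, φ, n₁, C⟩ := exists_covB hC hA hp0 (by omega) hperf e'
  have hT' := torus_comm_minus hab hG (by omega) hA
  obtain ⟨hT, hpow⟩ := lift_comm_pow C hp0 hT' (N₀ := Nat.card K ^ 2) fun i => nodes hab hG hA i
  -- the fields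
  obtain ⟨f₀, -, hf₀⟩ := FiniteField.card K p
  rw [← Nat.card_eq_fintype_card] at hf₀ hcard
  have := Fintype.ofFinite F
  obtain ⟨a₀, -, ha₀⟩ := FiniteField.card F p
  rw [← Nat.card_eq_fintype_card] at ha₀
  obtain ⟨j, hj, hjK⟩ := C.exists_j hC hT (a := (f₀ : ℕ) * 2) (Nat.mul_ne_zero f₀.ne_zero two_ne_zero)
    (by rw [pow_mul, ← hf₀]; exact hpow)
  rw [pow_mul, ← hf₀] at hjK
  have haj : (a₀ : ℕ) * j = f₀ * 2 := by
    have h1 : p ^ ((a₀ : ℕ) * j) = p ^ ((f₀ : ℕ) * 2) := by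
      rw [pow_mul, ← ha₀, hjK, hf₀, ← pow_mul]
    exact Nat.pow_right_injective hp.out.two_le h1
  have hF1 := Finite.one_lt_card (α := F)
  have hK1 := Finite.one_lt_card (α := K)
  have hm : m = j * (l + 1) := Tool.jm hF1 hjK (by rw [hcard, pow_mul])
  have hn := h.hi
  have h6 := h.six
  rw [hm] at hn h6
  -- the nodes
  have hlast : ∀ i : Fin l, (i : ℕ) + 1 = l → ∃ (E : Type) (_ : Field E) (_ : Finite E) (_ : CharP E p)
      (σ : SL(2, E) →* Y), Nat.card E = Nat.card F ^ j ∧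
        Nd ((TB (MM hab hG)).comap f) (fun x => lft p f (XB (MM hab hG) x)) i σ := by
    intro i hi
    obtain ⟨E, i1, i2, i3, σ', h1, -, N'⟩ := node_last hab hG hA hi
    obtain ⟨σ, -, N⟩ := lift_nd C hp0 N'
    exact ⟨E, i1, i2, i3, σ, by rw [h1, hjK], N⟩
  have hlong : ∀ i : Fin l, (i : ℕ) + 1 < l → ∃ σ : SL(2, K) →* Y,
        Nd ((TB (MM hab hG)).comap f) (fun x => lft p f (XB (MM hab hG) x)) i σ := by
    intro i hi
    obtain ⟨σ', -, N'⟩ := node_long hab hG hA hi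
    obtain ⟨σ, -, N⟩ := lift_nd C hp0 N'
    exact ⟨σ, N⟩
  have hedge : ∀ i : Fin l, (i : ℕ) + 1 < l → i ∉ JB (MM hab hG) p f φ →
      ∃ s, 1 ≤ s ∧ (j = 2 * s ∨ j = s) ∧ ∃ m, 2 ≤ m ∧ dB (MM hab hG) p f φ i = m ^ s := by
    intro i hi hiJ
    obtain ⟨σ, N⟩ := hlong i hi
    rcases Nat.even_or_odd' j with ⟨j', hj' | hj'⟩
    · have hfa : (f₀ : ℕ) = a₀ * j' := by
        have h1 : (a₀ : ℕ) * (2 * j') = a₀ * j' * 2 := by ring
        rw [hj'] at haj
        omega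
      exact ⟨j', by omega, Or.inl hj', edge_pow_B hC C hT hiJ N (by rw [hf₀, ha₀, ← pow_mul, hfa])⟩
    · obtain ⟨a₁, ha₁⟩ : ∃ a₁, (a₀ : ℕ) = 2 * a₁ := by
        have h1 : Even ((a₀ : ℕ) * j) := by
          rw [haj, mul_comm]
          exact even_two_mul _
        rcases Nat.even_mul.1 h1 with ⟨x, hx⟩ | ⟨x, hx⟩
        · exact ⟨x, by omega⟩
        · omega
      have hf₁ : (f₀ : ℕ) = a₁ * j := by
        have h1 : 2 * (a₁ * j) = f₀ * 2 := by rw [← haj, ha₁]; ring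
        omega
      have hgcd : j * Nat.gcd a₀ f₀ = f₀ := by
        have h1 : Nat.gcd 2 j = 1 := by
          rw [hj']
          exact (Nat.coprime_two_left).2 ⟨j', rfl⟩
        rw [ha₁, hf₁, mul_comm 2 a₁, Nat.gcd_mul_left, h1, mul_one, mul_comm]
      exact ⟨j, hj, Or.inr rfl, edge_pow_B' hC C hT hiJ N ha₀ hf₀ hgcd⟩
  have hJ : ∀ i : Fin l, 1 ≤ (i : ℕ) → i ∈ JB (MM hab hG) p f φ := by
    intro i hi1
    by_contra hiJ
    by_cases hi : (i : ℕ) + 1 < l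
    · obtain ⟨s, hs, hjs, hd⟩ := hedge i hi hiJ
      have hd' := d_ge hs hd
      rcases Nat.lt_or_ge 3 l with hl4 | hl3'
      · have h3 := bound_all hC C hT hiJ
        rw [Fintype.card_fin] at h3
        exact mid hn (by omega) (by omega) (choose_ge hl4 (by omega) hi) h3
      · obtain rfl : l = 3 := by omega
        obtain rfl : i = 1 := by
          apply Fin.ext
          change (i : ℕ) = 1
          omega
        obtain ⟨ε, hε, h3⟩ := bound_mid hC C hT hiJ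
        rw [Fintype.card_fin] at h3
        obtain rfl : j = 2 := by omega
        obtain ⟨E, i1, i2, i3, σ, h1, N⟩ := hlast 2 rfl
        have h5 := bound_levi hC C hT hiJ N ha₀ h1
        rw [Fintype.card_fin] at h5
        omega
    · obtain ⟨E, i1, i2, i3, σ, h1, N⟩ := hlast i (by omega)
      obtain ⟨ε, hε, h3⟩ := bound_last hC C hT (by omega) hiJ
      rw [Fintype.card_fin] at h3
      exact last hl3 hj h6 hn (edge_pow_B hC C hT hiJ N h1) hε h3
  have hJ' : JB (MM hab hG) p f φ = {i : Fin l | (i : ℕ) + 1 ≠ 1} := by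
    obtain ⟨i, hi⟩ := exists_node hC C hT
    ext k
    refine ⟨fun hk h0 => hi ?_, fun hk => hJ k (by simp only [Set.mem_ofPred_eq] at hk; omega)⟩
    by_cases h1 : 1 ≤ (i : ℕ)
    · exact hJ i h1
    · rwa [show i = k from Fin.ext (by omega)]
  -- the index
  obtain ⟨⟨s, -, h1⟩, -⟩ := h.big C.rgd C.hGG hT C.range
  have h2 := H965.XZ.index_B C.rgd C.hGG (y := Nat.card K) (z := Nat.card K ^ 2)
    (fun i hi => by
      obtain ⟨σ, N⟩ := hlong i hi
      exact card_nd C.rgd N)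
    (fun i hi => by
      obtain ⟨E, i1, i2, i3, σ, h1, N⟩ := hlast i hi
      rw [← hjK, ← h1]
      exact card_nd C.rgd N) (a := 1) le_rfl (by omega)
  rw [← hJ', h1, Finset.prod_range_one, Finset.prod_range_one, hm, add_zero, show l - 1 + 1 = l by omega,
    show H965.XZ.gs (Nat.card K) (0 + 1) = 1 by simp [H965.XZ.gs], mul_one] at h2
  exact first hK1 hF1.le hj hjK (by omega) (Tool.two_le_add hp.out) h2.symm

end Cfsg.Agent.SM.Ti.Dm
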