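import Cfsg.Agent.SM.Ti.Tool
import Cfsg.Agent.H156.Ppd.PPlus
import Cfsg.Agent.H947.EPO.DBig

/-!
# S3570, tight cores: the borderline case of `PΩ⁺_{2l}(K)` (helper39)
-/

set_option autoImplicit false
set_option linter.unusedSectionVars false
set_option linter.style.longLine false

namespace Cfsg.Agent.SM.Ti.Dp

section abs

open CoxeterSystem Cfsg.Agent.ChevalleyStructure.CoxeterGeom Cfsg.Agent.Tits.Roots Cfsg.Agent.Tits.Core
  Cfsg.Agent.Tits.Exchange Cfsg.Agent.Nodes.Reps Cfsg.Agent.Nodes.BNOf Cfsg.Agent.Nodes.StabComb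
  Cfsg.Agent.Nodes.Bruhat Cfsg.Agent.Nodes.OppDec Cfsg.Agent.Nodes.LeviDec Cfsg.Agent.KFacts.RgdOpp
  Cfsg.Agent.Omega.CR Cfsg.Agent.Omega.FOne.Lift.Sd Cfsg.Agent.H905.Md Cfsg.Agent.H905.DC Cfsg.Agent.Nodes.TypeD
  Cfsg.Agent.Nodes.RGDLib Cfsg.Agent.H650.Ppd Cfsg.Agent.H156.Ppd Cfsg.Agent.H156.Ppd.DSg Cfsg.Agent.H947.EPO

/-- in type `D₅` the longest element interchanges the two half-spin nodes -/
theorem spin5 {W : Type*} [Group W] [Finite W] {cs : CoxeterSystem (Nodes.TypeD.M 3) W} {A : Fin 5 → Fin 5 → ℤ}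
    (h : IsCartan (Nodes.TypeD.M 3) A) (hA : A = mAD5) {J : Set (Fin 5)}
    (hJ : ∀ w ∈ WJ cs J, w0 cs * w * w0 cs ∈ WJ cs J) : (3 : Fin 5) ∈ J ↔ (4 : Fin 5) ∈ J := by
  subst hA
  have key : ∀ (i m : Fin 5) (L : List (Fin 5 → ℤ)), (Pi.single i 1 : Fin 5 → ℤ) ∈ L → (∀ c ∈ L, ∀ j, fire mAD5 c j ∈ L) →
      (∀ c ∈ L, (∀ k, c k ≤ 0) → c m ≠ 0) → m ∈ J → i ∈ J := fun i m L h0 hL h1 hm => by_contra fun hi =>
    h1 _ (co_mem (cs := cs) (h := h) h0 hL (w0 cs)) (Tool.sym_le i) (Tool.sym hJ hi hm)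
  exact ⟨key 4 3 [![0, 0, 0, 0, 1], ![0, 0, 1, 0, -1], ![0, 1, -1, 1, 0], ![1, -1, 0, 1, 0], ![0, 1, 0, -1, 0], ![-1, 0, 0, 1, 0], ![1, -1, 1, -1, 0], ![-1, 0, 1, -1, 0], ![1, 0, -1, 0, 1], ![-1, 1, -1, 0, 1], ![1, 0, 0, 0, -1], ![0, -1, 0, 0, 1], ![-1, 1, 0, 0, -1], ![0, -1, 1, 0, -1], ![0, 0, -1, 1, 0], ![0, 0, 0, -1, 0]]
      (by decide +kernel) (by decide +kernel) (by decide +kernel),
    key 3 4 [![0, 0, 0, 1, 0], ![0, 0, 1, -1, 0], ![0, 1, -1, 0, 1], ![1, -1, 0, 0, 1], ![0, 1, 0, 0, -1], ![-1, 0, 0, 0, 1], ![1, -1, 1, 0, -1], ![-1, 0, 1, 0, -1], ![1, 0, -1, 1, 0], ![-1, 1, -1, 1, 0], ![1, 0, 0, -1, 0], ![0, -1, 0, 1, 0], ![-1, 1, 0, -1, 0], ![0, -1, 1, -1, 0], ![0, 0, -1, 0, 1], ![0, 0, 0, 0, -1]]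
      (by decide +kernel) (by decide +kernel) (by decide +kernel)⟩

theorem two_pow : ∀ n : ℕ, 4 ≤ n → 4 * (n + 1) + 2 ≤ 2 ^ (n + 1) := by
  intro n hn
  induction n, hn using Nat.le_induction with
  | base => norm_num
  | succ n hn ih => rw [pow_succ]; omega

variable {W Y : Type*} [Group W] [Group Y] {p : ℕ} {T : Subgroup Y} {k V : Type*} [Field k] [AddCommGroup V] [Module k V]
  [Finite Y] [Finite W] [Fact p.Prime] [CharP k p] {ρ : Y →* Module.End k V} [FiniteDimensional k V] [Nontrivial V]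

/-- **Type `D_l`, `l ≥ 5`.** -/
theorem dBord {n : ℕ} {cs : CoxeterSystem (Nodes.TypeD.M n) W} {m : Fin (n + 2) → Y} {X : (Fin (n + 2) → ℤ) → Subgroup Y}
    (R : RGD cs (isCartan n) p T m X) (hirr : ∀ L : Submodule k V, Ivt ρ (GG cs (isCartan n) T X) L → L = ⊥ ∨ L = ⊤)
    (hn : 3 ≤ n) (hG : G1 cs (isCartan n) X = ⊤) (hnt : ∃ (g : Y) (v : V), ρ g v ≠ v)
    (hD : Module.finrank k (D cs (isCartan n) X ρ) = 1) {j : ℕ}
    (hIo : ∀ i, i ∉ Jx cs (isCartan n) X ρ → j ≤ Module.finrank k (Io cs (isCartan n) T X ρ i) + 1)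
    (hlt : Module.finrank k V ≤ 4 * (n + 1) * j + 1)
    (hw : ∀ w ∈ WJ cs (Jx cs (isCartan n) X ρ), w0 cs * w * w0 cs ∈ WJ cs (Jx cs (isCartan n) X ρ)) :
    (∀ i, i ∈ Jx cs (isCartan n) X ρ ↔ i ≠ 0) ∧ Module.finrank k (Le cs (isCartan n) T X ρ {0}) ≤ 2 := by
  have hC := two_mul_choose n
  obtain ⟨i0, hi0⟩ : ∃ i, i ∉ Jx cs (isCartan n) X ρ := by
    by_contra hcon
    push Not at hcon
    obtain ⟨g, v, hv⟩ := hnt
    exact hv (H925.Nat.triv_of_Jx_univ R hirr hG hcon g v)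
  have hj : ∀ c, j ≤ c + 1 → Module.finrank k V ≤ 4 * (n + 1) * (c + 1) + 1 := fun c hc =>
    hlt.trans (Nat.add_le_add_right (Nat.mul_le_mul_left _ hc) 1)
  have key : ∀ i, i ∉ Jx cs (isCartan n) X ρ → i = 0 ∧ Module.finrank k (Io cs (isCartan n) T X ρ i) = 0 := by
    intro i hi
    have h1 := hj _ (hIo i hi)
    rcases Nat.eq_zero_or_pos (i : ℕ) with h0 | h0
    · have h2 : i = 0 := Fin.ext h0
      subst h2
      refine ⟨rfl, ?_⟩
      have h3 := dim_O R hirr (by omega) hi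
      rw [hD, mul_one, show (n + 2).choose 2 * 4 = 2 * ((n + 2).choose 2 * 2) by ring, hC] at h3
      set c := Module.finrank k (Io cs (isCartan n) T X ρ 0)
      by_contra hc
      have hc' : 1 ≤ c := Nat.one_le_iff_ne_zero.2 hc
      nlinarith [Nat.mul_le_mul_left (n + 1) hc', Nat.mul_le_mul hn (Nat.mul_le_mul_left (n + 1) hc'),
        Nat.mul_le_mul_right ((n + 1) * c) hn]
    · exfalso
      rcases Nat.lt_or_ge (i : ℕ) n with h2 | h2
      · have h3 := dim_V R hirr hi h0 h2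
        have h4 := choose_two_le (m := n + 2) (k := (i : ℕ) + 1) (by omega) (by omega)
        rw [hD, mul_one, hC] at h3
        set c := Module.finrank k (Io cs (isCartan n) T X ρ i)
        nlinarith [Nat.mul_le_mul_left (n + 1) hn, Nat.mul_le_mul_right ((n + 1) * c) hn]
      · have h3 := dim_H R hirr (by omega) hi h2
        rw [hD, mul_one, hC] at h3
        set c := Module.finrank k (Io cs (isCartan n) T X ρ i)
        rcases hn.eq_or_lt with rfl | hn4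
        · have h4 : Module.finrank k V ≤ 17 := by omega
          have h5 := spin5 (isCartan 3) mAD5_eq hw
          have h6 : i = (3 : Fin 5) ∨ i = (4 : Fin 5) := by
            have := i.2
            rcases (show (i : ℕ) = 3 ∨ (i : ℕ) = 4 by omega) with h7 | h7
            exacts [Or.inl (Fin.ext h7), Or.inr (Fin.ext h7)]
          have h7 : (3 : Fin 5) ∉ Jx cs (isCartan 3) X ρ := by
            rcases h6 with rfl | rfl
            exacts [hi, fun h8 => hi (h5.1 h8)]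
          have h8 := dFive_two mAD5_eq R hirr h7 fun h9 => h7 (h5.2 h9)
          omega
        · have h4 := two_pow n hn4
          nlinarith [Nat.mul_le_mul_right ((n + 1) * c) hn]
  have h00 := (key i0 hi0).1
  subst h00
  refine ⟨fun i => ⟨fun h1 h2 => hi0 (h2 ▸ h1), fun h1 => by_contra fun h2 => h1 (key i h2).1⟩, ?_⟩
  have h1 := finrank_Io R hirr (ρ := ρ) (0 : Fin (n + 2))
  rw [(key 0 hi0).2, hD] at h1
  omega

/-- **Type `D₄`.** -/
theorem dBord4 {cs : CoxeterSystem (Nodes.TypeD.M 2) W} {m : Fin 4 → Y} {X : (Fin 4 → ℤ) → Subgroup Y}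
    (R : RGD cs (isCartan 2) p T m X) (hirr : ∀ L : Submodule k V, Ivt ρ (GG cs (isCartan 2) T X) L → L = ⊥ ∨ L = ⊤)
    (hG : G1 cs (isCartan 2) X = ⊤) (hnt : ∃ (g : Y) (v : V), ρ g v ≠ v)
    (hD : Module.finrank k (D cs (isCartan 2) X ρ) = 1) {j : ℕ}
    (hIo : ∀ i, i ∉ Jx cs (isCartan 2) X ρ → j ≤ Module.finrank k (Io cs (isCartan 2) T X ρ i) + 1)
    (hlt : Module.finrank k V ≤ 12 * j + 1) : Module.finrank k V ≤ 8 := by
  obtain ⟨i, hi⟩ : ∃ i, i ∉ Jx cs (isCartan 2) X ρ := by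
    by_contra hcon
    push Not at hcon
    obtain ⟨g, v, hv⟩ := hnt
    exact hv (H925.Nat.triv_of_Jx_univ R hirr hG hcon g v)
  have h1 := hIo i hi
  have h2 := dBigFour mAD4_eq R hirr hG hnt hD
  rcases dFour_one mAD4_eq R hirr hi with ⟨-, h3⟩ | ⟨-, h3⟩ <;> omega

end abs

open CoxeterSystem Cfsg.Agent.ChevalleyStructure.CoxeterGeom Cfsg.Agent.Tits.Roots Cfsg.Agent.Tits.Core
  Cfsg.Agent.Nodes.Reps Cfsg.Agent.Nodes.BNOf Cfsg.Agent.Nodes.Bruhat Cfsg.Agent.Nodes.RGDLib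
open QuadraticMap
open Cfsg.Agent.LieClassical Cfsg.Agent.LieClassical.OrthCore Cfsg.Agent.LieClassical.OrthTrans
open Cfsg.Agent.LieClassical.OrthSimple Cfsg.Agent.LieClassical.OrthFinite Cfsg.Agent.LieClassical.OrthForms
open Cfsg.Agent.TitsThree Cfsg.Agent.TitsThree.KSideO Cfsg.Agent.TitsThree.StdData
open Cfsg.Agent.Nodes Cfsg.Agent.Nodes.WittAll Cfsg.Agent.Nodes.WittInst Cfsg.Agent.Nodes.WittU
  Cfsg.Agent.TitsThree.Siegel Cfsg.Agent.TitsThree.SiegelGen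
  Cfsg.Agent.TitsThree.WittFrame Cfsg.Agent.TitsThree.WBridge Cfsg.Agent.TitsThree.WittWeyl
  Cfsg.Agent.TitsThree.FrameCN
open Cfsg.Agent.H905.Md Cfsg.Agent.H915.LD Cfsg.Agent.H925.Nat Cfsg.Agent.H100.Ppd Cfsg.Agent.H911
open Cfsg.Agent.H67.Cross Cfsg.Agent.H156.Ppd Cfsg.Agent.H156.Ppd.PPlus
open Cfsg.Agent.KFacts.MulOdd.Inst (Lv)
open Cfsg Cfsg.Geo
open scoped MatrixGroups Matrix

theorem row {n m p : ℕ} [hp : Fact p.Prime] {F : Type} [Field F] [Finite F] [CharP F p] {K : Type} [Field K] [Fintype K]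
    [CharP K p] {P : Subgroup (GL (Fin n) F)} (h : Tc m P) {l : ℕ} (hl : 4 ≤ l)
    (hm : Nat.card F ^ m = Fintype.card K ^ (2 * l - 2)) (e : Soc P ≃* POmega K (quadFormPlus l K)) : False := by
  classical
  obtain ⟨d, rfl⟩ : ∃ d, l = d + 2 := ⟨l - 2, by omega⟩
  have hC := h.core
  have hG : Good (plusForm (d + 2) K) := by
    apply good_of_finite (nondeg_plusForm (d + 2) K)
    rw [Module.finrank_fintype_fun_eq_card, Fintype.card_sum, Fintype.card_fin]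
    omega
  rw [← coe_plusForm] at e
  have hfin := hfin (K := K) d
  have hA := amb_plus (F := K) (d + 2)
  have h0 := adm_plus (F := K) (d + 2)
  have hWf : Finite (TypeD.M d).Group := TypeD.finite_W (TypeD.M d).toCoxeterSystem
  have hR := rgd_restrict (rgdD hA h0 (TypeD.M d).toCoxeterSystem (p := p))
    (E (plusForm (d + 2) K)) (fun x _ => rgD_le _ hA x) (fun i => WittRGDD.nn_mem hA i)
  have hperf : commutator ↥(E (plusForm (d + 2) K)) = ⊤ := Five.commutator_top hG.E_perfect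
  have hG1 : G1 (TypeD.M d).toCoxeterSystem (TypeD.isCartan d) (XX d K) = ⊤ := by
    have h1 := G1D_eq_top (wplus (d + 2) K) (MonoidHom.id (E (plusForm (d + 2) K))) Function.surjective_id h0
      (TypeD.M d).toCoxeterSystem
    rw [← h1]
    congr 1
    funext x
    exact (Subgroup.map_id _).symm
  obtain ⟨Y, _, _, f, φ, n₁, C⟩ := H156.Ppd.exists_cov hC hR hG1 hperf (toPOmega_surjective hG) e
  have hpp : p.Prime := Fact.out
  have rk : ∀ i, ∀ r : ℕ, r.Prime → r ≠ p → NoCE p r ↥(Lv (XX d K) i) := fun i r hr hne => noCE hpp i hr hne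
  have hT : ∀ s ∈ (TT d K).comap f, ∀ t ∈ (TT d K).comap f, s * t = t * s :=
    comap_comm C.ker C.cop C.surj hR rk C.gen TT_comm
  obtain ⟨a, ha⟩ : ∃ a : ℕ+, Fintype.card K = p ^ (a : ℕ) :=
    ⟨(FiniteField.card K p).choose, (FiniteField.card K p).choose_spec.2⟩
  have hpow : ∀ t ∈ (TT d K).comap f, t ^ p ^ (a : ℕ) = t :=
    comap_pow C.ker C.cop C.surj hR rk C.gen TT_comm (TT_pow fun x => by rw [← ha]; exact FiniteField.pow_card x)
  have hD := C.finrank_D hC hT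
  obtain ⟨j, hj1, hj⟩ := C.exists_j hC hT a.pos.ne' hpow
  rw [← ha] at hj
  have hmj : m = j * (2 * d + 2) := Tool.jm Finite.one_lt_card hj hm
  have hlo := h.lo
  have hhi := h.hi
  have hKc : Nat.card K = Nat.card F ^ j := by rw [hj, Nat.card_eq_fintype_card]
  have hIo : ∀ i, i ∉ Jx (TypeD.M d).toCoxeterSystem (TypeD.isCartan d) (fun x => Nodes.RGDLift.lft p f (XX d K x)) (lrep φ) →
      j ≤ Module.finrank F (Io (TypeD.M d).toCoxeterSystem (TypeD.isCartan d) ((TT d K).comap f)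
        (fun x => Nodes.RGDLift.lft p f (XX d K x)) (lrep φ) i) + 1 :=
    fun i hi => C.edge_Io hR hC hi hD (by rw [card_XX, hKc]) (ts i)
  have hnV := C.nontriv hC
  have hdim : Module.finrank F (Fin n → F) = n := by rw [Module.finrank_fintype_fun_eq_card, Fintype.card_fin]
  by_cases hd4 : d = 2
  · subst hd4
    have h1 := dBord4 C.rgd (C.hirr hC) C.gen (C.hnt hC) hD hIo (by rw [hdim]; omega)
    rw [hdim] at h1
    have := h.ge
    omega
  · have hne := hC.nonempty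
    have hw := (h.big C.rgd C.hGG hT C.range).2.2
    rw [H69.Ppd.Jx_eq C.rgd C.hGG hT C.range hC.absIrred] at hw
    obtain ⟨hJ, hL⟩ := dBord C.rgd (C.hirr hC) (by omega) C.gen (C.hnt hC) hD hIo (by rw [hdim]; nlinarith) hw
    obtain ⟨σ, θ, -⟩ := C.ident hC (ψ := mt (E (plusForm (d + 2) K))) (o := (0 : Fin (d + 2)))
      (span_E hG (by rw [Fintype.card_sum, Fintype.card_fin]; omega))
      (natAt_D hA (by omega) rfl (TypeD.M d).toCoxeterSystem)
      (fixD (by omega) rfl (TypeD.M d).toCoxeterSystem) (surjD hA rfl) hR hJ hD hL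
    have h1 := θ.finrank_eq
    rw [hdim, Module.finrank_fintype_fun_eq_card, Fintype.card_sum, Fintype.card_fin] at h1
    have h2 : 1 * (2 * d + 2) ≤ j * (2 * d + 2) := Nat.mul_le_mul_right _ hj1
    omega

/-- **The row.** -/
theorem boxDp : BoxDp := fun _ _ p _ _ _ _ _ _ _ _ _ _ h _ hl hm => ⟨fun e => row (p := p) h hl hm e⟩

end Cfsg.Agent.SM.Ti.Dp
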