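import Cfsg.Agent.SM.Ti.Big

/-!
# S3570, tight cores in the defining characteristic: the boxes (helper69, `notes/SM/ti.md`)

`Tc m P`, `Soc P` of Lie type over `K`.  The borderline case is `|F| ^ m = |K| ^ h`, `h` the largest degree.

* `BoxA`, `BoxC`, `BoxB`, `BoxDp`, `BoxDm`, `BoxU`, `BoxG`, `BoxF`, `BoxE`, `BoxT`, `BoxS` : the families.
-/

set_option autoImplicit false

namespace Cfsg.Agent.SM.Ti

open Cfsg Cfsg.Geo Matrix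
open Cfsg.Agent.H915.LD

/-- a property of all tight cores, with a second field of the same characteristic -/
def AllTc (R : ∀ (n _m _p : ℕ) (F : Type) [Field F] [Finite F] (K : Type) [Field K] [Fintype K],
    Subgroup (GL (Fin n) F) → Prop) : Prop :=
  ∀ (n m p : ℕ) [Fact p.Prime] (F : Type) [Field F] [Finite F] [CharP F p] (K : Type) [Field K] [Fintype K] [CharP K p]
    (P : Subgroup (GL (Fin n) F)), Tc m P → R n m p F K P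

/-- [Ti-A] -/
def BoxA : Prop := AllTc fun _ m _ F _ _ K _ _ P => ∀ N : ℕ, 2 ≤ N → (N = 2 → 4 ≤ Fintype.card K) →
  Nat.card F ^ m = Fintype.card K ^ N → IsEmpty (Soc P ≃* ProjectiveSpecialLinearGroup (Fin N) K)

/-- [Ti-C] -/
def BoxC : Prop := AllTc fun n m p F _ _ K _ _ P => ∀ l : ℕ, 2 ≤ l → (l = 2 → 3 ≤ Fintype.card K) →
  Nat.card F ^ m = Fintype.card K ^ (2 * l) → Nonempty (Soc P ≃* PSp l K) →
  Fintype.card K = Nat.card F ∧ ((l = 3 ∧ n = 13) ∨ (l = 4 ∧ n = 16 ∧ p = 2 ∧ (FixA P → FixQ P)))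

/-- [Ti-B] -/
def BoxB : Prop := AllTc fun n m _ F _ _ K _ _ P => ∀ l : ℕ, 3 ≤ l → Odd (Fintype.card K) →
  Nat.card F ^ m = Fintype.card K ^ (2 * l) → Nonempty (Soc P ≃* POmega K (quadFormOdd l K)) →
  Fintype.card K = Nat.card F ∧ l = 4 ∧ n = 16

/-- [Ti-Dp] -/
def BoxDp : Prop := AllTc fun _ m _ F _ _ K _ _ P => ∀ l : ℕ, 4 ≤ l →
  Nat.card F ^ m = Fintype.card K ^ (2 * l - 2) → IsEmpty (Soc P ≃* POmega K (quadFormPlus l K))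

/-- [Ti-Dm] -/
def BoxDm : Prop := AllTc fun _ m _ F _ _ K _ _ P => ∀ (l : ℕ) (a b : K), 4 ≤ l →
  (∀ z₁ z₂ : K, z₁ ^ 2 + a * z₁ * z₂ + b * z₂ ^ 2 = 0 → z₁ = 0 ∧ z₂ = 0) →
  Nat.card F ^ m = Fintype.card K ^ (2 * l) → IsEmpty (Soc P ≃* POmega K (quadFormMinus (l - 1) K a b))

/-- [Ti-U] -/
def BoxU : Prop := AllTc fun _ m _ F _ _ K _ _ P => ∀ N q : ℕ, Fintype.card K = q ^ 2 → 3 ≤ N → ¬ (N = 3 ∧ q = 2) →
  Nat.card F ^ m = Fintype.card K ^ (2 * ((N - 1) / 2) + 1) → IsEmpty (Soc P ≃* PSU N K q)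

/-- [Ti-G] -/
def BoxG : Prop := AllTc fun _ m _ F _ _ K _ _ P => 3 ≤ Fintype.card K →
  Nat.card F ^ m = Fintype.card K ^ 6 → IsEmpty (Soc P ≃* Lie.chevG2.group K)

/-- [Ti-F] -/
def BoxF : Prop := AllTc fun n m _ F _ _ K _ _ P =>
  Nat.card F ^ m = Fintype.card K ^ 12 → Nonempty (Soc P ≃* Lie.chevF4.group K) → Fintype.card K = Nat.card F ∧ n = 25

/-- [Ti-E] -/
def BoxE : Prop := AllTc fun _ m _ F _ _ K _ _ P =>
  (Nat.card F ^ m = Fintype.card K ^ 12 → IsEmpty (Soc P ≃* Lie.chevE6.group K)) ∧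
  (Nat.card F ^ m = Fintype.card K ^ 18 → IsEmpty (Soc P ≃* Lie.chevE7.group K)) ∧
  (Nat.card F ^ m = Fintype.card K ^ 30 → IsEmpty (Soc P ≃* Lie.chevE8.group K))

/-- [Ti-T] -/
def BoxT : Prop := AllTc fun _ m _ F _ _ K _ _ P => ∀ q : ℕ, IsPrimePow q →
  (Fintype.card K = q ^ 2 → Nat.card F ^ m = Fintype.card K ^ 9 → IsEmpty (Soc P ≃* Lie.twistedE6 K q)) ∧
  (Fintype.card K = q ^ 3 → Nat.card F ^ m = Fintype.card K ^ 4 → IsEmpty (Soc P ≃* Lie.twistedD4 K q))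

/-- [Ti-S] -/
def BoxS : Prop := AllTc fun _ m p F _ _ K _ _ P => ∀ l : ℕ, 1 ≤ l → Fintype.card K = p ^ (2 * l + 1) →
  (p = 2 → Nat.card F ^ m = Fintype.card K ^ 4 → IsEmpty (Soc P ≃* Lie.Sz K (2 ^ (l + 1)))) ∧
  (p = 3 → Nat.card F ^ m = Fintype.card K ^ 6 → IsEmpty (Soc P ≃* Lie.twistedG2 K (3 ^ l))) ∧
  (p = 2 → Nat.card F ^ m = Fintype.card K ^ 12 → IsEmpty (Soc P ≃* Lie.twistedF4 K (2 ^ l)))

end Cfsg.Agent.SM.Ti
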