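import Cfsg.Agent.SM.Ti.Rows
import Cfsg.Agent.H744.Ppd.G2Dim
import Cfsg.Agent.H115.HC.TwoGTwo

/-!
# S3570, tight cores: the row `G₂` (helper30)

* `fourteen_full` : simple modules of `G₂(K)` with highest weight moved by both simple reflections have dimension at
  least 14 (the argument of `H927.G2.thirteen_full`, doubled by the longest element of the Weyl group);
* **`boxG`**.
-/

set_option autoImplicit false
set_option linter.unusedSectionVars false
set_option linter.style.haveILetI false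
set_option linter.unusedSimpArgs false
set_option maxHeartbeats 200000

namespace Cfsg.Agent.SM.Ti.G

section full

open Cfsg.Agent.H927.LD Cfsg.Agent.H927.G2
open Module Cfsg.Lie

variable {K : Type} [Field K] [Finite K]

/-- the longest element -/
noncomputable def g0 (K : Type) [Field K] : GK K :=
  n2 K 1 * (n2 K 0 * (n2 K 1 * (n2 K 0 * (n2 K 1 * n2 K 0))))

theorem a8_g0 (x : Fin 8 → K) : a8 K (g0 K) x = ![x 7, -x 4, -x 5, -x 6, -x 1, -x 2, -x 3, x 0] := by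
  simp only [g0, a8_mul, a8_n0, a8_n1]
  ext i
  fin_cases i <;> simp

theorem a8_g0_inv (x : Fin 8 → K) : a8 K (g0 K)⁻¹ x = a8 K (g0 K) x := by
  have h : a8 K (g0 K) (a8 K (g0 K) x) = x := by
    rw [a8_g0, a8_g0]
    ext i
    fin_cases i <;> simp
  conv_lhs => rw [← h, ← a8_mul, inv_mul_cancel, map_one]
  rfl

theorem a8_E (a : Fin 12) : a8 K (g0 K) (E8 K (iw a)) = -E8 K (iw (a + 6)) := by
  rw [a8_g0]
  ext i
  fin_cases a <;> fin_cases i <;> simp [E8, iw]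

theorem a8_L (a : Fin 12) (x : Fin 8 → K) : a8 K (g0 K) x (iw a) = -x (iw (a + 6)) := by
  rw [a8_g0]
  fin_cases a <;> simp [iw]

theorem a14_e (a : Fin 12) : a14 K (g0 K) (e (rw_ a)) = -e (rw_ (a + 6)) := by
  have h : ∀ r : Fin 12, r = 11 ∨ r = 10 ∨ r = 6 ∨ r = 5 ∨ r = 1 ∨ r = 0 →
      a14 K (g0 K) (e (rv r)) = -e (rv (11 - r)) := by
    rintro r (rfl | rfl | rfl | rfl | rfl | rfl) <;>
    · simp only [g0, a14_mul, map_smul, NC0_11, NC0_10, NC0_5, NC0_0, NC0_1, NC0_6, NC1_11, NC1_10, NC1_5, NC1_0,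
        NC1_1, NC1_6, one_smul, neg_smul, neg_neg, map_neg]
      rfl
  fin_cases a
  exacts [h 11 (by simp), h 11 (by simp), h 10 (by simp), h 6 (by simp), h 5 (by simp), h 1 (by simp), h 0 (by simp),
    h 0 (by simp), h 1 (by simp), h 5 (by simp), h 6 (by simp), h 10 (by simp)]

theorem a14_e_inv (a : Fin 12) : a14 K (g0 K)⁻¹ (e (rw_ a)) = -e (rw_ (a + 6)) := by
  have h := a14_e (K := K) (a + 6)
  rw [add_assoc, show (6 + 6 : Fin 12) = 0 from rfl, add_zero, eq_comm, neg_eq_iff_eq_neg] at h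
  rw [h, map_neg, ← a14_mul, inv_mul_cancel, map_one]
  rfl

theorem a14_l (a : Fin 12) (y : chevG2.Idx → K) : a14 K (g0 K) y (rw_ a) = -y (rw_ (a + 6)) := by
  have t : ∀ {r s : chevG2.Idx} {g : GK K} {c : K}, l r ∘ₗ a14 K g = c • l s → ∀ y, a14 K g y r = c * y s :=
    fun h y => LinearMap.congr_fun h y
  have h : ∀ r : Fin 12, r = 11 ∨ r = 10 ∨ r = 6 ∨ r = 5 ∨ r = 1 ∨ r = 0 →
      a14 K (g0 K) y (rv r) = -y (rv (11 - r)) := by
    rintro r (rfl | rfl | rfl | rfl | rfl | rfl) <;>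
    · simp only [g0, a14_mul, t NR0_11, t NR0_10, t NR0_5, t NR0_0, t NR0_1, t NR0_6, t NR1_11, t NR1_10, t NR1_5,
        t NR1_0, t NR1_1, t NR1_6, one_mul, neg_mul, neg_neg]
      rfl
  fin_cases a
  exacts [h 11 (by simp), h 11 (by simp), h 10 (by simp), h 6 (by simp), h 5 (by simp), h 1 (by simp), h 0 (by simp),
    h 0 (by simp), h 1 (by simp), h 5 (by simp), h 6 (by simp), h 10 (by simp)]

theorem opp0 {s : Fin 8} (hs : s = 2 ∨ s = 4 ∨ s = 5) {z : Fin 8 → K} (hz : ∀ i, i ≠ 6 → i ≠ s → z i = 0) :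
    a8 K (g0 K) z 6 = 0 ∧ a8 K (g0 K) z s = 0 := by
  rw [a8_g0]
  rcases hs with rfl | rfl | rfl
  · exact ⟨neg_eq_zero.2 (hz 3 (by decide) (by decide)), neg_eq_zero.2 (hz 5 (by decide) (by decide))⟩
  · exact ⟨neg_eq_zero.2 (hz 3 (by decide) (by decide)), neg_eq_zero.2 (hz 1 (by decide) (by decide))⟩
  · exact ⟨neg_eq_zero.2 (hz 3 (by decide) (by decide)), neg_eq_zero.2 (hz 2 (by decide) (by decide))⟩

variable {k V : Type*} [Field k] [AddCommGroup V] [Module k V] [FiniteDimensional k V]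
  {Fa Fb : K →*₀ k} {ρ : GK K →* Module.End k V} {φ₀ : Dual k V} {v₀ : V}

/-- **the identity** -/
theorem ident (hb : Col2 Fa Fb ρ φ₀ (e8 K) (e14 K) v₀) (hn : ¬ 14 ≤ finrank k V)
    {x : Fin 8 → K} {y : chevG2.Idx → K} {u : V} (hu : Col2 Fa Fb ρ φ₀ x y u)
    {ℓ : (Fin 8 → K) →ₗ[K] K} {m : (chevG2.Idx → K) →ₗ[K] K} {ψ : Dual k V} (hψ : Row2 Fa Fb ρ φ₀ ℓ m ψ)
    (s : Fin 8) (hs : s = 2 ∨ s = 4 ∨ s = 5) (hl : ∀ z : Fin 8 → K, z 6 = 0 → z s = 0 → ℓ z = 0)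
    (hx : ∀ i, i ≠ 6 → i ≠ s → x i = 0) :
    Fa (ℓ x) * Fb (m y) = ∑ a, Fa (ℓ (E8 K (iw a)) * x (iw a)) * Fb (m (e (rw_ a)) * y (rw_ a)) := by
  by_contra hne
  apply hn
  have hc : ∀ a, ∃ v : V, Col2 Fa Fb ρ φ₀ (E8 K (iw a)) (e (rw_ a)) v := by
    intro a
    obtain ⟨g, c, d, h0, h1, h2, h3⟩ := FC_all (K := K) a
    have h4 := (hb.move g).smul c⁻¹ d⁻¹
    rw [h2, h3, smul_smul, smul_smul, inv_mul_cancel₀ h0, inv_mul_cancel₀ h1, one_smul, one_smul] at h4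
    exact ⟨_, h4⟩
  have hr : ∀ a, ∃ ψ : Dual k V, Row2 Fa Fb ρ φ₀ (L8 K (iw a)) (l (rw_ a)) ψ := by
    intro a
    obtain ⟨g, c, d, h0, h1, h2, h3⟩ := FR_all (K := K) a
    have h4 := ((Row2.base (Fa := Fa) (Fb := Fb) (ρ := ρ) (φ₀ := φ₀)).comp g).smul c⁻¹ d⁻¹
    rw [h2, h3, smul_smul, smul_smul, inv_mul_cancel₀ h0, inv_mul_cancel₀ h1, one_smul, one_smul] at h4
    exact ⟨_, h4⟩
  choose v hv using hc
  choose φ hφ using hr
  have sm : ∀ {x y u ℓ m ψ}, Col2 Fa Fb ρ φ₀ x y u → Row2 Fa Fb ρ φ₀ ℓ m ψ → ∑ a, ψ (v a) * φ a u =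
      ∑ a, Fa (ℓ (E8 K (iw a)) * x (iw a)) * Fb (m (e (rw_ a)) * y (rw_ a)) := by
    intro x y u ℓ m ψ hu hψ
    refine Finset.sum_congr rfl fun a _ => ?_
    rw [hψ _ _ _ (hv a), hφ a _ _ _ hu, map_mul, map_mul]
    change _ * (Fa (x (iw a)) * Fb (y (rw_ a))) = _
    ring
  have hu' := hu.move (g0 K)
  have hψ' := hψ.comp (g0 K)⁻¹
  have hx' := opp0 hs hx
  have h := schur_le (α := Fin 12) (β := Bool) v (fun b => cond b u (ρ (g0 K) u)) φ
    (fun b => cond b ψ (ψ ∘ₗ ρ (g0 K)⁻¹)) (fun a b => by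
    rw [hφ a _ _ _ (hv b), L8_E8, l_e]
    by_cases hab : a = b
    · subst hab
      rw [if_pos rfl, if_pos rfl, if_pos rfl, map_one, map_one, one_mul]
    · rw [if_neg hab]
      by_cases h1 : iw a = iw b
      · have h2 : rw_ a ≠ rw_ b := fun h => hab (flag_inj a b h1 h)
        rw [if_neg h2, map_zero, mul_zero]
      · rw [if_neg h1, map_zero, zero_mul]) (by
    rintro (_ | _) (_ | _) h
    · exact absurd rfl h
    · simp only [cond_true, cond_false]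
      rw [sm hu hψ', hψ' _ _ _ hu, LinearMap.comp_apply, a8_g0_inv, hl _ hx'.1 hx'.2, map_zero, zero_mul]
      refine (Finset.sum_eq_zero fun a _ => ?_).symm
      by_cases h1 : iw a ≠ 6 ∧ iw a ≠ s
      · rw [hx _ h1.1 h1.2, mul_zero, map_zero, zero_mul]
      · have h2 := opp0 hs (z := E8 K (iw a)) fun i h3 h4 =>
          Pi.single_eq_of_ne (fun h5 : i = iw a => h1 (by rw [← h5]; exact ⟨h3, h4⟩)) _
        rw [LinearMap.comp_apply, a8_g0_inv, hl _ h2.1 h2.2, zero_mul, map_zero, zero_mul]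
    · simp only [cond_true, cond_false]
      rw [sm hu' hψ, hψ _ _ _ hu', hl _ hx'.1 hx'.2, map_zero, zero_mul]
      refine (Finset.sum_eq_zero fun a _ => ?_).symm
      by_cases h1 : iw a = 6
      · rw [h1, hx'.1, mul_zero, map_zero, zero_mul]
      by_cases h2 : iw a = s
      · rw [h2, hx'.2, mul_zero, map_zero, zero_mul]
      · rw [hl (E8 K (iw a)) (Pi.single_eq_of_ne (Ne.symm h1) _) (Pi.single_eq_of_ne (Ne.symm h2) _), zero_mul,
          map_zero, zero_mul]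
    · exact absurd rfl h) (by
    rintro (_ | _)
    · simp only [cond_false]
      rw [sm hu' hψ', hψ' _ _ _ hu', LinearMap.comp_apply, LinearMap.comp_apply, ← a8_mul, ← a14_mul, inv_mul_cancel,
        map_one, map_one]
      intro h
      apply hne
      refine h.trans ((Finset.sum_congr rfl fun a _ => ?_).trans (Equiv.sum_comp (Equiv.addRight (6 : Fin 12))
        fun a => Fa (ℓ (E8 K (iw a)) * x (iw a)) * Fb (m (e (rw_ a)) * y (rw_ a))))
      rw [LinearMap.comp_apply, LinearMap.comp_apply, a8_g0_inv, a8_E, a8_L, a14_e_inv, a14_l, map_neg, map_neg,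
        neg_mul_neg, neg_mul_neg]
      rfl
    · simp only [cond_true]
      rw [sm hu hψ, hψ _ _ _ hu]
      exact hne)
  simpa using h

/-- the sum with two terms -/
theorem ident_two (hb : Col2 Fa Fb ρ φ₀ (e8 K) (e14 K) v₀) (hn : ¬ 14 ≤ finrank k V)
    {x : Fin 8 → K} {y : chevG2.Idx → K} {u : V} (hu : Col2 Fa Fb ρ φ₀ x y u)
    {ℓ : (Fin 8 → K) →ₗ[K] K} {m : (chevG2.Idx → K) →ₗ[K] K} {ψ : Dual k V} (hψ : Row2 Fa Fb ρ φ₀ ℓ m ψ)
    (s : Fin 8) (hs : s = 2 ∨ s = 4 ∨ s = 5) (hl : ∀ z : Fin 8 → K, z 6 = 0 → z s = 0 → ℓ z = 0)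
    (hx : ∀ i, i ≠ 6 → i ≠ s → x i = 0) (j : Fin 12)
    (hj : j ≠ 0) (h0 : ∀ a, a ≠ 0 → a ≠ j → x (iw a) = 0 ∨ m (e (rw_ a)) = 0) :
    Fa (ℓ x) * Fb (m y) = Fa (ℓ (E8 K 6) * x 6) * Fb (m (e (rv 11)) * y (rv 11)) +
      Fa (ℓ (E8 K (iw j)) * x (iw j)) * Fb (m (e (rw_ j)) * y (rw_ j)) := by
  rw [ident hb hn hu hψ s hs hl hx, Finset.sum_eq_add (0 : Fin 12) j hj.symm]
  · rfl
  · rintro a _ ⟨h1, h2⟩
    rcases h0 a h1 h2 with h | h
    · rw [h, mul_zero, map_zero, zero_mul]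
    · rw [h, zero_mul, map_zero, mul_zero]
  · intro h
    exact absurd (Finset.mem_univ _) h
  · intro h
    exact absurd (Finset.mem_univ _) h

theorem add_a (hb : Col2 Fa Fb ρ φ₀ (e8 K) (e14 K) v₀) (hn : ¬ 14 ≤ finrank k V) (c : K) : Fa (1 + c) = 1 + Fa c := by
  have hu := col2_of hb (xg 4 c) (x := E8 K 6 - c • E8 K 2) (y := e (rv 11)) (by
    rw [a8_4]; ext i; fin_cases i <;> simp [e8, E8]) (a14_pos (by norm_num) (by norm_num) c)
  have hr := row2_of (Fa := Fa) (Fb := Fb) (ρ := ρ) (φ₀ := φ₀) (xg 7 1) (ℓ := L8 K 6 - L8 K 2) (m := l (rv 11)) (by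
    refine LinearMap.ext fun x => ?_
    rw [LinearMap.comp_apply, a8_7]
    simp [l8, L8]
    try ring) (LinearMap.ext fun x => a14_neg (by norm_num) (by norm_num) 1 x)
  have h := ident_two hb hn hu hr 2 (by decide) (fun z h1 h2 => by simp [L8, h1, h2]) (fun i h1 h2 => by simp [E8, h1, h2]) 1 (by decide) (by
    intro a h1 h2
    have h3 : ∀ a : Fin 12, a ≠ 0 → a ≠ 1 → (iw a ≠ 6 ∧ iw a ≠ 2) ∨ rv 11 ≠ rw_ a := by decide +kernel
    rcases h3 a h1 h2 with ⟨h4, h5⟩ | h4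
    · left
      simp [E8, h4, h5]
    · right
      rw [l_e, if_neg h4])
  simp only [LinearMap.sub_apply, map_sub, map_smul, L8_E8, l_e] at h
  simp [E8, iw, rw_, e] at h
  exact h

theorem add_b (hb : Col2 Fa Fb ρ φ₀ (e8 K) (e14 K) v₀) (hn : ¬ 14 ≤ finrank k V) (c : K) : Fb (1 + c) = 1 + Fb c := by
  have hu := col2_of hb (xg 5 c) (x := E8 K 6) (y := e (rv 11) + c • e (rv 10)) (a8_pos (by norm_num) (by norm_num) c) (by
    unfold e14
    rw [C_5_11]; module)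
  have hr := row2_of (Fa := Fa) (Fb := Fb) (ρ := ρ) (φ₀ := φ₀) (xg 6 1) (ℓ := L8 K 6) (m := l (rv 11) + l (rv 10))
    (LinearMap.ext fun x => a8_neg (by norm_num) 1 x) (by
    refine LinearMap.ext fun x => ?_
    rw [LinearMap.comp_apply]
    unfold l14
    rw [R_6_11, LinearMap.add_apply]
    ring)
  have h := ident_two hb hn hu hr 2 (by decide) (fun z h1 _ => by simp [L8, h1]) (fun i h1 _ => by simp [E8, h1]) 11 (by decide) (by
    intro a h1 h2
    have h3 : ∀ a : Fin 12, a ≠ 0 → a ≠ 11 → (iw a ≠ 6) ∨ (rv 11 ≠ rw_ a ∧ rv 10 ≠ rw_ a) := by decide +kernel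
    rcases h3 a h1 h2 with h4 | ⟨h4, h5⟩
    · left
      simp [E8, h4]
    · right
      rw [LinearMap.add_apply, l_e, l_e, if_neg h4, if_neg h5, add_zero])
  have hne : (rv 11 : chevG2.Idx) ≠ rv 10 := by decide +kernel
  simp only [LinearMap.add_apply, map_add, map_smul, L8_E8, l_e, if_neg hne, if_neg hne.symm, if_true, smul_zero, smul_eq_mul,
    mul_one, add_zero, zero_add] at h
  simp [E8, iw, rw_, e, hne, hne.symm] at h
  exact h

theorem add_ab (hb : Col2 Fa Fb ρ φ₀ (e8 K) (e14 K) v₀) (hn : ¬ 14 ≤ finrank k V) (c : K) :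
    Fa (1 + c) * Fb (1 + c) = 1 + Fa c * Fb c := by
  have hu := col2_of hb (xg 1 c) (x := E8 K 6 + c • E8 K 4) (y := e (rv 11) - c • e (rv 6)) (by
    rw [a8_1]; ext i; fin_cases i <;> simp [e8, E8]) (by
    unfold e14
    rw [C_1_11]; module)
  have hr := row2_of (Fa := Fa) (Fb := Fb) (ρ := ρ) (φ₀ := φ₀) (xg 10 1) (ℓ := L8 K 6 + L8 K 4) (m := l (rv 11) - l (rv 6)) (by
    refine LinearMap.ext fun x => ?_
    rw [LinearMap.comp_apply, a8_10]
    simp [l8, L8]) (by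
    refine LinearMap.ext fun x => ?_
    rw [LinearMap.comp_apply]
    unfold l14
    rw [R_10_11, LinearMap.sub_apply]
    ring)
  have h := ident_two hb hn hu hr 4 (by decide) (fun z h1 h2 => by simp [L8, h1, h2]) (fun i h1 h2 => by simp [E8, h1, h2]) 3 (by decide) (by
    intro a h1 h2
    have h3 : ∀ a : Fin 12, a ≠ 0 → a ≠ 3 → (iw a ≠ 6 ∧ iw a ≠ 4) ∨ (rv 11 ≠ rw_ a ∧ rv 6 ≠ rw_ a) := by decide +kernel
    rcases h3 a h1 h2 with ⟨h4, h5⟩ | ⟨h4, h5⟩
    · left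
      simp [E8, h4, h5]
    · right
      rw [LinearMap.sub_apply, l_e, l_e, if_neg h4, if_neg h5, sub_zero])
  have hne : (rv 11 : chevG2.Idx) ≠ rv 6 := by decide +kernel
  simp only [LinearMap.add_apply, LinearMap.sub_apply, map_add, map_sub, map_smul, L8_E8, l_e, if_neg hne, if_neg hne.symm,
    if_true, smul_zero, smul_eq_mul, mul_one, add_zero, zero_add] at h
  simp [E8, iw, rw_, e, hne, hne.symm] at h
  exact h

theorem add_abb (hb : Col2 Fa Fb ρ φ₀ (e8 K) (e14 K) v₀) (hn : ¬ 14 ≤ finrank k V) (c : K) :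
    Fa (1 + c) * Fb (1 + c) ^ 2 = 1 + Fa c * Fb c ^ 2 := by
  have hu := col2_of hb (xg 0 c) (x := E8 K 6 + c • E8 K 5) (y := e (rv 11) - c • e (hv 0) - (2 * c) • e (hv 1) - c ^ 2 • e (rv 0)) (by
    rw [a8_0]; ext i; fin_cases i <;> simp [e8, E8]) (by
    unfold e14
    rw [C_0_11]; module)
  have hr := row2_of (Fa := Fa) (Fb := Fb) (ρ := ρ) (φ₀ := φ₀) (xg 11 1) (ℓ := L8 K 6 + L8 K 5)
    (m := l (rv 11) - l (hv 1) - l (rv 0)) (by
    refine LinearMap.ext fun x => ?_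
    rw [LinearMap.comp_apply, a8_11]
    simp [l8, L8]) (by
    refine LinearMap.ext fun x => ?_
    rw [LinearMap.comp_apply]
    unfold l14
    rw [R_11_11, LinearMap.sub_apply, LinearMap.sub_apply]
    ring)
  have h := ident_two hb hn hu hr 5 (by decide) (fun z h1 h2 => by simp [L8, h1, h2]) (fun i h1 h2 => by simp [E8, h1, h2]) 7 (by decide) (by
    intro a h1 h2
    have h3 : ∀ a : Fin 12, a ≠ 0 → a ≠ 7 → (iw a ≠ 6 ∧ iw a ≠ 5) ∨ (rv 11 ≠ rw_ a ∧ hv 1 ≠ rw_ a ∧ rv 0 ≠ rw_ a) := by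
      decide +kernel
    rcases h3 a h1 h2 with ⟨h4, h5⟩ | ⟨h4, h5, h6⟩
    · left
      simp [E8, h4, h5]
    · right
      rw [LinearMap.sub_apply, LinearMap.sub_apply, l_e, l_e, l_e, if_neg h4, if_neg h5, if_neg h6, sub_zero, sub_zero])
  have h1 : (rv 11 : chevG2.Idx) ≠ rv 0 := by decide +kernel
  have h2 : (rv 11 : chevG2.Idx) ≠ hv 0 := by decide +kernel
  have h3 : (rv 11 : chevG2.Idx) ≠ hv 1 := by decide +kernel
  have h4 : (rv 0 : chevG2.Idx) ≠ hv 0 := by decide +kernel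
  have h5 : (rv 0 : chevG2.Idx) ≠ hv 1 := by decide +kernel
  have h6 : (hv 0 : chevG2.Idx) ≠ hv 1 := by decide +kernel
  simp only [LinearMap.add_apply, LinearMap.sub_apply, map_add, map_sub, map_smul, L8_E8, l_e, if_neg h1, if_neg h1.symm,
    if_neg h2, if_neg h2.symm, if_neg h3, if_neg h3.symm, if_neg h4, if_neg h4.symm, if_neg h5, if_neg h5.symm, if_neg h6,
    if_neg h6.symm, if_true, smul_zero, smul_eq_mul, mul_one, add_zero, zero_add] at h
  simp [E8, iw, rw_, e, h1, h1.symm, h2, h2.symm, h3, h3.symm, h4, h4.symm, h5, h5.symm] at h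
  rw [← map_pow, show (1 + c) ^ 2 = 1 + 2 * c + c ^ 2 by ring]
  exact h

/-- **both reflections move the highest weight** -/
theorem fourteen_full (hb : Col2 Fa Fb ρ φ₀ (e8 K) (e14 K) v₀) {c : K} (h0 : c ≠ 0) (h1 : c ≠ 1) : 14 ≤ finrank k V := by
  by_contra hn
  have A := add_a hb hn
  have B := add_b hb hn
  have AB := add_ab hb hn
  have ABB := add_abb hb hn
  have e1 : ∀ c, Fa c + Fb c = 0 := by
    intro c
    have h := AB c
    rw [A, B] at h
    linear_combination h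
  have e2 : (2 : k) = 0 := by
    have h := e1 1
    rw [map_one, map_one] at h
    linear_combination h
  have e3 : (1 + 1 : K) = 0 := by
    have h := A 1
    rw [map_one] at h
    have h' : Fa (1 + 1) = 0 := by rw [h]; linear_combination e2
    exact (map_eq_zero Fa).1 h'
  have e4 : Fa c * (1 + Fa c) = 0 := by
    have h := ABB c
    rw [A, B] at h
    have h5 : Fb c = Fa c := by linear_combination e1 c - Fa c * e2
    rw [h5] at h
    linear_combination h - (Fa c + Fa c ^ 2) * e2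
  rcases mul_eq_zero.1 e4 with h | h
  · exact h0 ((map_eq_zero Fa).1 h)
  · rw [← A] at h
    have h5 : 1 + c = 0 := (map_eq_zero Fa).1 h
    apply h1
    linear_combination h5 - e3

end full

section row

open Cfsg Cfsg.Geo Cfsg.Lie
open Cfsg.Agent.H911 (lin)
open CoxeterSystem Cfsg.Agent.ChevalleyStructure.CoxeterGeom Cfsg.Agent.Tits.Roots Cfsg.Agent.Tits.Core
  Cfsg.Agent.Tits.Exchange Cfsg.Agent.Nodes.Reps Cfsg.Agent.Nodes.BNOf Cfsg.Agent.Nodes.StabComb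
  Cfsg.Agent.Nodes.Bruhat Cfsg.Agent.Nodes.OppDec Cfsg.Agent.Nodes.LeviDec Cfsg.Agent.KFacts.RgdOpp
  Cfsg.Agent.Omega.CR Cfsg.Agent.Omega.FOne.Lift.Sd Cfsg.Agent.H905.Md Cfsg.Agent.H650.Ppd
open Cfsg.Agent.H927.G2 (cs2 hc2 T2 n2 X2 rgd2 GG2 T2_comm fr_g2 exists_coef exists_two)
open Cfsg.Agent.H744.Ppd Cfsg.Agent.H744.Ppd.G2 Cfsg.Agent.H915.LD Cfsg.Agent.H100.Ppd

theorem num_one {Q q m j t : ℕ} (hQ : 1 < Q) (hj : 1 ≤ j) (hq : q = Q ^ j) (hm : Q ^ m = q ^ 6) (ht : 1 ≤ t)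
    (h : (q + 1) * (q ^ 4 + q ^ 2 + 1) = (1 + t) * th Q m) : False := by
  have h1 : Q ≤ q := hq ▸ Nat.le_self_pow (by omega) Q
  have h2 := th_mul hQ.le m
  obtain ⟨x, rfl⟩ : ∃ x, Q = x + 2 := ⟨Q - 2, by omega⟩
  obtain ⟨y, rfl⟩ : ∃ y, q = x + 2 + y := ⟨q - (x + 2), by omega⟩
  rw [hm, show x + 2 - 1 = x + 1 from rfl] at h2
  have h3 : (x + 2 + y + 1) * ((x + 2 + y) ^ 4 + (x + 2 + y) ^ 2 + 1) * (x + 1 + y) + 1 = (x + 2 + y) ^ 6 := by ring
  rw [h, ← h2, add_left_inj] at h3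
  have h4 : 0 < th (x + 2) m := by
    refine Nat.pos_of_ne_zero fun h0 => ?_
    rw [h0, mul_zero] at h
    exact absurd h (by positivity)
  have h5 : (1 + t) * (x + 1 + y) = x + 1 := Nat.eq_of_mul_eq_mul_left h4 (by linear_combination h3)
  nlinarith

/-- **Ti-G** -/
theorem boxG : BoxG := by
  intro n m p hp F _ _ _ K _ _ _ P h h3 hm
  refine ⟨fun e => ?_⟩
  have hC := h.core
  have hn := h.ge
  have hi := h.hi
  obtain ⟨f⟩ := Cfsg.Agent.H48.DsChev.g2_equiv p hC h3 e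
  have hfr := fr_g2 p hC f
  obtain ⟨aK, -, haK⟩ := FiniteField.card K p
  have hcK : Nat.card K = p ^ (aK : ℕ) := by rw [Nat.card_eq_fintype_card, haK]
  obtain ⟨j, hj1, hj⟩ := card_pow_eq p aK.ne_zero (fun x => pow_eq_of_no_subfield hC.absIrred hC.no_subfield p aK
    (fun g hg => by rw [← hcK]; exact hfr g hg) x)
  have hKF : Nat.card K = Nat.card F ^ j := by rw [hcK, hj]
  have hne : Nonempty (Fin n) := hC.nonempty
  have h2 : 2 ≤ Fintype.card (Fin n) := by rw [Fintype.card_fin]; omega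
  obtain ⟨φ, hφ⟩ : ∃ φ : chevG2.group K →* GL (Fin n) F, φ.range = P :=
    ⟨P.subtype.comp f.symm.toMonoidHom, by
      rw [MonoidHom.range_comp, MonoidHom.range_eq_top.2 f.symm.surjective, ← MonoidHom.range_eq_map,
        Subgroup.range_subtype]⟩
  have hQ : 1 < Nat.card F := Finite.one_lt_card
  rw [← Nat.card_eq_fintype_card] at hm h3
  obtain ⟨⟨s, hs, hN⟩, -⟩ := h.big (rgd2 (K := K) p) GG2 T2_comm hφ
  have one : ∀ i : Fin 2, Jx cs2 hc2 (X2 K) (lin (acRep φ)) ≠ {i} := fun i hJ => by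
    rw [hJ] at hN
    have h4 := Cfsg.Agent.H115.HC.GTwo.index_eq'' (K := K) i
    rw [← Nat.card_eq_fintype_card] at h4
    exact num_one hQ hj1 hKF hm (Nat.one_le_pow _ _ hp.out.pos) (h4.symm.trans hN)
  have h0 : (0 : Fin 2) ∉ Jx cs2 hc2 (X2 K) (lin (acRep φ)) := fun h0 => one 0 (by
    ext i
    fin_cases i
    · simpa using h0
    · simpa using (exists_node p hφ hC.absIrred h2).resolve_left (not_not.2 h0))
  have h1 : (1 : Fin 2) ∉ Jx cs2 hc2 (X2 K) (lin (acRep φ)) := fun h1 => one 1 (by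
    ext i
    fin_cases i
    · simpa using h0
    · simpa using h1)
  have hchar : CharP (AlgebraicClosure F) p := charP_of_injective_algebraMap (algebraMap F _).injective p
  have hirr := ac_irr (rgd2 (K := K) p) GG2 T2_comm hφ hC.absIrred
  have hD := finrank_D (rgd2 (K := K) p) hirr T2_comm
  have hfin : Module.finrank (AlgebraicClosure F) (Fin n → AlgebraicClosure F) = n := Module.finrank_fin_fun _
  obtain ⟨m0, hm0, h4⟩ := edge_pow_of_card (rgd2 (K := K) p) GG2 T2_comm hφ hC.absIrred (sg_nd ht cs2 p 0) h0 hKF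
  obtain ⟨m1, hm1, h5⟩ := edge_pow_of_card (rgd2 (K := K) p) GG2 T2_comm hφ hC.absIrred (sg_nd ht cs2 p 1) h1 hKF
  have h6 := ge_two (rgd2 (K := K) p) hirr h0 h1
  have h7 := finrank_Io (rgd2 (K := K) p) hirr 0
  have h8 := finrank_Io (rgd2 (K := K) p) hirr 1
  rw [hD, hfin] at h6
  rw [hD, h4] at h7
  rw [hD, h5] at h8
  have h9 := Nat.pow_le_pow_left hm0 j
  have h10 := Nat.pow_le_pow_left hm1 j
  rw [hKF, ← pow_mul] at hm
  have h11 : m = j * 6 := Nat.pow_right_injective hQ hm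
  have h12 : j = 1 := by
    by_contra hcon
    have h13 : ∀ j : ℕ, 2 ≤ j → j + 2 ≤ 2 ^ j := by
      intro j hj
      induction j, hj using Nat.le_induction with
      | base => norm_num
      | succ j hj ih => rw [pow_succ]; omega
    have := h13 j (by omega)
    omega
  obtain ⟨v, -, ψ, -, -, G, -, hG0, hc, -⟩ := exists_coef hirr p
  obtain ⟨c, hc0, hc1⟩ := exists_two h3
  have h13 := fourteen_full (Fa := { G 0 with map_zero' := hG0 0 h0 }) (Fb := { G 1 with map_zero' := hG0 1 h1 })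
    (fun g => hc g) hc0 hc1
  omega

end row

end Cfsg.Agent.SM.Ti.G
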