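import Cfsg.Agent.SM.Ti.Box
import Cfsg.Agent.H924.Reduc

/-!
# S3570, polar spaces of hermitian and alternating forms: common part (helper6)
-/

set_option autoImplicit false
set_option linter.unusedSectionVars false

namespace Cfsg.Agent.SM.Ti.HP

open Cfsg Cfsg.Geo Matrix Module
open Cfsg.Agent.H919 (HermForm)
open Cfsg.Agent.H924 (perpOf finrank_perpOf form_symm_zero)

variable {ι : Type} [Fintype ι] [DecidableEq ι] {K : Type} [Field K] [Fintype K] {σ : K ≃+* K} {ε : K}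
  {f : (ι → K) → (ι → K) → K} {Sg : (ι → K) → Prop} {G : Subgroup (GL ι K)}

/-- a `p`-group fixes a non-zero vector of an invariant subspace -/
theorem exists_fix {p : ℕ} (hp : p.Prime) (h0 : (p : K) = 0) {U : Subgroup (GL ι K)} (hU : IsPGroup p U)
    {W : Submodule K (ι → K)} (hW : W ≠ ⊥) (inv : ∀ u ∈ U, ∀ w ∈ W, ap u w ∈ W) :
    ∃ v ∈ W, v ≠ 0 ∧ ∀ u ∈ U, ap u v = v := by
  have : Fact p.Prime := ⟨hp⟩
  let act : MulAction U W :=
    { smul := fun u v => ⟨ap u v, inv u u.2 v v.2⟩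
      one_smul := fun v => Subtype.ext (ap_one _)
      mul_smul := fun a b v => Subtype.ext (ap_mul _ _ _) }
  have h1 : p ∣ Nat.card W := by
    rw [Module.natCard_eq_pow_finrank (K := K), Nat.card_eq_fintype_card]
    refine ((prime_dvd_char_iff_dvd_card p).1 (CharP.ringChar_of_prime_eq_zero hp h0).symm.dvd).trans
      (dvd_pow_self _ fun e => hW (Submodule.finrank_eq_zero.1 e))
  have h2 : (0 : W) ∈ MulAction.fixedPoints U W := fun u => Subtype.ext (mulVec_zero _)
  obtain ⟨v, hv, hv0⟩ := hU.exists_fixed_point_of_prime_dvd_card_of_fixed_point W h1 h2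
  exact ⟨v, v.2, fun e => hv0 (Subtype.ext e.symm), fun u hu => congrArg Subtype.val (hv ⟨u, hu⟩)⟩

/-- `f · d` as a linear map -/
def fn (hf : HermForm σ ε f) (d : ι → K) : (ι → K) →ₗ[K] K where
  toFun x := f x d
  map_add' x y := hf.add_left x y d
  map_smul' c x := hf.smul_left c x d

theorem ext_fam (hf : HermForm σ ε f) {X κ : Type} [AddCommGroup X] [Module K X] (b : Basis κ K X)
    (φ ψ : X →ₗ[K] (ι → K)) (h : ∀ i j, f (φ (b i)) (φ (b j)) = f (ψ (b i)) (ψ (b j))) (x y : X) :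
    f (φ x) (φ y) = f (ψ x) (ψ y) := by
  have h1 : ∀ y, (∀ i, f (φ (b i)) (φ y) = f (ψ (b i)) (ψ y)) → ∀ x, f (φ x) (φ y) = f (ψ x) (ψ y) := fun y k x =>
    LinearMap.congr_fun (b.ext k : (fn hf (φ y)).comp φ = (fn hf (ψ y)).comp ψ) x
  exact h1 y (fun i => by rw [hf.herm, h1 (b i) (fun j => h j i) y, ← hf.herm]) x

/-- Witt's lemma for subspaces -/
def WtS (f : (ι → K) → (ι → K) → K) : Prop :=
  ∀ (X Y : Submodule K (ι → K)) (φ : X ≃ₗ[K] Y), (∀ x x' : X, f (φ x) (φ x') = f x x') →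
    ∃ g : (ι → K) ≃ₗ[K] (ι → K), (∀ u v, f (g u) (g v) = f u v) ∧ ∀ x : X, g x = φ x

/-- Witt's lemma for short independent families, inside `G` -/
def Wt (f : (ι → K) → (ι → K) → K) (G : Subgroup (GL ι K)) : Prop :=
  ∀ (k : ℕ) (v w : Fin k → ι → K), k ≤ 2 → LinearIndependent K v → LinearIndependent K w →
    (∀ i j, f (v i) (v j) = f (w i) (w j)) → ∃ g ∈ G, ∀ i, ap g (v i) = w i

theorem wt_of (hf : HermForm σ ε f) (h : WtS f) : Wt f (preserving (Units.coeHom (Matrix ι ι K)) f) := by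
  intro k v w _ hv hw e
  let φ := (Basis.span hv).equiv (Basis.span hw) (Equiv.refl _)
  have h1 : ∀ i, (φ (Basis.span hv i) : ι → K) = w i := fun i => by
    rw [Basis.equiv_apply, Equiv.refl_apply, Basis.span_apply]
  obtain ⟨g, hg, h2⟩ := h _ _ φ (ext_fam hf (Basis.span hv) ((Submodule.subtype _).comp φ.toLinearMap)
    (Submodule.subtype _) fun i j => by
      show f (φ (Basis.span hv i) : ι → K) (φ (Basis.span hv j) : ι → K) = f (Basis.span hv i : ι → K) (Basis.span hv j : ι → K)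
      rw [h1, h1, Basis.span_apply, Basis.span_apply, e])
  let x : GL ι K := ⟨LinearMap.toMatrix' g.toLinearMap, LinearMap.toMatrix' g.symm.toLinearMap,
    by rw [← LinearMap.toMatrix'_comp, LinearEquiv.comp_symm, LinearMap.toMatrix'_id],
    by rw [← LinearMap.toMatrix'_comp, LinearEquiv.symm_comp, LinearMap.toMatrix'_id]⟩
  have h3 : ∀ u, ap x u = g u := fun u => LinearMap.toMatrix'_mulVec _ u
  refine ⟨x, fun u u' => ?_, fun i => ?_⟩
  · exact (congrArg₂ f (h3 u) (h3 u')).trans (hg u u')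
  · rw [h3, ← h1, ← h2, Basis.span_apply]

theorem pol_of (hf : HermForm σ ε f) (hs : ∀ x, Sg x ↔ f x x = 0)
    (hp : ∀ x, f x x = 0 → x ≠ 0 → ∃ y, f y y = 0 ∧ f y x ≠ 0) (hG : G ≤ preserving (Units.coeHom (Matrix ι ι K)) f)
    (hW : Wt f G) : Pol f Sg G where
  add := hf.add_left
  smul := hf.smul_left
  refl _ _ := (form_symm_zero hf).1
  sg_smul c x hx := (hs _).2 (by rw [hf.smul_left, hf.smul_right, (hs x).1 hx, mul_zero, mul_zero])
  sg_self x := (hs x).1
  partner x hx h0 := (hp x ((hs x).1 hx) h0).imp fun y hy => ⟨(hs y).2 hy.1, hy.2⟩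
  fix g hg := hG hg
  sg g hg x hx := (hs _).2 ((hG hg x x).trans ((hs x).1 hx))
  witt1 x y hx hy h0 h1 := by
    obtain ⟨g, hg, e⟩ := hW 1 (fun _ => x) (fun _ => y) one_le_two (linearIndependent_unique_iff.2 h0)
      (linearIndependent_unique_iff.2 h1) fun _ _ => ((hs x).1 hx).trans ((hs y).1 hy).symm
    exact ⟨g, hg, e 0⟩
  witt2 x y x' y' hx hy hx' hy' h0 h1 e := by
    obtain ⟨g, hg, k⟩ := hW 2 _ _ le_rfl h0 h1 (Fin.forall_fin_two.2
      ⟨Fin.forall_fin_two.2 ⟨((hs x).1 hx).trans ((hs x').1 hx').symm, e⟩,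
        Fin.forall_fin_two.2 ⟨(hf.herm y x).trans ((congrArg (fun t => ε * σ t) e).trans (hf.herm y' x').symm),
          ((hs y).1 hy).trans ((hs y').1 hy').symm⟩⟩)
    exact ⟨g, hg, k 0, k 1⟩

theorem finrank_sup_le (W : Submodule K (ι → K)) (a : ι → K) :
    finrank K ↥(W ⊔ Submodule.span K {a}) ≤ finrank K W + 1 := by
  have h1 := Submodule.finrank_add_le_finrank_add_finrank W (Submodule.span K {a})
  have h2 := finrank_span_le_card (R := K) ({a} : Set (ι → K))
  rw [Set.toFinset_singleton, Finset.card_singleton] at h2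
  omega

/-- a maximal totally singular subspace has half the dimension -/
theorem exists_gen (hf : HermForm σ ε f) (hs : ∀ x, Sg x ↔ f x x = 0)
    (hi : ∀ a b, f a a ≠ 0 → f b b ≠ 0 → f b a = 0 → ∃ c : K, f (a + c • b) (a + c • b) = 0) {m : ℕ}
    (hd : Fintype.card ι = 2 * m) : ∃ W, Gen f Sg W ∧ finrank K W = m := by
  obtain ⟨W, hW, hm⟩ := set_has_maximal_iff_noetherian.2 (inferInstance : IsNoetherian K (ι → K))
    {W | ∀ u ∈ W, ∀ v ∈ W, f u v = 0} ⟨⊥, fun u hu v _ => by rw [(Submodule.mem_bot K).1 hu, hf.zero_left]⟩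
  have h1 : ∀ v, f v v = 0 → v ∈ perpOf hf W → v ∈ W := fun v hv hp => by
    by_contra hn
    refine hm (W ⊔ Submodule.span K {v}) (fun x hx y hy => ?_) (lt_of_le_of_ne le_sup_left fun e =>
      hn (e ▸ Submodule.mem_sup_right (Submodule.mem_span_singleton_self v)))
    obtain ⟨a, ha, _, ha', rfl⟩ := Submodule.mem_sup.1 hx
    obtain ⟨b, hb, _, hb', rfl⟩ := Submodule.mem_sup.1 hy
    obtain ⟨c, rfl⟩ := Submodule.mem_span_singleton.1 ha'
    obtain ⟨d, rfl⟩ := Submodule.mem_span_singleton.1 hb'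
    rw [hf.add_left, hf.add_right, hf.add_right, hf.smul_left, hf.smul_left, hf.smul_right, hf.smul_right, hW a ha b hb,
      hp b hb, (form_symm_zero hf).1 (hp a ha), hv]
    ring
  have h2 := finrank_perpOf hf W
  have h3 := Submodule.finrank_mono (show W ≤ perpOf hf W from hW)
  refine ⟨W, ⟨⟨fun w hw => (hs w).2 (hW w hw w hw), hW⟩, fun v hv hp =>
    h1 v ((hs v).1 hv) fun w hw => (form_symm_zero hf).1 (hp w hw)⟩, ?_⟩
  by_contra hne
  obtain ⟨a, ha, ha'⟩ := SetLike.not_le_iff_exists.1 fun k : perpOf hf W ≤ W => by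
    have := Submodule.finrank_mono k
    omega
  obtain ⟨b, hb, hb'⟩ := SetLike.not_le_iff_exists.1 fun k : perpOf hf (W ⊔ Submodule.span K {a}) ≤ W => by
    have := Submodule.finrank_mono k
    have := finrank_perpOf hf (W ⊔ Submodule.span K {a})
    have := finrank_sup_le W a
    omega
  have h4 : b ∈ perpOf hf W := fun w hw => hb w (Submodule.mem_sup_left hw)
  have h5 : f b a = 0 := hb a (Submodule.mem_sup_right (Submodule.mem_span_singleton_self a))
  obtain ⟨c, hc⟩ := hi a b (fun e => ha' (h1 a e ha)) (fun e => hb' (h1 b e h4)) h5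
  have h6 := ha _ (h1 _ hc (add_mem ha (Submodule.smul_mem _ c h4)))
  rw [hf.add_right, hf.smul_right, (form_symm_zero hf).1 h5, mul_zero, add_zero] at h6
  exact ha' (h1 a h6 ha)

theorem map_of_stab {W : Submodule K (ι → K)} {x : GL ι K} (hx : x ∈ subspaceStabilizer W) :
    W.map (toLin' (x : Matrix ι ι K)) = W := by
  refine le_antisymm ?_ fun w hw => ⟨ap x⁻¹ w, ((subspaceStabilizer W).inv_mem hx w).1 hw, ap_ap_inv x w⟩
  rintro _ ⟨w, hw, rfl⟩
  exact (hx w).1 hw

end Cfsg.Agent.SM.Ti.HP
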