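import Cfsg.Agent.SM.Ti.Deg
import Cfsg.Agent.H650.Ppd.Psp

/-!
# S3570, tight cores below the borderline: linear and symplectic socles (helper69; the proofs are those of `H650/Ppd`)
-/

set_option autoImplicit false
set_option linter.unusedSectionVars false
set_option linter.style.haveILetI false

namespace Cfsg.Agent.SM.Ti.Lo

universe u

section psl

open Matrix CoxeterSystem Cfsg.Agent.ChevalleyStructure.CoxeterGeom Cfsg.Agent.Tits.Roots Cfsg.Agent.Tits.Core
  Cfsg.Agent.Tits.Exchange Cfsg.Agent.Nodes.Reps Cfsg.Agent.Nodes.BNOf Cfsg.Agent.Nodes.StabComb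
  Cfsg.Agent.Nodes.Bruhat Cfsg.Agent.Nodes.OppDec Cfsg.Agent.Nodes.LeviDec Cfsg.Agent.KFacts.RgdOpp
  Cfsg.Agent.Omega.CR Cfsg.Agent.Omega.FOne.Lift.Sd Cfsg.Agent.H905.Md Cfsg.Agent.Nodes.RootsA
open Cfsg Cfsg.Geo
open Cfsg.Agent.H911 (lin)
open Cfsg.Agent.H911.Ad (bk bk_U bk_Lo bk_hh_mem)
open Cfsg.Agent.LieRecognition.BNCox (cA)
open Cfsg.Agent.Nodes.RGDTypeA (X_sr X_neg_sr mem_XX)
open Cfsg.Agent.H915.LD (Core Soc)
open Cfsg.Agent.H100.Ppd (Nat')
open Cfsg.Agent.H650.Ppd

variable {n : ℕ} {F : Type u} [Field F] [Finite F] {m : ℕ} {P : Subgroup (GL (Fin n) F)}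
  {K : Type} [Field K] [Fintype K] (p : ℕ) [hp : Fact p.Prime] [hFp : CharP F p] [hKp : CharP K p]
include hp hFp hKp

theorem nat_psl (h : Tc m P) {N : ℕ} (hN : 2 ≤ N) (h4 : N = 2 → 4 ≤ Fintype.card K)
    (hlt : Nat.card F ^ m < Fintype.card K ^ N) (e : Soc P ≃* Matrix.ProjectiveSpecialLinearGroup (Fin N) K) : Nat' P := by
  have hC := h.core
  obtain ⟨l, rfl⟩ : ∃ l, N = l + 1 := ⟨N - 1, by omega⟩
  have hK4 : l = 1 → 4 ≤ Nat.card K := fun hl => by
    rw [Nat.card_eq_fintype_card]; exact h4 (by omega)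
  obtain ⟨j, hj, hjK⟩ := psl_card p hC.absIrred hC.perfect (by omega) hK4 e hC.no_subfield
  have hn10 := h.ge
  have hnlt : n < 2 * (j * (l + 1)) := h.lt_of (hjK.trans Nat.card_eq_fintype_card) hlt
  rcases Nat.lt_or_ge l 2 with hl | hl
  · -- `N = 2`
    exfalso
    obtain rfl : l = 1 := by omega
    have := Fintype.ofFinite F
    obtain ⟨s, d, hs0, hs, hd2, hd⟩ := H875.Psl2.exists_pow p hC e
    rw [Fintype.card_fin] at hd
    have hsj : s = j := by
      rw [Nat.card_eq_fintype_card, Nat.card_eq_fintype_card, hs] at hjK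
      exact (Nat.pow_right_injective (Fintype.one_lt_card (α := F)) hjK).symm
    subst hsj
    have h5 : 2 ^ s ≤ d ^ s := Nat.pow_le_pow_left hd2 s
    rcases Nat.lt_or_ge s 4 with h6 | h6
    · interval_cases s
      · omega
      · omega
      · rcases Nat.lt_or_ge d 3 with h7 | h7
        · obtain rfl : d = 2 := by omega
          omega
        · have := Nat.pow_le_pow_left h7 3
          omega
    · have := four_lt_two_pow h6
      omega
  · have hjK' : Nat.card K = Nat.card F ^ j := hjK.symm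
    rcases Nat.lt_or_ge j 2 with hj1 | hj2
    · obtain rfl : j = 1 := by omega
      have hl5 : 5 ≤ l := by omega
      have h5 : n < (l + 1).choose 2 := by
        have h6 : (l + 1).choose 2 * 2 = (l + 1) * l := by
          rw [Nat.choose_two_right, Nat.add_sub_cancel, Nat.div_mul_cancel]
          rw [mul_comm]
          exact (Nat.even_mul_succ_self l).two_dvd
        nlinarith
      have h6 := psl_dim p hC.absIrred hC.perfect (by omega) hK4 e hl (Or.inl (by rwa [Fintype.card_fin]))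
      rw [Fintype.card_fin] at h6
      obtain ⟨-, h7⟩ := psl_eq p hC.absIrred hC.perfect (by omega) hK4 e hC.no_subfield h6
      exact Or.inl h7.ge
    · exfalso
      have h5 := card_ge_A p hC hl e hjK'
      rw [Fintype.card_fin] at h5
      rcases Nat.lt_or_ge l 3 with hl3 | hl3
      · obtain rfl : l = 2 := by omega
        have h6 : (2 + 1).choose 2 = 3 := rfl
        rw [h6] at h5
        rcases Nat.lt_or_ge j 3 with hj3 | hj3
        · obtain rfl : j = 2 := by omega
          have h7 := H887.DS.dim3 p hC e (by rw [Fintype.card_fin]; omega)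
          rw [Fintype.card_fin] at h7
          have h8 := card_eq_of_ten p hC e (by rw [Fintype.card_fin]; omega)
          rw [hjK'] at h8
          have h9 : 1 < Nat.card F := Finite.one_lt_card
          nlinarith
        · have := two_pow_bound' hj3
          omega
      · have := arith_A (N := l + 1) (j := j) (by omega) hj2
        omega

end psl

section psp

open CoxeterSystem Cfsg.Agent.ChevalleyStructure.CoxeterGeom Cfsg.Agent.Tits.Roots Cfsg.Agent.Tits.Core
  Cfsg.Agent.Nodes.Reps Cfsg.Agent.Nodes.BNOf Cfsg.Agent.Nodes.Bruhat Cfsg.Agent.Nodes.RGDLib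
open Cfsg.Agent.Nodes Cfsg.Agent.Nodes.WittRoot Cfsg.Agent.Nodes.WittRGD Cfsg.Agent.Nodes.WittAll
open Cfsg.Agent.Nodes.TypeC (isCartan)
open Cfsg.Agent.TitsThree Cfsg.Agent.TitsThree.Siegel Cfsg.Agent.TitsThree.WittFrame Cfsg.Agent.TitsThree.FrameCN
open Cfsg.Agent.H915.LD Cfsg.Agent.H911 Cfsg.Agent.H905.Md Cfsg.Agent.H925.Nat Cfsg.Agent.Nodes.RGDLift
open Cfsg.Agent.H156.Ppd (Cov lrep)
open Cfsg.Agent.H948.Ppd (TB XB NB exists_covB identify_B lift_nd lift_comm_pow)
open Cfsg.Agent.Omega.CR Cfsg.Agent.Omega.FOne.Lift.Sd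
open Cfsg Cfsg.Geo
open Cfsg.Agent.H100.Ppd (Nat')
open scoped MatrixGroups Matrix
open Cfsg.Agent.H650.Ppd

variable {n : ℕ} {F : Type u} [Field F] [Finite F] {m : ℕ} {P : Subgroup (GL (Fin n) F)}
  {K : Type} [Field K] [Fintype K] (p : ℕ) [hp : Fact p.Prime] [hFp : CharP F p] [hKp : CharP K p]
include hp hFp hKp

theorem nat_psp (h : Tc m P) {l : ℕ} (hl : 2 ≤ l) (h3 : l = 2 → 3 ≤ Fintype.card K)
    (hlt : Nat.card F ^ m < Fintype.card K ^ (2 * l)) (e : Soc P ≃* PSp l K) : Nat' P := by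
  have hC := h.core
  have hK : 3 ≤ l ∨ (l = 2 ∧ 3 ≤ Nat.card K) ∨ 4 ≤ Nat.card K := by
    rcases Nat.lt_or_ge l 3 with h1 | h1
    · exact Or.inr (Or.inl ⟨by omega, by rw [Nat.card_eq_fintype_card]; exact h3 (by omega)⟩)
    · exact Or.inl h1
  obtain ⟨j, hj, hjK⟩ := exists_card p hC (by omega) hK e
  have hn10 : 10 ≤ n := le_trans (by norm_num) h.ge
  have hnlt : n < 2 * (j * (2 * l)) := h.lt_of (hjK.trans Nat.card_eq_fintype_card) hlt
  have h4 : 2 * (j * (2 * l)) = 4 * (l * j) := by ring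
  rw [h4] at hnlt
  rcases Nat.lt_or_ge l 3 with h1 | h1
  · exfalso
    obtain rfl : l = 2 := by omega
    have h5 := le_card_psp4 p hC e (e := j) (by omega) hjK.symm
    rw [Fintype.card_fin] at h5
    omega
  · have h5 := cjOf_sp p hC h1 e hj hjK.symm (by rw [Fintype.card_fin]; exact hn10)
      (by rw [Fintype.card_fin]; exact hnlt)
    obtain ⟨f, hf, h6⟩ := h5.sp_form
    refine Or.inr (Or.inl ⟨f, hf, fun x hx => (h6 x).2 fun u v => hx _ rfl u v⟩)

end psp

end Cfsg.Agent.SM.Ti.Lo
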