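import Cfsg.Agent.SM.Ti.Deg
import Cfsg.Agent.H948.Ppd.Podd
import Cfsg.Agent.H948.Ppd.Pminus

/-!
# S3570, tight cores below the borderline: orthogonal socles, odd dimension and minus type (helper69; the proofs are those of `H948/Ppd`)
-/

set_option autoImplicit false
set_option linter.unusedSectionVars false
set_option linter.style.haveILetI false

namespace Cfsg.Agent.SM.Ti.Lo

universe u

section podd

open CoxeterSystem Cfsg.Agent.ChevalleyStructure.CoxeterGeom Cfsg.Agent.Tits.Roots Cfsg.Agent.Tits.Core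
  Cfsg.Agent.Nodes.Reps Cfsg.Agent.Nodes.BNOf Cfsg.Agent.Nodes.Bruhat Cfsg.Agent.Nodes.RGDLib
open Cfsg.Agent.Nodes Cfsg.Agent.Nodes.WittRoot Cfsg.Agent.Nodes.WittRGD Cfsg.Agent.Nodes.WittAll Cfsg.Agent.Nodes.WittInst
open Cfsg.Agent.Nodes.TypeC (isCartan)
open Cfsg.Agent.TitsThree.Siegel Cfsg.Agent.TitsThree.SiegelGen Cfsg.Agent.TitsThree.WittFrame Cfsg.Agent.TitsThree.FrameCN
  Cfsg.Agent.TitsThree.WBridge Cfsg.Agent.TitsThree.KSideO Cfsg.Agent.TitsThree Cfsg.Agent.TitsThree.StdData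
open Cfsg.Agent.LieClassical Cfsg.Agent.LieClassical.OrthCore Cfsg.Agent.LieClassical.OrthTrans
open Cfsg.Agent.LieClassical.OrthSimple Cfsg.Agent.LieClassical.OrthFinite Cfsg.Agent.LieClassical.OrthForms
open Cfsg.Agent.H915.LD Cfsg.Agent.H911 Cfsg.Agent.H905.Md Cfsg.Agent.H925.Nat Cfsg.Agent.Nodes.RGDLift
open Cfsg.Agent.H156.Ppd (Cov lrep exists_cov)
open Cfsg.Agent.Omega.CR Cfsg.Agent.Omega.FOne.Lift.Sd
open Cfsg.Agent.H100.Ppd (Nat')
open Cfsg Cfsg.Geo QuadraticMap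
open scoped MatrixGroups Matrix
open Cfsg.Agent.H948.Ppd

variable {n : ℕ} {F : Type u} [Field F] [Finite F] {m : ℕ} {P : Subgroup (GL (Fin n) F)}
  {K : Type} [Field K] [Fintype K] (p : ℕ) [hp : Fact p.Prime] [hFp : CharP F p] [hKp : CharP K p]
include hp hFp hKp

theorem nat_podd (h : Tc m P) {l : ℕ} (hl : 3 ≤ l) (hodd : Odd (Fintype.card K))
    (hlt : Nat.card F ^ m < Fintype.card K ^ (2 * l)) (e : Soc P ≃* POmega K (quadFormOdd l K)) : Nat' P := by
  have hC := h.core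
  have h2 : (2 : K) ≠ 0 := by
    intro h20
    have h3 : CharP K 2 := CharTwo.of_one_ne_zero_of_two_eq_zero one_ne_zero h20
    have h4 := FiniteField.even_card_of_char_two (CharP.ringChar_of_prime_eq_zero Nat.prime_two (by exact_mod_cast h20) :
      ringChar K = 2)
    have := Nat.odd_iff.1 hodd
    omega
  have hcoe := coe_oddForm (m := l) (F := K)
  have hG : Good (oddForm l K) := by
    apply good_of_finite (nondeg_oddForm l K h2)
    rw [Module.finrank_fintype_fun_eq_card, Fintype.card_sum, Fintype.card_sum, Fintype.card_fin,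
      Fintype.card_unit]
    omega
  have hp0 : ((embOdd l K).ngt ⟨1, -1 ^ 2, rfl⟩).c ≠ 0 := by
    change (1 : K)⁻¹ * (-1 ^ 2) ≠ 0
    simp
  have e' := e
  rw [← coe_oddForm] at e'
  have hWf : Finite (CoxeterMatrix.B l).Group := TypeC.finite_W (CoxeterMatrix.B l).toCoxeterSystem
  set M := model (wodd l K) hG ⟨_, hp0⟩ with hM
  have hA : AmbT (toFrame (wodd l K)) p M.I := AmbT.of_amb (amb_O_of_two _ h2) p
  have hperf : commutator ↥M.I = ⊤ := H911.Five.commutator_top hG.E_perfect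
  obtain ⟨Y, _, _, f, φ, n₁, C⟩ := exists_covB hC hA hp0 (by omega) hperf e'
  -- the nodes
  have hNd : ∀ i, ∃ σ' : SL(2, K) →* M.I, Nd (TB M) (XB M) i σ' := by
    intro i
    by_cases hi : (i : ℕ) + 1 < l
    · exact nd_long hA.rg_le hi
    · exact nd_last_odd h2 (H48.OMult.span_odd K l) hA.rg_le hi
  have hT' : ∀ s ∈ TB M, ∀ t ∈ TB M, s * t = t * s := by
    intro s hs t ht
    exact Subtype.ext (torus_comm hA.V0 (kd_odd h2 l) (hA.iso _ s.2) (hA.iso _ t.2) hs.2 ht.2)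
  obtain ⟨hT, hpow⟩ := lift_comm_pow C hp0 hT' (N₀ := Nat.card K) fun i => by
    obtain ⟨σ', N⟩ := hNd i
    exact ⟨K, inferInstance, inferInstance, inferInstance, σ', N, fun x => by
      rw [Nat.card_eq_fintype_card]; exact FiniteField.pow_card x⟩
  -- the order of the field
  obtain ⟨a, -, ha⟩ := FiniteField.card K p
  rw [← Nat.card_eq_fintype_card] at ha
  obtain ⟨j, hj, hjK⟩ := C.exists_j hC hT (a := a) a.ne_zero (by rw [← ha]; exact hpow)
  rw [← ha] at hjK
  have hn10 := h.ge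
  have hnlt : n < 4 * l * j := by
    have := h.lt_of (hjK.trans Nat.card_eq_fintype_card) hlt
    calc n < 2 * (j * (2 * l)) := this
      _ = 4 * l * j := by ring
  -- the edges
  have hedge : ∀ i, i ∉ JB M p f φ → ∃ m, 2 ≤ m ∧ dB M p f φ i = m ^ j := by
    intro i hi
    obtain ⟨σ', N'⟩ := hNd i
    obtain ⟨σ, -, N⟩ := lift_nd C hp0 N'
    exact edge_pow_B hC C hT hi N hjK.symm
  -- the nodes `≥ 1`
  have hJ : ∀ i, i ∉ JB M p f φ → (i : ℕ) = 0 := by
    intro i hi
    by_contra hi0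
    have hi1 : 1 ≤ (i : ℕ) := by omega
    have hd := hedge i hi
    rcases Nat.lt_or_ge 3 l with hl4 | hl3
    · have h3 := bound_four hC C hT (by omega) hi1 hi
      rw [Fintype.card_fin] at h3
      exact arith_mid (by omega) hj hnlt hd h3
    · obtain rfl : l = 3 := by omega
      by_cases hi2 : (i : ℕ) = 1
      · have h3 := bound_all hC C hT hi
        rw [Fintype.card_fin, hi2] at h3
        exact arith_mid (l := 3) (by omega) hj hnlt hd h3
      · have hi3 : (i : ℕ) + 1 = 3 := by omega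
        obtain ⟨ε, hε, h3⟩ := bound_last hC C hT hi3 hi
        rw [Fintype.card_fin] at h3
        have hj1 := arith_last hj hnlt hd hε h3
        subst hj1
        exact H924.D5.po7_big p hC (by rw [Fintype.card_fin]; omega) (by rw [Fintype.card_fin]; omega) h2 e
  -- the first node
  have ho : (⟨0, by omega⟩ : Fin l) ∉ JB M p f φ := by
    obtain ⟨i, hi⟩ := exists_node hC C hT
    have h3 : i = ⟨0, by omega⟩ := Fin.ext (hJ i hi)
    rwa [← h3]
  obtain ⟨ε, hε, h3⟩ := bound_first hC C hT (by omega) rfl ho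
  rw [Fintype.card_fin] at h3
  obtain ⟨hj1, hd2⟩ := arith_first hl hj hnlt (hedge _ ho) hε h3
  have hspan : Submodule.span K (Set.range (mt M.I)) = ⊤ :=
    span_E hG (by rw [Fintype.card_sum, Fintype.card_sum, Fintype.card_fin, Fintype.card_unit]; omega)
  obtain ⟨τ, θ, hθ⟩ := identify_B hC hA hp0 (by omega) hspan C hT (o := ⟨0, by omega⟩) rfl
    (fun i hi => Fin.ext (hJ i hi)) hd2
  have hcj : CjOf (omegaGL (quadFormOdd l F)) P := by
    refine cjOf_of (mem_omega_iff'' hG) (map_omega_glm τ fun v => ?_) hθ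
    rw [coe_oddForm]
    exact quadFormOdd_map τ v
  have h2F : (2 : F) ≠ 0 := by
    intro h20
    apply h2
    have h4 : τ (2 : K) = 2 := map_ofNat τ 2
    rw [h20] at h4
    exact (map_eq_zero τ).1 h4
  have hnd : IsNondegenerateQuadraticForm (quadFormOdd l F) := by
    rw [← coe_oddForm]
    exact H925.isND_of_nondeg (nondeg_oddForm l F h2F)
  obtain ⟨Q₁, hQ₁, hP, -⟩ := hcj.omega_form hnd
  exact Or.inr (Or.inr (Or.inr ⟨Q₁, hQ₁, hP.ge⟩))

end podd

section pminus

open CoxeterSystem Cfsg.Agent.ChevalleyStructure.CoxeterGeom Cfsg.Agent.Tits.Roots Cfsg.Agent.Tits.Core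
  Cfsg.Agent.Nodes.Reps Cfsg.Agent.Nodes.BNOf Cfsg.Agent.Nodes.Bruhat Cfsg.Agent.Nodes.RGDLib
open Cfsg.Agent.Nodes Cfsg.Agent.Nodes.WittRoot Cfsg.Agent.Nodes.WittRGD Cfsg.Agent.Nodes.WittAll Cfsg.Agent.Nodes.WittInst
open Cfsg.Agent.Nodes.TypeC (isCartan)
open Cfsg.Agent.TitsThree.Siegel Cfsg.Agent.TitsThree.SiegelGen Cfsg.Agent.TitsThree.WittFrame Cfsg.Agent.TitsThree.FrameCN
  Cfsg.Agent.TitsThree.WBridge Cfsg.Agent.TitsThree.KSideO Cfsg.Agent.TitsThree Cfsg.Agent.TitsThree.StdData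
open Cfsg.Agent.LieClassical Cfsg.Agent.LieClassical.OrthCore Cfsg.Agent.LieClassical.OrthTrans
open Cfsg.Agent.LieClassical.OrthSimple Cfsg.Agent.LieClassical.OrthFinite Cfsg.Agent.LieClassical.OrthForms
open Cfsg.Agent.H915.LD Cfsg.Agent.H911 Cfsg.Agent.H905.Md Cfsg.Agent.H925.Nat Cfsg.Agent.Nodes.RGDLift
open Cfsg.Agent.H156.Ppd (Cov lrep exists_cov)
open Cfsg.Agent.Omega.CR Cfsg.Agent.Omega.FOne.Lift.Sd
open Cfsg.Agent.H100.Ppd (Nat')
open Cfsg Cfsg.Geo QuadraticMap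
open scoped MatrixGroups Matrix
open Cfsg.Agent.H948.Ppd Cfsg.Agent.H948.Ppd.Minus

variable {n : ℕ} {F : Type u} [Field F] [Finite F] {m : ℕ} {P : Subgroup (GL (Fin n) F)}
  {K : Type} [Field K] [Fintype K] (p : ℕ) [hp : Fact p.Prime] [hFp : CharP F p] [hKp : CharP K p]
include hp hFp hKp

theorem nat_pminus (h : Tc m P) {l : ℕ} (hl : 4 ≤ l) (hlt : Nat.card F ^ m < Fintype.card K ^ (2 * l)) (a b : K)
    (hab : ∀ z₁ z₂ : K, z₁ ^ 2 + a * z₁ * z₂ + b * z₂ ^ 2 = 0 → z₁ = 0 ∧ z₂ = 0)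
    (e : Soc P ≃* POmega K (quadFormMinus (l - 1) K a b)) : Nat' P := by
  have hC := h.core
  obtain ⟨l, rfl⟩ : ∃ l', l = l' + 1 := ⟨l - 1, by omega⟩
  have hl3 : 3 ≤ l := by omega
  have e₁ : Soc P ≃* POmega K (quadFormMinus l K a b) := e
  have hG := good_minus (m := l) hab (by omega)
  have hA := ambT_minus hab p (by omega) hG
  have hp0 := pc_ne (m := l) hab
  have e' := e₁
  rw [← coe_minusForm] at e'
  have hWf : Finite (CoxeterMatrix.B l).Group := TypeC.finite_W (CoxeterMatrix.B l).toCoxeterSystem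
  have hperf : commutator ↥(MM hab hG).I = ⊤ := H911.Five.commutator_top hG.E_perfect
  obtain ⟨Y, _, _, f, φ, n₁, C⟩ := exists_covB hC hA hp0 (by omega) hperf e'
  have hT' := torus_comm_minus hab hG (by omega) hA
  obtain ⟨hT, hpow⟩ := lift_comm_pow C hp0 hT' (N₀ := Nat.card K ^ 2) fun i => nodes hab hG hA i
  -- the fields
  obtain ⟨f₀, -, hf₀⟩ := FiniteField.card K p
  rw [← Nat.card_eq_fintype_card] at hf₀
  have := Fintype.ofFinite F
  obtain ⟨a₀, -, ha₀⟩ := FiniteField.card F p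
  rw [← Nat.card_eq_fintype_card] at ha₀
  obtain ⟨j, hj, hjK⟩ := C.exists_j hC hT (a := (f₀ : ℕ) * 2) (Nat.mul_ne_zero f₀.ne_zero two_ne_zero)
    (by rw [pow_mul, ← hf₀]; exact hpow)
  rw [pow_mul, ← hf₀] at hjK
  have haj : (a₀ : ℕ) * j = f₀ * 2 := by
    have h1 : p ^ ((a₀ : ℕ) * j) = p ^ ((f₀ : ℕ) * 2) := by
      rw [pow_mul, ← ha₀, hjK, hf₀, ← pow_mul]
    exact Nat.pow_right_injective hp.out.two_le h1
  have hn10 := h.ge
  have hnlt : n < 2 * (l + 1) * j := by
    rw [pow_mul, ← Nat.card_eq_fintype_card] at hlt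
    have := h.lt_of hjK hlt
    calc n < 2 * (j * (l + 1)) := this
      _ = 2 * (l + 1) * j := by ring
  -- the last node
  have hlast : ∀ i : Fin l, (i : ℕ) + 1 = l → ∃ (E : Type) (_ : Field E) (_ : Finite E) (_ : CharP E p)
      (σ : SL(2, E) →* Y), Nat.card E = Nat.card F ^ j ∧
        Nd ((TB (MM hab hG)).comap f) (fun x => lft p f (XB (MM hab hG) x)) i σ := by
    intro i hi
    obtain ⟨E, i1, i2, i3, σ', h1, -, N'⟩ := node_last hab hG hA hi
    obtain ⟨σ, -, N⟩ := lift_nd C hp0 N'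
    exact ⟨E, i1, i2, i3, σ, by rw [h1, hjK], N⟩
  have hnl : ∀ i : Fin l, (i : ℕ) + 1 = l → i ∈ JB (MM hab hG) p f φ := by
    intro i hi
    by_contra hiJ
    obtain ⟨E, i1, i2, i3, σ, h1, N⟩ := hlast i hi
    obtain ⟨ε, hε, h3⟩ := bound_last hC C hT hi hiJ
    rw [Fintype.card_fin] at h3
    exact arith_lastM hl3 hj hnlt (edge_pow_B hC C hT hiJ N h1) hε h3
  have hlong : ∀ i : Fin l, (i : ℕ) + 1 < l → ∃ σ : SL(2, K) →* Y,
        Nd ((TB (MM hab hG)).comap f) (fun x => lft p f (XB (MM hab hG) x)) i σ := by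
    intro i hi
    obtain ⟨σ', -, N'⟩ := node_long hab hG hA hi
    obtain ⟨σ, -, N⟩ := lift_nd C hp0 N'
    exact ⟨σ, N⟩
  -- the identification
  have hid : (∀ i : Fin l, 1 ≤ (i : ℕ) → i ∈ JB (MM hab hG) p f φ) →
      dB (MM hab hG) p f φ ⟨0, by omega⟩ ≤ 2 → Nonempty (K ≃+* F) ∧ Nat' P := by
    intro hJ hd2
    have hspan : Submodule.span K (Set.range (mt (MM hab hG).I)) = ⊤ :=
      span_E hG (by rw [Fintype.card_sum, Fintype.card_sum, Fintype.card_fin, Fintype.card_fin]; omega)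
    obtain ⟨τ, θ, hθ⟩ := identify_B hC hA hp0 (by omega) hspan C hT (o := ⟨0, by omega⟩) rfl
      (fun i hi => by
        by_contra h0
        refine hi (hJ i ?_)
        by_contra h1
        exact h0 (Fin.ext (by simp only; omega))) hd2
    have hcj : CjOf (omegaGL (quadFormMinus l F (τ a) (τ b))) P := by
      refine cjOf_of (mem_omega_iff'' hG) (map_omega_glm τ fun v => ?_) hθ
      rw [coe_minusForm]
      exact quadFormMinus_map τ a b v
    have hab' : ∀ z₁ z₂ : F, z₁ ^ 2 + τ a * z₁ * z₂ + τ b * z₂ ^ 2 = 0 → z₁ = 0 ∧ z₂ = 0 := by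
      intro z₁ z₂ hz
      obtain ⟨z₁, rfl⟩ := τ.surjective z₁
      obtain ⟨z₂, rfl⟩ := τ.surjective z₂
      rw [← map_pow, ← map_pow, ← map_mul, ← map_mul, ← map_mul, ← map_add, ← map_add] at hz
      obtain ⟨h1, h2⟩ := hab _ _ ((map_eq_zero τ).1 hz)
      rw [h1, h2, map_zero]
      exact ⟨rfl, rfl⟩
    have hnd : IsNondegenerateQuadraticForm (quadFormMinus l F (τ a) (τ b)) := by
      rw [← coe_minusForm]
      exact H925.isND_of_nondeg (nondeg_minusForm l F (τ a) (τ b) hab')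
    obtain ⟨Q₁, hQ₁, hP, -⟩ := hcj.omega_form hnd
    exact ⟨⟨τ⟩, Or.inr (Or.inr (Or.inr ⟨Q₁, hQ₁, hP.ge⟩))⟩
  -- the first node
  have hfirst : (∀ i : Fin l, 1 ≤ (i : ℕ) → i ∈ JB (MM hab hG) p f φ) →
      (⟨0, by omega⟩ : Fin l) ∉ JB (MM hab hG) p f φ := by
    intro hJ
    obtain ⟨i, hi⟩ := exists_node hC C hT
    have h3 : i = ⟨0, by omega⟩ := by
      by_contra h0
      refine hi (hJ i ?_)
      by_contra h1
      exact h0 (Fin.ext (by simp only; omega))
    rwa [← h3]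
  rcases Nat.even_or_odd' j with ⟨j', hj' | hj'⟩
  · -- `|K| = |F| ^ j'`
    subst hj'
    have hj1 : 1 ≤ j' := by omega
    have hfa : (f₀ : ℕ) = a₀ * j' := by
      have h1 : (a₀ : ℕ) * (2 * j') = a₀ * j' * 2 := by ring
      omega
    have hKF : Nat.card K = Nat.card F ^ j' := by rw [hf₀, ha₀, ← pow_mul, hfa]
    have hnlt' : n < 4 * (l + 1) * j' := by
      calc n < 2 * (l + 1) * (2 * j') := hnlt
        _ = 4 * (l + 1) * j' := by ring
    have hedge : ∀ i : Fin l, (i : ℕ) + 1 < l → i ∉ JB (MM hab hG) p f φ →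
        ∃ m, 2 ≤ m ∧ dB (MM hab hG) p f φ i = m ^ j' := by
      intro i hi hiJ
      obtain ⟨σ, N⟩ := hlong i hi
      exact edge_pow_B hC C hT hiJ N hKF
    have hJ : ∀ i : Fin l, 1 ≤ (i : ℕ) → i ∈ JB (MM hab hG) p f φ := by
      intro i hi1
      by_cases hi : (i : ℕ) + 1 < l
      · by_contra hiJ
        rcases Nat.lt_or_ge 3 l with hl4 | hl3'
        · have h3 := bound_all hC C hT hiJ
          rw [Fintype.card_fin] at h3
          exact arith_midA hj1 hnlt' (hedge i hi hiJ) (choose_four hl4 (by omega) hi) h3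
        · obtain rfl : l = 3 := by omega
          obtain rfl : i = 1 := by
            apply Fin.ext
            change (i : ℕ) = 1
            omega
          obtain ⟨ε, hε, h3⟩ := bound_mid hC C hT hiJ
          rw [Fintype.card_fin] at h3
          have h4 := arith_midB hj1 hnlt' (hedge 1 hi hiJ) hε h3
          subst h4
          obtain ⟨E, i1, i2, i3, σ, h1, N⟩ := hlast 2 rfl
          have h5 := bound_levi hC C hT hiJ N ha₀ h1
          rw [Fintype.card_fin] at h5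
          omega
      · exact hnl i (by omega)
    have ho := hfirst hJ
    obtain ⟨ε, hε, h3⟩ := bound_first hC C hT (by omega) rfl ho
    rw [Fintype.card_fin] at h3
    rcases arith_firstA hl3 hj1 hnlt' (hedge _ (by simp only; omega) ho) hε h3 with ⟨-, hd2⟩ | ⟨h4, h5, h6⟩
    · exact (hid hJ hd2).2
    · exfalso
      subst h4 h5
      have h7 := rank_minus hC hab hG (by norm_num) hA C hT (o := ⟨0, by omega⟩) rfl
        (fun i => ⟨fun hi => by
          by_contra h0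
          refine hi (hJ i ?_)
          by_contra h1
          exact h0 (Fin.ext (by simp only; omega)), fun h0 => by rw [h0]; exact ho⟩) hKF h6
      rw [Fintype.card_fin] at h7
      omega
  · -- `|K| ^ 2 = |F| ^ j`, `j` odd
    obtain ⟨a₁, ha₁⟩ : ∃ a₁, (a₀ : ℕ) = 2 * a₁ := by
      have h1 : Even ((a₀ : ℕ) * j) := by
        rw [haj, mul_comm]
        exact even_two_mul _
      rcases Nat.even_mul.1 h1 with ⟨x, hx⟩ | ⟨x, hx⟩
      · exact ⟨x, by omega⟩
      · omega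
    have hf₁ : (f₀ : ℕ) = a₁ * j := by
      have h1 : 2 * (a₁ * j) = f₀ * 2 := by rw [← haj, ha₁]; ring
      omega
    have hgcd : j * Nat.gcd a₀ f₀ = f₀ := by
      have h1 : Nat.gcd 2 j = 1 := by
        rw [hj']
        exact (Nat.coprime_two_left).2 ⟨j', rfl⟩
      rw [ha₁, hf₁, mul_comm 2 a₁, Nat.gcd_mul_left, h1, mul_one, mul_comm]
    have hedge : ∀ i : Fin l, (i : ℕ) + 1 < l → i ∉ JB (MM hab hG) p f φ →
        ∃ m, 2 ≤ m ∧ dB (MM hab hG) p f φ i = m ^ j := by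
      intro i hi hiJ
      obtain ⟨σ, N⟩ := hlong i hi
      exact edge_pow_B' hC C hT hiJ N ha₀ hf₀ hgcd
    have hJ : ∀ i : Fin l, 1 ≤ (i : ℕ) → i ∈ JB (MM hab hG) p f φ := by
      intro i hi1
      by_cases hi : (i : ℕ) + 1 < l
      · by_contra hiJ
        rcases Nat.lt_or_ge 3 l with hl4 | hl3'
        · have h3 := bound_four hC C hT (by omega) hi1 hiJ
          rw [Fintype.card_fin] at h3
          exact arith_midM hl3 hj hnlt (hedge i hi hiJ) h3
        · obtain rfl : l = 3 := by omega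
          have hi' : (i : ℕ) = 1 := by omega
          have h3 := bound_all hC C hT hiJ
          rw [Fintype.card_fin, hi'] at h3
          exact arith_midM hl3 hj hnlt (hedge i hi hiJ) h3
      · exact hnl i (by omega)
    have ho := hfirst hJ
    obtain ⟨ε, hε, h3⟩ := bound_first hC C hT (by omega) rfl ho
    rw [Fintype.card_fin] at h3
    obtain ⟨hj1, hd2⟩ := arith_firstM hl3 hj hnlt (hedge _ (by simp only; omega) ho) hε h3
    obtain ⟨⟨τ⟩, -⟩ := hid hJ hd2
    exfalso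
    have h4 := Nat.card_congr τ.toEquiv
    rw [hj1, pow_one, ← h4] at hjK
    have h5 := Finite.one_lt_card (α := K)
    nlinarith

end pminus

end Cfsg.Agent.SM.Ti.Lo
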