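import Cfsg.Agent.SM.Ti.Deg
import Cfsg.Agent.H744.Ppd.D4Dim

/-!
# S3570, tight cores: socles `G₂` (below the borderline) and `³D₄` (helper69; set-ups from `H744/Ppd`)
-/

set_option autoImplicit false
set_option linter.unusedSectionVars false
set_option linter.style.haveILetI false

namespace Cfsg.Agent.SM.Ti.Lo

universe u

section g2

open Matrix (SpecialLinearGroup)
open Cfsg Cfsg.Geo
open Cfsg.Agent.H911 (lin)
open Cfsg.Agent.H911.SLTwo Cfsg.Agent.H875.Fn
open CoxeterSystem Cfsg.Agent.ChevalleyStructure.CoxeterGeom Cfsg.Agent.Tits.Roots Cfsg.Agent.Tits.Core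
  Cfsg.Agent.Tits.Exchange Cfsg.Agent.Nodes.Reps Cfsg.Agent.Nodes.BNOf Cfsg.Agent.Nodes.StabComb
  Cfsg.Agent.Nodes.Bruhat Cfsg.Agent.Nodes.OppDec Cfsg.Agent.Nodes.LeviDec Cfsg.Agent.KFacts.RgdOpp
  Cfsg.Agent.Omega.CR Cfsg.Agent.Omega.FOne.Lift.Sd Cfsg.Agent.H905.Md Cfsg.Agent.H650.Ppd
open Cfsg.Lie Cfsg.Agent.ChevalleyStructure Cfsg.Agent.ChevalleyStructure.CoxeterGeomTypes
  Cfsg.Agent.Nodes.RGDChev
open Cfsg.Agent.H744.Ppd Cfsg.Agent.H744.Ppd.G2
open Cfsg.Agent.H927.G2 (GG2 fr_g2 rgd2 T2_comm)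
open Cfsg.Agent.H915.LD

variable {n : ℕ} {F : Type u} [Field F] [Finite F] {m : ℕ} {P : Subgroup (Matrix.GeneralLinearGroup (Fin n) F)}
  {K : Type} [Field K] [Fintype K] (p : ℕ) [hp : Fact p.Prime] [hFp : CharP F p] [hKp : CharP K p]
include hp hFp hKp

theorem not_g2 (h : Tc m P) (h3 : 3 ≤ Fintype.card K) (hlt : Nat.card F ^ m < Fintype.card K ^ 6)
    (e : Soc P ≃* Lie.chevG2.group K) : False := by
  have hC := h.core
  have hn10 := h.ge
  obtain ⟨f⟩ := Cfsg.Agent.H48.DsChev.g2_equiv p hC h3 e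
  have hfr := fr_g2 p hC f
  obtain ⟨aK, -, haK⟩ := FiniteField.card K p
  have hcK : Nat.card K = p ^ (aK : ℕ) := by rw [Nat.card_eq_fintype_card, haK]
  obtain ⟨j, hj1, hj⟩ := card_pow_eq p aK.ne_zero (fun x => pow_eq_of_no_subfield hC.absIrred hC.no_subfield p aK (fun g hg => by
    rw [← hcK]; exact hfr g hg) x)
  have hKF : Nat.card K = Nat.card F ^ j := by rw [hcK, hj]
  have hne : Nonempty (Fin n) := hC.nonempty
  have h2 : 2 ≤ Fintype.card (Fin n) := by rw [Fintype.card_fin]; omega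
  have hφ : (P.subtype.comp f.symm.toMonoidHom).range = P := by
    rw [MonoidHom.range_comp, MonoidHom.range_eq_top.2 f.symm.surjective, ← MonoidHom.range_eq_map,
      Subgroup.range_subtype]
  have h4 := ge_pow p hφ hC.absIrred h2 hKF
  rw [Fintype.card_fin] at h4
  have hk := Tc.lt_of' (hKF.symm.trans Nat.card_eq_fintype_card) hlt
  have hkn := h.hi
  have hm6 := h.six
  have hj3 : j < 3 := by
    by_contra hcon
    have h5 : ∀ j : ℕ, 3 ≤ j → 2 * j + 1 ≤ 2 ^ j := by
      intro j hj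
      induction j, hj using Nat.le_induction with
      | base => norm_num
      | succ j hj ih => rw [pow_succ]; omega
    have h6 := h5 j (by omega)
    omega
  have hj2 : j = 1 ∨ j = 2 := by omega
  rcases hj2 with rfl | rfl
  · omega
  · have hq := Finite.one_lt_card (α := F)
    rcases (show Nat.card F = 2 ∨ 3 ≤ Nat.card F by omega) with h5 | h5
    · have hp2 : p = 2 := by
        obtain ⟨a, ha, hF⟩ := exists_exp F p
        exact (Nat.prime_dvd_prime_iff_eq hp.out Nat.prime_two).1 (by rw [← h5, hF]; exact dvd_pow_self _ ha.ne')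
      subst hp2
      obtain ⟨r, hr, h6, h7, -, h8⟩ := h.top (a := 1) hp.out h5
      have : Finite CoxeterMatrix.G₂.Group := Cfsg.Agent.Nodes.RGDChev.finite_W ht CoxeterMatrix.G₂.toCoxeterSystem
      have hfin : Finite (chevG2.group K) := Finite.of_equiv _ f.toEquiv
      have h9 := h6.trans (h.dvd_soc (rgd2 (K := K) 2) GG2 T2_comm hφ)
      rw [Nat.card_congr e.toEquiv, Cfsg.Agent.S1059.result rfl, ← Nat.card_eq_fintype_card, hKF, h5, ← pow_mul, ← pow_mul,
        hr.dvd_mul, hr.dvd_mul, h7, h7, one_mul] at h9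
      have h10 := (h.seven (by rw [h5]; exact even_two)).1
      rcases h9 with (h9 | h9) | h9
      · exact h8 (hr.dvd_of_dvd_pow h9)
      · have := Nat.le_of_dvd (by norm_num) h9
        omega
      · have h11 : m < 12 := by omega
        interval_cases m <;> omega
    · have h6 := ge_24 p hφ hC.absIrred h2 h5 hKF
      rw [Fintype.card_fin] at h6
      omega

end g2

section d4

open Matrix (SpecialLinearGroup)
open Cfsg Cfsg.Geo
open Cfsg.Agent.H911 (lin)
open Cfsg.Agent.H911.SLTwo Cfsg.Agent.H875.Fn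
open CoxeterSystem Cfsg.Agent.ChevalleyStructure.CoxeterGeom Cfsg.Agent.Tits.Roots Cfsg.Agent.Tits.Core
  Cfsg.Agent.Tits.Exchange Cfsg.Agent.Nodes.Reps Cfsg.Agent.Nodes.BNOf Cfsg.Agent.Nodes.StabComb
  Cfsg.Agent.Nodes.Bruhat Cfsg.Agent.Nodes.OppDec Cfsg.Agent.Nodes.LeviDec Cfsg.Agent.KFacts.RgdOpp
  Cfsg.Agent.Omega.CR Cfsg.Agent.Omega.FOne.Lift.Sd Cfsg.Agent.H905.Md Cfsg.Agent.H650.Ppd
open Cfsg.Lie Cfsg.Agent.ChevalleyStructure Cfsg.Agent.ChevalleyStructure.CoxeterGeomTypes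
open Cfsg.Agent.Nodes.RGDTwD4 (isCartan)
open Cfsg.Agent.Nodes.RGDFoldSL (Fx mem_Fx)
open Cfsg.Agent.H744.Ppd Cfsg.Agent.H744.Ppd.D4
open Cfsg.Agent.H915.LD

variable {n : ℕ} {F : Type u} [Field F] [Finite F] {m : ℕ} {P : Subgroup (Matrix.GeneralLinearGroup (Fin n) F)}
  {K : Type} [Field K] [Fintype K] (p : ℕ) [hp : Fact p.Prime] [hFp : CharP F p] [hKp : CharP K p]
include hp hFp hKp

theorem not_3d4 (h : Tc m P) {q₀ : ℕ} (hq : IsPrimePow q₀) (hK : Fintype.card K = q₀ ^ 3)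
    (e : Soc P ≃* Lie.twistedD4 K q₀) : False := by
  have hC := h.core
  have hn10 := h.ge
  have hnlt := h.hi
  obtain ⟨f⟩ := Cfsg.Agent.H48.DsChev.d4_equiv hC hq hK e
  obtain ⟨φ, hφ⟩ := D4Fixed.exists_frob hq hK
  have hq1 : 1 < q₀ := hq.one_lt
  obtain ⟨aK, -, haK⟩ := FiniteField.card K p
  have hne : Nonempty (Fin n) := hC.nonempty
  have h2 : 2 ≤ Fintype.card (Fin n) := by rw [Fintype.card_fin]; omega
  have hθ : (P.subtype.comp f.symm.toMonoidHom).range = P := by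
    rw [MonoidHom.range_comp, MonoidHom.range_eq_top.2 f.symm.surjective, ← MonoidHom.range_eq_map,
      Subgroup.range_subtype]
  have : Finite CoxeterMatrix.G₂.Group := Cfsg.Agent.H249.PPTwD4.finiteW CoxeterMatrix.G₂.toCoxeterSystem
  obtain ⟨j, hj1, hj⟩ := card_pow_eq p aK.ne_zero (fun x => pow_eq_of_no_subfield hC.absIrred hC.no_subfield p aK
    (fun g hg => trace_pow (Nodes.RGDTwD4.rgd CoxeterMatrix.G₂.toCoxeterSystem hK hφ p) (GG4 hK hφ)
      Cfsg.Agent.H249.PPTwD4.T_comm hθ hC.absIrred (fun t ht => by rw [← haK]; exact T_pow t ht) hg) x)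
  have hjq : Nat.card F ^ j = q₀ ^ 3 := by rw [hj, ← haK, hK]
  obtain ⟨a, ha0, ha⟩ : ∃ a : ℕ, a ≠ 0 ∧ Nat.card F = p ^ a := by
    have := Fintype.ofFinite F
    obtain ⟨a, -, ha⟩ := FiniteField.card F p
    exact ⟨a, a.ne_zero, by rw [Nat.card_eq_fintype_card, ha]⟩
  obtain ⟨g, -, hgq⟩ := (Nat.dvd_prime_pow hp.out).1 (show q₀ ∣ p ^ (aK : ℕ) by
    rw [← haK, hK]; exact dvd_pow_self q₀ (by norm_num))
  have hag : a * j = 3 * g := by
    have h3 : p ^ (a * j) = p ^ (3 * g) := by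
      rw [pow_mul, ← ha, hjq, hgq, ← pow_mul, mul_comm]
    exact Nat.pow_right_injective hp.out.two_le h3
  -- the numbers
  have hm6 := h.six
  have hg0 : 0 < g := Nat.pos_of_ne_zero (by rintro rfl; simp at hgq; omega)
  have hfin : Finite (Lie.twistedD4 K q₀) := Finite.of_equiv _ f.toEquiv
  have hth := h.dvd_soc (Nodes.RGDTwD4.rgd CoxeterMatrix.G₂.toCoxeterSystem hK hφ p) (GG4 hK hφ)
    Cfsg.Agent.H249.PPTwD4.T_comm hθ
  rw [Nat.card_congr e.toEquiv, Cfsg.Agent.S1067.result hq hK, hgq, ← pow_mul, ← pow_mul, ← pow_mul] at hth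
  have hk : m ∣ 4 * j := by
    obtain ⟨r, hr, h6, h7, -, h8⟩ := h.top hp.out ha
    have h9 := h6.trans hth
    rw [hr.dvd_mul, hr.dvd_mul, hr.dvd_mul, h7, h7] at h9
    refine Nat.dvd_of_mul_dvd_mul_left (Nat.pos_of_ne_zero ha0) ?_
    rw [show a * (4 * j) = g * 12 by rw [mul_left_comm, hag]; ring]
    rcases h9 with ((h9 | h9) | h9) | h9
    · exact absurd (hr.dvd_of_dvd_pow h9) h8
    · exact h9.trans (Nat.mul_dvd_mul_left _ (by norm_num))
    · exact h9.trans (Nat.mul_dvd_mul_left _ (by norm_num))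
    · have h10 := tri_dvd ((p ^ g) ^ 4)
      rw [← pow_mul (p ^ g), ← pow_mul (p ^ g)] at h10
      rw [← h7, pow_mul]
      exact h9.trans h10
  have hk' : m ≤ 2 * j := by
    obtain ⟨x, hx⟩ := hk
    by_contra h5
    have hx1 : x = 1 := by
      rcases Nat.lt_or_ge x 2 with h6 | h6
      · interval_cases x <;> omega
      · have := Nat.mul_le_mul_left m h6
        omega
    rw [hx1, mul_one] at hx
    have ham : a * m = g * 4 * 3 := by rw [← hx, mul_left_comm, hag]; ring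
    obtain ⟨r, hr, h6, h7, h8, h9⟩ := h.ppd (k := g * 4) hp.out ha (by omega) (by omega) ⟨3, ham⟩ fun h6 => by
      have h7 := Nat.mul_le_mul (Nat.le_of_dvd (Nat.pos_of_ne_zero ha0) h6) hm6
      omega
    have h10 := h6.trans hth
    rw [hr.dvd_mul, hr.dvd_mul, hr.dvd_mul, h7, h7, Nat.mul_dvd_mul_iff_left hg0, Nat.mul_dvd_mul_iff_left hg0] at h10
    have h11 := Nat.le_of_dvd (by have := hr.two_le; omega) h8
    rcases h10 with ((h10 | h10) | h10) | h10
    · exact h9 (hr.dvd_of_dvd_pow h10)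
    · omega
    · omega
    · have h12 : 1 ≡ (p ^ g) ^ 4 [MOD r] := by
        rw [Nat.modEq_iff_dvd' (Nat.one_le_pow _ _ (pow_pos hp.out.pos _)), ← pow_mul, h7]
      have h13 := ((h12.pow 2).add h12).add_right 1
      rw [← pow_mul (p ^ g)] at h13
      have h14 := Nat.le_of_dvd (by norm_num) ((Nat.modEq_zero_iff_dvd).1 (h13.trans ((Nat.modEq_zero_iff_dvd).2 h10)))
      have := hr.two_le
      omega
  have hnode := exists_node p hK hφ hθ hC.absIrred h2
  by_cases h3 : 3 ∣ j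
  · obtain ⟨j', rfl⟩ := h3
    have hj' : 1 ≤ j' := by omega
    have hg' : g = a * j' := by
      have : a * (3 * j') = 3 * (a * j') := by ring
      omega
    rcases hnode with h1 | ⟨h1, h0⟩
    · have h4 := short_ge p hK hφ hθ hC.absIrred h1 ha (f := a * (3 * j')) (by rw [hag, hgq, ← pow_mul, mul_comm])
        (s := 3 * j') (by rw [Nat.gcd_eq_left (Dvd.intro (3 * j') rfl), mul_comm])
      rw [Fintype.card_fin, pow_mul] at h4
      have h5 := pow86 j' hj'
      norm_num at h4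
      omega
    · obtain ⟨h4, h5⟩ := long_ge' p hK hφ hθ hC.absIrred hq1 h1 h0 ha0 (j := j') (by omega) ha (by rw [hgq, hg'])
      rw [Fintype.card_fin] at h4 h5
      rcases hj'.eq_or_lt with h6 | h6
      · have h7 : Odd (Nat.card F) := h.odd (by omega)
        have h8 := Finite.one_lt_card (α := F)
        have h9 := h5 h6.symm (by obtain ⟨x, hx⟩ := h7; omega)
        omega
      · have h7 := pow8 j' h6
        omega
  · have h4 : 3 ∣ a := by
      have h5 : 3 ∣ a * j := ⟨g, hag⟩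
      exact (Nat.prime_three.dvd_mul.1 h5).resolve_right h3
    obtain ⟨a', rfl⟩ := h4
    have hg' : g = a' * j := by
      have : 3 * a' * j = 3 * (a' * j) := by ring
      omega
    have hj2 : 2 ≤ j := by
      by_contra hcon
      have : j = 1 := by omega
      subst this
      omega
    have h5 : 6 * 2 ^ j ≤ Fintype.card (Fin n) + 6 := by
      rcases hnode with h1 | ⟨-, h0⟩
      · exact short_ge p hK hφ hθ hC.absIrred h1 ha (f := 3 * a' * j) (by rw [hag, hgq, ← pow_mul, mul_comm])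
          (s := j) (by rw [Nat.gcd_eq_left (Dvd.intro j rfl), mul_comm])
      · refine long_ge p hK hφ hθ hC.absIrred hq1 h0 ha (f := a' * j) (by rw [hgq, hg']) (s := j) ?_
        have h6 : Nat.gcd (3 * a') (a' * j) = a' := by
          rw [mul_comm 3 a', Nat.gcd_mul_left, show Nat.gcd 3 j = 1 from (Nat.Prime.coprime_iff_not_dvd Nat.prime_three).2 h3, mul_one]
        rw [h6, mul_comm]
    rw [Fintype.card_fin] at h5
    have h6 := pow2 j hj2
    omega

end d4

end Cfsg.Agent.SM.Ti.Lo
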