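import Cfsg.Agent.SM.Ti.LoE
import Cfsg.Agent.H315.TwF.Main

/-!
# S3570, tight cores: Suzuki and Ree socles (helper69; set-ups from `H909`, `H315/TwF`)

`not_sz`, `not_ree`, `not_2f4`.
-/

set_option autoImplicit false
set_option linter.unusedSectionVars false
set_option linter.style.haveILetI false

namespace Cfsg.Agent.SM.Ti.Lo

universe u

section sz

open Cfsg Cfsg.Geo Matrix Cfsg.Agent.H915.LD Cfsg.Agent.H861.SzN Cfsg.Agent.H100.Ppd Cfsg.Agent.H905.Md
open Cfsg.Agent.H909.Ppd

variable {n : ℕ} {F : Type u} [Field F] [Finite F] {m : ℕ} {P : Subgroup (GL (Fin n) F)}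
  {K : Type} [Field K] [Fintype K] {l : ℕ}

theorem not_sz [CharP F 2] (h : Tc m P) (hl : 1 ≤ l) (hK : Fintype.card K = 2 ^ (2 * l + 1))
    (e : Soc P ≃* Cfsg.Lie.Sz K (2 ^ (l + 1))) : False := by
  classical
  have : Fact (Nat.Prime 2) := ⟨Nat.prime_two⟩
  have hC := h.core
  obtain ⟨j⟩ := exists_emb F hK
  obtain ⟨φ, S, hφ, hS, hcard, htr⟩ := sz_model hC hl hK e j
  rw [Fintype.card_fin] at hcard
  -- `|F| ^ s = |K|`
  obtain ⟨s, hs, hFs⟩ := card_pow_eq (F := F) 2 (a := 2 * l + 1) (by omega)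
    (pow_eq_of_no_subfield hC.absIrred hC.no_subfield 2 _ fun g hg => by
      rw [← hK]
      exact (sz_both hC.absIrred hC.perfect hl hK e hg).1)
  have := Fintype.ofFinite F
  obtain ⟨f, hf0, hf⟩ := FiniteField.card F 2
  have hfs : (f : ℕ) * s = 2 * l + 1 := by
    rw [Nat.card_eq_fintype_card, hf, ← pow_mul] at hFs
    exact Nat.pow_right_injective le_rfl hFs
  -- periodicity
  have hper : S.image (sh (f : ℕ)) = S := by
    refine image_eq j hK fun x => ?_
    obtain ⟨g, rfl⟩ := trace_surj hK x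
    rw [← htr, ← map_pow, ← hf, FiniteField.pow_card]
  have hle : s ≤ S.card := le_card hS hfs hper
  have h4 : 4 ^ s ≤ n := by
    rw [hcard]
    exact Nat.pow_le_pow_right (by norm_num) hle
  have hk2 : m ≤ s * 4 := Tc.le_of' (hFs.trans hK.symm)
    (h.le_of_dg e (H47.Fd.fd_sz hl hK) ⟨_, by omega, hK⟩ (by norm_num) (dg_sz hl hK))
  have hn := h.hi
  have hten := h.ge
  have hbad : ∀ s : ℕ, 3 ≤ s → 8 * s + 2 ≤ 4 ^ s := by
    intro s hs
    induction s, hs using Nat.le_induction with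
    | base => norm_num
    | succ s hs ih => rw [pow_succ]; omega
  by_cases hs2 : 3 ≤ s
  · have := hbad s hs2
    omega
  · obtain rfl : s = 2 := by omega
    omega

end sz

section ree

open Matrix
open Cfsg Cfsg.Geo Cfsg.Lie Cfsg.Agent.ChevalleyStructure.Ree Cfsg.Agent.ChevalleyStructure.Ree.Words
  Cfsg.Agent.ChevalleyStructure.Ree.Gens Cfsg.Agent.ChevalleyStructure.Ree.Normal
  Cfsg.Agent.ChevalleyStructure.Ree.Bruhat Cfsg.Agent.ChevalleyStructure.Ree.Blocks
  Cfsg.Agent.LieRecognition.ReeSylowThree Cfsg.Agent.FixBN.ReeSplit Cfsg.Agent.H905.Md Cfsg.Agent.H915.LD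
  Cfsg.Agent.H911 Cfsg.Agent.H100.Ppd Cfsg.Agent.H141.ReeK
open Cfsg.Agent.H909.Ppd Cfsg.Agent.H909.ReeKer

variable {n : ℕ} {F : Type u} [Field F] [Finite F] {m : ℕ} {P : Subgroup (GL (Fin n) F)}
  {K : Type} [Field K] [Fintype K] {l : ℕ}

theorem not_ree_lt [CharP F 3] (h : Tc m P) (hl : 1 ≤ l) (hK : Fintype.card K = 3 ^ (2 * l + 1))
    (hlt : Nat.card F ^ m < Fintype.card K ^ 6)
    (e : Soc P ≃* ↥(twistedG2 K (3 ^ l))) : False := by
  classical
  have h3p : Fact (Nat.Prime 3) := ⟨Nat.prime_three⟩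
  have hk : CharP (AlgebraicClosure F) 3 :=
    charP_of_injective_ringHom (algebraMap F (AlgebraicClosure F)).injective 3
  have hC := h.core
  have hten := h.ge
  -- `|F| ^ s = |K|`
  obtain ⟨s, hs, hFs⟩ := card_pow_eq (F := F) 3 (a := 2 * l + 1) (by omega)
    (pow_eq_of_no_subfield hC.absIrred hC.no_subfield 3 _ fun g hg => by
      rw [← hK]
      exact (ree_both hC.absIrred hC.perfect hl hK e hg).1)
  have hF := Fintype.ofFinite F
  obtain ⟨f, hf0, hf⟩ := FiniteField.card F 3
  have hF3 : Nat.card F = 3 ^ (f : ℕ) := by rw [Nat.card_eq_fintype_card, hf]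
  have hfs : (f : ℕ) * s = 2 * l + 1 := by
    rw [hF3, ← pow_mul] at hFs
    exact Nat.pow_right_injective (show 2 ≤ 3 by norm_num) hFs
  have hn := h.lt_of (hFs.trans hK.symm) hlt
  -- `s = 1`
  by_cases hs1 : s = 1
  · have h7 := Cfsg.Agent.H708.ReeSix.ree_eq_seven hC hl hK e (by rw [Fintype.card_fin]; omega)
    rw [Fintype.card_fin] at h7
    omega
  have hs3 : 3 ≤ s := by
    have hodd : Odd (f * s : ℕ) := ⟨l, by rw [hfs]⟩
    have := (Nat.odd_mul.1 hodd).2
    obtain ⟨b, hb⟩ := this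
    omega
  -- the coefficient
  obtain ⟨θ, c⟩ := exists_ctx hK
  obtain ⟨j⟩ := H141.ReeK.exists_emb F hK
  obtain ⟨φ, v, ψ, r, hφ, hinj, hr1, hr2, hψv, hU, hT, hψU, hψn, -, hker⟩ := core_coef hC hl hK e c j
  have hv : v ≠ 0 := by
    rintro rfl
    rw [map_zero] at hψv
    exact zero_ne_one hψv
  -- `r = t (1 + q + ...)`
  have hper := period hC hK c j hφ hv hU hT
  have hq3 : 3 ^ 1 ≤ 3 ^ (f : ℕ) := Nat.pow_le_pow_right (by norm_num) f.pos
  have hGm := Gm_mul f s
  rw [hfs] at hGm
  obtain ⟨t, ht⟩ : Gm f s ∣ r := by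
    rw [hK, hF3] at hper
    have h1 : 3 ^ (2 * l + 1) - 1 = Gm f s * (3 ^ (f : ℕ) - 1) := by omega
    rw [h1] at hper
    exact Nat.dvd_of_mul_dvd_mul_right (by omega) hper
  have ht1 : 1 ≤ t := by
    rcases Nat.eq_zero_or_pos t with rfl | h1
    · rw [mul_zero] at ht; omega
    · exact h1
  have ht2 : t ≤ 3 ^ (f : ℕ) - 1 := by
    have h1 : Gm f s * t ≤ Gm f s * (3 ^ (f : ℕ) - 1) := by
      rw [← ht]
      rw [hK] at hr2
      omega
    exact Nat.le_of_mul_le_mul_left h1 (Gm_pos (by omega))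
  rw [mul_comm] at ht
  have hfr : Module.finrank (AlgebraicClosure F) (Fin n → AlgebraicClosure F) = n := by
    rw [Module.finrank_fintype_fun_eq_card, Fintype.card_fin]
  rcases per_le (V := Fin n → AlgebraicClosure F) j hl hK hfs ht1 ht2
    (f := fun t u w => ψ.comp (lin (acRep φ) (Data.U K (3 ^ l) t u w)))
    (w := fun t u w => lin (acRep φ) (Data.N c * Data.U K (3 ^ l) t u w * Data.N c) v)
    (by rw [← ht]; exact hker) with h4 | h4
  · rw [hfr] at h4
    have := four_mul_le hs3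
    omega
  · rw [hfr, hK, ← hfs] at h4
    by_cases hs4 : 4 ≤ s
    · have h5 := three_mul_le hs4
      have h6 : 3 ^ s ≤ 3 ^ ((f : ℕ) * s) := Nat.pow_le_pow_right (by norm_num) (Nat.le_mul_of_pos_left _ f.pos)
      omega
    · have hs3' : s = 3 := by omega
      subst hs3'
      by_cases hf1 : (f : ℕ) = 1
      · -- `|K| = 27`
        rw [hf1] at hfs ht ht2
        have hl1 : l = 1 := by omega
        subst hl1
        have hG13 : Gm 1 3 = 13 := by decide
        rw [hG13] at ht
        have h2k : (2 : AlgebraicClosure F) ≠ 0 := by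
          intro h0
          have h1 : ((2 : ℕ) : AlgebraicClosure F) = 0 := by exact_mod_cast h0
          rw [CharP.cast_eq_zero_iff (AlgebraicClosure F) 3] at h1
          omega
        have hfin : Finite ↥(twistedG2 K (3 ^ 1)) := finite (Data.data c)
        have ht12 : t = 1 ∨ t = 2 := by
          norm_num at ht2
          omega
        rcases ht12 with rfl | rfl
        · -- exponent 13
          rw [one_mul] at ht
          subst ht
          have h27 := ng_ge c j hK hT hker
          set z := Data.T c (-1) with hz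
          have hzz : z * z = 1 := negone_sq c
          have hz1 : z ≠ 1 := by
            intro h1
            have h5 := hT (-1)
            rw [← hz, h1, map_one, Module.End.one_apply, dd_neg_one, map_neg, map_one] at h5
            have h6 : v = -v := by
              refine h5.trans ?_
              norm_num
            have h7 : (2 : AlgebraicClosure F) • v = 0 := by
              rw [two_smul]
              nth_rewrite 2 [h6]
              exact add_neg_cancel v
            exact hv ((smul_eq_zero.1 h7).resolve_left h2k)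
          have h2g : IsPGroup 2 (Subgroup.zpowers z) := by
            apply IsPGroup.of_card (n := 1)
            rw [Nat.card_zpowers, orderOf_eq_prime (p := 2) (by rw [pow_two, hzz]) hz1, pow_one]
          obtain ⟨S, hS⟩ := h2g.exists_le_sylow
          have hzS : z ∈ (S : Subgroup ↥(twistedG2 K (3 ^ 1))) := hS (Subgroup.mem_zpowers z)
          obtain ⟨a, haH, ha1, ha2⟩ := Cfsg.Agent.S1157.exists_involution hK
          obtain ⟨h8, -⟩ := (Cfsg.Agent.S1152.result hK a haH ha1 ha2).2 S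
          obtain ⟨g, hgS, hg7, hfix⟩ := Cfsg.Agent.H708.ReeSix.ree_data' (by norm_num) hK S
          have hz'S := hgS z hzS
          have hz'1 : g⁻¹ * z * g ≠ 1 := by
            intro h1
            apply hz1
            have h5 : z = g * (g⁻¹ * z * g) * g⁻¹ := by group
            rw [h5, h1]
            group
          have hzz'1 : z * (g⁻¹ * z * g) ≠ 1 := by
            intro h1
            apply hz1
            apply hfix z hzS
            have h5 : z⁻¹ = z := inv_eq_of_mul_eq_one_left hzz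
            have h6 : g⁻¹ * z * g = z⁻¹ := eq_inv_of_mul_eq_one_right h1
            rw [h6, h5]
          obtain ⟨x, hx⟩ := exists_conj h8 hgS hg7 hfix hzS hz1 (mul_mem hzS hz'S) hzz'1
          have h5 := ng_three (ρ := lin (acRep φ)) h2k (z := z) (z' := g⁻¹ * z * g) 27 h27
            (h27.trans ng_conj_le) (by rw [hx]; exact h27.trans ng_conj_le)
          rw [hfr] at h5
          omega
        · -- exponent 26
          have hcard : Nat.card (uSub (Data.data c)) = 27 ^ 3 := by rw [card_uSub, hK]; norm_num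
          have h5 := steinberg_le (ree_sp1 hK (Data.data c)) (ρ := lin (acRep φ)) (v := v) (ψ := ψ)
            (by rintro _ ⟨t, u, w, rfl⟩; exact hU t u w)
            (by
              rintro _ ⟨α, rfl⟩
              rw [hT, ht, ← map_pow]
              have h6 : c.dd α ^ (2 * 13) = 1 := by
                have := FiniteField.pow_card_sub_one_eq_one _ (c.dd_ne α)
                rw [hK] at this
                norm_num at this
                exact this
              rw [h6, map_one, one_smul])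
            (by
              rintro _ ⟨t, u, w, rfl⟩ x
              rw [(Data.data c).n_inv]
              exact hψU t u w x) hψv hψn
          rw [hcard, hfr] at h5
          omega
      · have hf2 : 2 ≤ (f : ℕ) := by
          have := f.pos
          omega
        have h6 : 3 ^ (2 * 3) ≤ 3 ^ ((f : ℕ) * 3) := Nat.pow_le_pow_right (by norm_num) (by omega)
        norm_num at h6
        omega

theorem not_ree [CharP F 3] (h : Tc m P) (hl : 1 ≤ l) (hK : Fintype.card K = 3 ^ (2 * l + 1))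
    (e : Soc P ≃* ↥(twistedG2 K (3 ^ l))) : False := by
  have h3p : Fact (Nat.Prime 3) := ⟨Nat.prime_three⟩
  have hT := H47.Fd.fd_ree hl hK
  have hD := dg_ree hK
  rcases (h.le_of_dg e hT ⟨_, by omega, hK⟩ (by norm_num) hD).eq_or_lt with heq | hlt
  swap
  · exact not_ree_lt h hl hK hlt e
  obtain ⟨a, ha, hF⟩ := Ti.exists_exp F 3
  rw [hK] at hD
  rw [hK, hF, ← pow_mul, ← pow_mul] at heq
  have ham : a * m = (2 * l + 1) * 6 := Nat.pow_right_injective (by norm_num : 2 ≤ 3) heq
  have h6 := h.six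
  obtain ⟨r, hr, h3, h4, h5, h7⟩ := h.ppd (k := (2 * l + 1) * 3) Nat.prime_three hF (by omega) (by omega)
    ⟨2, by rw [ham]; ring⟩ fun h3 => by
      have h4 := Nat.mul_le_mul (Nat.le_of_dvd ha h3) h6
      omega
  have h8 := Nat.le_of_dvd (by have := hr.two_le; omega) h5
  have h9 := hr.two_le
  have h10 := h.dvd_card e Nat.prime_three hT hD hr (by omega) (fun h10 => by have := Nat.le_of_dvd (by omega) h10; omega)
    (by omega) h3
  rw [Cfsg.Agent.LieRecognition.ReeFinal.card hK, hr.dvd_mul, hr.dvd_mul, h4] at h10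
  rcases h10 with (h10 | h10) | h10
  · exact h7 (hr.dvd_of_dvd_pow (hr.dvd_of_dvd_pow h10))
  · have := Nat.le_of_dvd (by omega) h10
    omega
  · refine not_dvd_add hr (by omega) (Nat.one_le_pow _ _ (by positivity)) ?_ h10
    rw [← pow_mul, h4]

end ree

section tf

open Cfsg Cfsg.Geo Matrix
open Cfsg.Agent.H915.LD Cfsg.Agent.H100.Ppd Cfsg.Agent.H905.Md
open Cfsg.Agent.H315.TwF

variable {n : ℕ} {F : Type u} [Field F] [Finite F] {m : ℕ} {P : Subgroup (GL (Fin n) F)}
  {K : Type} [Field K] [Fintype K] {l : ℕ}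

theorem not_2f4_lt [CharP F 2] (h : Tc m P) (hl : 1 ≤ l) (hK : Fintype.card K = 2 ^ (2 * l + 1))
    (hlt : Nat.card F ^ m < Fintype.card K ^ 12) (e : Soc P ≃* ↥(Lie.twistedF4 K (2 ^ l))) : False := by
  have hp2 : Fact (Nat.Prime 2) := ⟨Nat.prime_two⟩
  have hFin : Fintype F := Fintype.ofFinite F
  obtain ⟨φ, -, hker, -⟩ := exists_cover (p := 2) h.core.perfect e (Cfsg.Agent.S1112.result hK hl)
    (fun r hr hr2 => Cfsg.Agent.H67.TwFFourOdd.noPCov_odd hl hK hr hr2) (πG := MonoidHom.id _) Function.surjective_id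
    (by rw [MonoidHom.ker_id]; exact bot_le)
  -- the numbers
  obtain ⟨d, -, hd⟩ := FiniteField.card F 2
  have hq : Nat.card F = 2 ^ (d : ℕ) := by rw [Nat.card_eq_fintype_card, hd]
  set N := 4 * (2 * l + 1) with hN
  obtain ⟨r', hr', hprim, hr'N, hr'2⟩ := Cfsg.Agent.Lib.Zsigmondy.exists_primitive (a := 2) (n := N) le_rfl (by omega)
    (fun h => by omega) (by omega)
  have hr'ne : r' ≠ 2 := fun h => hr'2 (h ▸ dvd_rfl)
  obtain ⟨Q, hQ⟩ : ∃ Q, Q = 2 ^ (2 * l + 1) := ⟨_, rfl⟩
  have hQ1 : 1 ≤ Q := by rw [hQ]; exact Nat.one_le_two_pow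
  have hr'Q : r' ∣ Nat.card K * Nat.card K + 1 := by
    have h1 : r' ∣ 2 ^ N - 1 := (hprim N).2 dvd_rfl
    have h2 : ¬ r' ∣ 2 ^ (2 * (2 * l + 1)) - 1 := fun h3 => by
      have := Nat.le_of_dvd (by omega) ((hprim _).1 h3)
      omega
    rw [Nat.card_eq_fintype_card, hK, ← hQ]
    have h3 : 2 ^ N - 1 = (2 ^ (2 * (2 * l + 1)) - 1) * (Q * Q + 1) := by
      have e1 : 2 ^ N = Q * Q * (Q * Q) := by rw [hQ, hN, ← pow_add, ← pow_add]; congr 1; ring
      have e2 : 2 ^ (2 * (2 * l + 1)) = Q * Q := by rw [hQ, ← pow_add]; congr 1; ring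
      rw [e1, e2]
      obtain ⟨c, hc⟩ : ∃ c, Q * Q = c + 1 := ⟨Q * Q - 1, by
        have : 1 ≤ Q * Q := Nat.one_le_iff_ne_zero.2 (by positivity)
        omega⟩
      rw [hc, Nat.add_sub_cancel]
      apply Nat.sub_eq_of_eq_add
      ring
    rw [h3] at h1
    exact (hr'.dvd_mul.1 h1).resolve_left h2
  -- the bound
  set kk := AlgebraicClosure F with hkk
  have hch : CharP kk 2 := charP_of_injective_algebraMap (algebraMap F _).injective 2
  have hodd : ∀ a : ℕ, ¬ 2 ∣ a → (a : kk) ≠ 0 := fun a ha h0 => ha ((CharP.cast_eq_zero_iff kk 2 a).1 h0)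
  have hbound : 6 * orderOf ((Nat.card F : ℕ) : ZMod r') ≤ n := by
    have h1 := rep_bound (K := K) (m := l) (by exact_mod_cast hodd 5 (by norm_num)) hl hK
      (Cfsg.Agent.H911.lin (acRep φ)) (r := r') ?_ hr' hr'ne hr'Q (hodd r' (fun h => hr'ne
        ((Nat.prime_dvd_prime_iff_eq Nat.prime_two hr').1 h).symm)) (semi_frob φ) ?_
        (fun α h1 h2 => card_Or hr' h1 h2)
    · rwa [Module.finrank_pi, Fintype.card_fin] at h1
    · intro g hg
      have h6 : φ g = 1 := by
        apply Units.ext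
        have h7 : acRep φ g = 1 := by
          have := congrArg LinearMap.toMatrix' hg
          simpa [Cfsg.Agent.H911.lin] using this
        rw [acRep_apply] at h7
        apply Matrix.map_injective (algebraMap F (AlgebraicClosure F)).injective
        refine h7.trans ?_
        ext i j
        simp [Matrix.one_apply, apply_ite (algebraMap F (AlgebraicClosure F))]
      have h8 : g ∈ φ.ker := h6
      have h9 := hker h8
      rwa [MonoidHom.ker_id, Subgroup.mem_bot] at h9
    · intro α hα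
      have h2 : (α - 1) ^ Nat.card F = 0 := by
        rw [hq, sub_pow_char_pow, one_pow, ← hq, hα, sub_self]
      exact sub_eq_zero.1 ((pow_eq_zero_iff (Nat.card_pos (α := F)).ne').1 h2)
  have h1 : N ∣ d * orderOf ((Nat.card F : ℕ) : ZMod r') := by
    rw [← hprim, pow_mul, ← hq, ← ZMod.natCast_eq_zero_iff, Nat.cast_sub (Nat.one_le_pow _ _ Nat.card_pos), Nat.cast_pow,
      pow_orderOf_eq_one, Nat.cast_one, sub_self]
  have h3 : 0 < orderOf ((Nat.card F : ℕ) : ZMod r') := by
    have hfr : Fact r'.Prime := ⟨hr'⟩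
    rw [orderOf_pos_iff, isOfFinOrder_iff_pow_eq_one]
    refine ⟨r' - 1, by have := hr'.one_lt; omega, ZMod.pow_card_sub_one_eq_one ?_⟩
    rw [Ne, ZMod.natCast_eq_zero_iff, hq]
    exact fun h => hr'2 (hr'.dvd_of_dvd_pow h)
  have h4 := Nat.le_of_dvd (Nat.mul_pos d.pos h3) h1
  set t := orderOf ((Nat.card F : ℕ) : ZMod r')
  rw [hq, hK, ← pow_mul, ← pow_mul, Nat.pow_lt_pow_iff_right (by norm_num)] at hlt
  have h5 : m < 3 * t := by
    refine Nat.lt_of_mul_lt_mul_left (a := d) ?_
    rw [mul_left_comm]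
    omega
  have h6 := h.hi
  omega

theorem not_2f4 [CharP F 2] (h : Tc m P) (hl : 1 ≤ l) (hK : Fintype.card K = 2 ^ (2 * l + 1))
    (e : Soc P ≃* ↥(Lie.twistedF4 K (2 ^ l))) : False := by
  have hp2 : Fact (Nat.Prime 2) := ⟨Nat.prime_two⟩
  have hT := H47.Fd.fd_2f4 hl hK
  have hD := dg_2f4 hK
  rcases (h.le_of_dg e hT ⟨_, by omega, hK⟩ (by norm_num) hD).eq_or_lt with heq | hlt
  swap
  · exact not_2f4_lt h hl hK hlt e
  obtain ⟨a, ha, hF⟩ := Ti.exists_exp F 2
  rw [hK] at hD
  rw [hK, hF, ← pow_mul, ← pow_mul] at heq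
  have ham : a * m = (2 * l + 1) * 12 := Nat.pow_right_injective le_rfl heq
  have h6 := h.six
  obtain ⟨r, hr, h3, h4, h5, h7⟩ := h.ppd (k := (2 * l + 1) * 3) Nat.prime_two hF (by omega) (by omega)
    ⟨4, by rw [ham]; ring⟩ fun h3 => by
      have h4 := Nat.mul_le_mul (Nat.le_of_dvd ha h3) h6
      omega
  have h9 := hr.two_le
  have h8 : (2 * l + 1) * 3 * 2 ≤ r - 1 := by
    refine Nat.le_of_dvd (by omega) (Nat.Coprime.mul_dvd_of_dvd_of_dvd ?_ h5 ?_)
    · exact Nat.coprime_two_right.2 ⟨3 * l + 1, by ring⟩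
    · obtain ⟨x, hx⟩ := hr.odd_of_ne_two fun e2 => h7 (e2 ▸ dvd_rfl)
      omega
  have h10 := h.dvd_card e Nat.prime_two hT hD hr (by omega) (fun h10 => by have := Nat.le_of_dvd (by omega) h10; omega)
    (by omega) h3
  have key : ∀ i, r ∣ (2 ^ (2 * l + 1)) ^ i - 1 ↔ 3 ∣ i := fun i => by
    rw [← pow_mul, h4, Nat.mul_dvd_mul_iff_left (by omega)]
  rw [Cfsg.Agent.S1068.result hK, hr.dvd_mul, hr.dvd_mul, hr.dvd_mul, hr.dvd_mul, key, h4] at h10
  rcases h10 with (((h10 | h10) | h10) | h10) | h10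
  · exact h7 (hr.dvd_of_dvd_pow (hr.dvd_of_dvd_pow h10))
  · have := Nat.le_of_dvd (by omega) h10
    omega
  · exact not_dvd_add hr (by omega) (Nat.one_le_pow _ _ (by positivity)) ((key 3).2 dvd_rfl) h10
  · omega
  · exact not_dvd_add hr (by omega) (Nat.one_le_pow _ _ (by positivity)) ((key 6).2 (by norm_num)) h10

end tf

end Cfsg.Agent.SM.Ti.Lo
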