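import Cfsg.Agent.SM.Ti.Deg
import Cfsg.Agent.H762.Ppd.Psu
import Cfsg.Agent.H525.Ppd.UMain
import Cfsg.Agent.H269.Ppd.PsuFour

/-!
# S3570, tight cores: unitary socles (helper69; below the borderline the proofs are those of TEAM PPD)

**`nat_psu`**.
-/

set_option autoImplicit false
set_option linter.unusedSectionVars false
set_option linter.style.haveILetI false

namespace Cfsg.Agent.SM.Ti.Lo

universe u

section aux

open CoxeterSystem Cfsg.Agent.ChevalleyStructure.CoxeterGeom Cfsg.Agent.Tits.Roots Cfsg.Agent.Tits.Core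
  Cfsg.Agent.Nodes.Reps Cfsg.Agent.Nodes.BNOf Cfsg.Agent.Nodes.Bruhat Cfsg.Agent.Nodes.RGDLib
open Cfsg.Agent.Nodes Cfsg.Agent.Nodes.WittRoot Cfsg.Agent.Nodes.WittRGD Cfsg.Agent.Nodes.WittAll Cfsg.Agent.Nodes.WittU
open Cfsg.Agent.Nodes.TypeC (isCartan)
open Cfsg.Agent.LieClassical.HermBasic Cfsg.Agent.LieClassical.HermSiegel
open Cfsg.Agent.TitsThree.Siegel Cfsg.Agent.TitsThree.SiegelGen Cfsg.Agent.TitsThree.WittFrame Cfsg.Agent.TitsThree.FrameCN
  Cfsg.Agent.TitsThree.WBridge Cfsg.Agent.TitsThree.KSideU Cfsg.Agent.TitsThree.KSideUDesc Cfsg.Agent.TitsThree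
open Cfsg.Agent.H915.LD Cfsg.Agent.H911 Cfsg.Agent.H905.Md Cfsg.Agent.H925.Nat Cfsg.Agent.Nodes.RGDLift
open Cfsg.Agent.H156.Ppd (Cov lrep exists_cov)
open Cfsg.Agent.Omega.CR Cfsg.Agent.Omega.FOne.Lift.Sd
open Cfsg.Agent.H948.Ppd
open Cfsg.Agent.H61.SUCross Cfsg.Agent.H48.NatSU
open Cfsg.Agent.H100.Ppd (Nat')
open Cfsg Cfsg.Geo
open scoped MatrixGroups Matrix
open Cfsg.Agent.H762.Ppd

variable {n : ℕ} {F : Type u} [Field F] [Finite F] {m : ℕ} {P : Subgroup (GL (Fin n) F)}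
  {K : Type} [Field K] [Fintype K] {N q : ℕ} (p : ℕ) [hp : Fact p.Prime] [hFp : CharP F p] [hKp : CharP K p]
include hp hFp hKp

theorem nat_psu_aux (h : Tc m P) (hN : 6 ≤ N) (hK : Fintype.card K = q ^ 2) (e : Soc P ≃* PSU N K q)
    (hlt : Nat.card F ^ m < Fintype.card K ^ (2 * ((N - 1) / 2) + 1))
    (hseven : ∀ (hN : 3 ≤ N) (W : WFrame (PU hK N) 3) (d : Fin N → K), N = 7 → hermForm N K q d d = 1 →
      W.V0 = Submodule.span K {d} → ∀ φ₀ : SU N K q →* GL (Fin n) F, φ₀.range = P → Nat.card F ^ 2 = q ^ 2 →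
      (2 : Fin 3) ∉ Jx (CoxeterMatrix.B 3).toCoxeterSystem (isCartan 3) (WittModel.X (modelSU hK hN W)) (lrep φ₀) →
      56 ≤ n) : Nat' P := by
  have hC := h.core
  have hN3 : 3 ≤ N := by omega
  obtain ⟨r, hr⟩ : ∃ r, N = 2 * r ∨ N = 2 * r + 1 := ⟨N / 2, by omega⟩
  have hr3 : 3 ≤ r := by omega
  have hNo : 2 * ((N - 1) / 2) + 1 = 2 * r - 1 ∨ 2 * ((N - 1) / 2) + 1 = 2 * r + 1 := by omega
  obtain ⟨W, hW, hW'⟩ : ∃ W : WFrame (PU hK N) r, Kind W ∧
      (N = 2 * r + 1 → ∃ d : Fin N → K, hermForm N K q d d = 1 ∧ W.V0 = Submodule.span K {d}) := by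
    rcases hr with hr | hr
    · obtain ⟨W, hW⟩ := exists_wframe_even hK hr
      exact ⟨W, Or.inl hW, fun h => by omega⟩
    · obtain ⟨W, d, hd, hW⟩ := exists_wframe_odd hK hr
      exact ⟨W, Or.inr ⟨d, hd, hW⟩, fun _ => ⟨d, hd, hW⟩⟩
  have hWf : Finite (CoxeterMatrix.B r).Group := TypeC.finite_W (CoxeterMatrix.B r).toCoxeterSystem
  have := finite_GL (K := K) (ν := Fin N)
  obtain ⟨p0, hp0, -⟩ := exists_adm hK W
  have hA : AmbT (toFrame W) p (modelSU hK hN3 W).I := AmbT.of_amb (amb_U hK W) p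
  obtain ⟨φ₀, hφ₀, C⟩ := exists_covSU' (hN := hN3) (W := W) hC (by omega) (by omega) (hA := hA) hp0 e
  have hT : ∀ s ∈ (TB (modelSU hK hN3 W)).comap (MonoidHom.id (modelSU hK hN3 W).I),
      ∀ t ∈ (TB (modelSU hK hN3 W)).comap (MonoidHom.id (modelSU hK hN3 W).I), s * t = t * s :=
    fun s hs t ht => comm_SU hW s hs t ht
  have hpow : ∀ t ∈ (TB (modelSU hK hN3 W)).comap (MonoidHom.id (modelSU hK hN3 W).I), t ^ Nat.card K = t :=
    fun t ht => pow_SU hW t ht
  -- the order of the field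
  obtain ⟨c, -, hc⟩ := FiniteField.card K p
  rw [← Nat.card_eq_fintype_card] at hc
  obtain ⟨j, hj, hjK⟩ := C.exists_j hC hT (a := c) c.ne_zero (by rw [← hc]; exact hpow)
  rw [← hc] at hjK
  have hjq : Nat.card F ^ j = q ^ 2 := by rw [hjK, Nat.card_eq_fintype_card, hK]
  have hnlt : n < 2 * (j * (2 * ((N - 1) / 2) + 1)) := h.lt_of (hjq.trans hK.symm) hlt
  have hnlt' : n < 2 * (j * (2 * r + 1)) := by
    refine hnlt.trans_le (Nat.mul_le_mul_left _ (Nat.mul_le_mul_left _ (by omega)))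
  obtain ⟨hirr, hD⟩ := irr_B hC C hT
  have hne := hC.nonempty
  have hchar : CharP (AlgebraicClosure F) p := charP_of_injective_algebraMap (algebraMap F _).injective p
  -- the edges
  have hedge : ∀ i : Fin r, (i : ℕ) + 1 < r →
      i ∉ JB (modelSU hK hN3 W) p (MonoidHom.id (modelSU hK hN3 W).I) (φ₀.comp (modelSU hK hN3 W).φ) →
      ∃ m, 2 ≤ m ∧ dB (modelSU hK hN3 W) p (MonoidHom.id (modelSU hK hN3 W).I) (φ₀.comp (modelSU hK hN3 W).φ) i = m ^ j := by
    intro i hi hiJ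
    obtain ⟨σ, -, N₁, -⟩ := exists_ndI hp0 C hi (by
      intro e
      have := congrArg Fin.val e
      simp only at this
      omega)
    exact edge_pow_B hC C hT hiJ (⟨N₁.up, N₁.lo, N₁.tor⟩ : Nd _ _ i σ) hjK.symm
  by_cases hmid : ∃ i : Fin r, i ∉ JB (modelSU hK hN3 W) p (MonoidHom.id (modelSU hK hN3 W).I)
      (φ₀.comp (modelSU hK hN3 W).φ) ∧ 1 ≤ (i : ℕ) ∧ (i : ℕ) + 1 < r
  · exfalso
    obtain ⟨i, hi, hi1, hi2⟩ := hmid
    have hd := hedge i hi2 hi
    have hb := bound_all hC C hT hi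
    rw [Fintype.card_fin] at hb
    rcases Nat.lt_or_ge 3 r with hr4 | hr4
    · exact Ar.mid hr4 hj hnlt' hd hi1 hi2 hb
    · obtain rfl : r = 3 := by omega
      have hi1' : (i : ℕ) = 1 := by omega
      rw [hi1'] at hb
      have hb' : 12 * dB (modelSU hK hN3 W) p (MonoidHom.id (modelSU hK hN3 W).I) (φ₀.comp (modelSU hK hN3 W).φ) i ≤
          2 * n := by
        have e1 : Nat.choose 3 (1 + 1) * 2 ^ (1 + 1) = 12 := by decide
        rwa [e1] at hb
      rcases hr with hr | hr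
      · have e2 : 2 * ((N - 1) / 2) + 1 = 5 := by omega
        rw [e2] at hnlt
        exact Ar.mid_six hj hnlt hd hb'
      · have e2 : 2 * ((N - 1) / 2) + 1 = 7 := by omega
        rw [e2] at hnlt
        have h3 := Low.b3_mid C.rgd hirr rfl hi1' hi
        have h4 := finrank_Io C.rgd hirr i
        rw [hD, Module.finrank_fintype_fun_eq_card, Fintype.card_fin, mul_one] at h3
        rw [hD] at h4
        have hj1 := Ar.mid_seven hj hnlt hd hb' h4 h3
        subst hj1
        by_cases h0 : (0 : Fin 3) ∈ JB (modelSU hK hN3 W) p (MonoidHom.id (modelSU hK hN3 W).I)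
          (φ₀.comp (modelSU hK hN3 W).φ)
        · obtain rfl : i = 1 := Fin.ext hi1'
          obtain ⟨p', f, hp', hch, hqf, hf⟩ := LieClassical.HermBasic.exists_prime_pow hK
          obtain rfl : p' = p := CharP.eq K hch ‹_›
          have hF : Nat.card F = p' ^ (2 * f) := by
            rw [← pow_one (Nat.card F), hjq, hqf, ← pow_mul, mul_comm]
          have h5 := mid_bound_su hC hp0 C hT hi h0 hF hqf (Nat.gcd_eq_right (Dvd.intro_left 2 rfl))
          rw [Fintype.card_fin] at h5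
          omega
        · have h5 := Low.b3_01 C.rgd hirr rfl (i := 0) (j := i) rfl hi1' h0 hi
          rw [hD, Module.finrank_fintype_fun_eq_card, Fintype.card_fin] at h5
          omega
  have hends : ∀ i : Fin r, i ∉ JB (modelSU hK hN3 W) p (MonoidHom.id (modelSU hK hN3 W).I)
      (φ₀.comp (modelSU hK hN3 W).φ) → (i : ℕ) = 0 ∨ (i : ℕ) + 1 = r := by
    intro i hi
    by_contra hcon
    have := i.2
    exact hmid ⟨i, hi, by omega, by omega⟩
  by_cases h0 : (⟨0, by omega⟩ : Fin r) ∈ JB (modelSU hK hN3 W) p (MonoidHom.id (modelSU hK hN3 W).I)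
      (φ₀.comp (modelSU hK hN3 W).φ)
  · -- the last node
    exfalso
    have hJ : ∀ i, i ∉ JB (modelSU hK hN3 W) p (MonoidHom.id (modelSU hK hN3 W).I)
        (φ₀.comp (modelSU hK hN3 W).φ) → i = ⟨r - 1, by omega⟩ := by
      intro i hi
      rcases hends i hi with h1 | h1
      · exact absurd h0 (by
          have : i = ⟨0, by omega⟩ := Fin.ext h1
          rwa [this] at hi)
      · exact Fin.ext (by simp only; omega)
    obtain ⟨i, hi⟩ := exists_node hC C hT
    have hi' := hJ i hi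
    rw [hi'] at hi
    obtain ⟨p', f, hp', hch, hqf, hf⟩ := LieClassical.HermBasic.exists_prime_pow hK
    obtain rfl : p' = p := CharP.eq K hch ‹_›
    have := Fintype.ofFinite F
    obtain ⟨a, -, ha⟩ := FiniteField.card F p'
    rw [← Nat.card_eq_fintype_card] at ha
    have hs : f / Nat.gcd a f * Nat.gcd a f = f := Nat.div_mul_cancel (Nat.gcd_dvd_right _ _)
    set s := f / Nat.gcd a f with hsdef
    have haj : (a : ℕ) * j = 2 * f := by
      have h1 : p' ^ ((a : ℕ) * j) = p' ^ (2 * f) := by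
        rw [pow_mul, ← ha, hjq, hqf, ← pow_mul, mul_comm]
      exact Nat.pow_right_injective hp'.two_le h1
    have hjs : j ≤ 2 * s := by
      have h1 : Nat.gcd a f ≤ a := Nat.gcd_le_left _ a.pos
      have h2 : (a : ℕ) * j ≤ a * (2 * s) := by
        rw [haj]
        calc 2 * f = 2 * (s * Nat.gcd a f) := by rw [hs]
          _ ≤ 2 * (s * a) := Nat.mul_le_mul_left _ (Nat.mul_le_mul_left _ h1)
          _ = a * (2 * s) := by ring
      exact Nat.le_of_mul_le_mul_left h2 a.pos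
    have h5 := last_bound hC hp0 C hT hr3 (by simp only; omega) hi hJ ha hqf hs
    rw [Fintype.card_fin] at h5
    obtain ⟨h6, h7, h8⟩ := Ar.last hr3 hj hNo hnlt hjs h5
    subst h6
    obtain ⟨d, hd, hV0⟩ := hW' (by omega)
    have h9 := hseven hN3 W d (by omega) hd hV0 φ₀ hφ₀ (by rw [h8] at hjq; exact hjq) (not_mem_witt hC hp0 C hT hi)
    rw [h7, h8] at hnlt
    omega
  · -- the first node
    obtain ⟨ε, hε, h3⟩ := bound_first hC C hT (by omega) rfl h0
    rw [Fintype.card_fin] at h3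
    obtain ⟨hj1, hd2⟩ := Ar.first hr3 hj hnlt' (hedge _ (by simp only; omega) h0) hε h3
    subst hj1
    by_cases hl : (⟨r - 1, by omega⟩ : Fin r) ∈ JB (modelSU hK hN3 W) p (MonoidHom.id (modelSU hK hN3 W).I)
      (φ₀.comp (modelSU hK hN3 W).φ)
    · obtain ⟨τ, θ, hθ⟩ := identify_B hC hA hp0 (by omega) (span_IU hK hN3) C hT (o := ⟨0, by omega⟩) rfl
        (fun i hi => by
          rcases hends i hi with h1 | h1
          · exact Fin.ext h1
          · exact absurd hl (by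
              have : i = ⟨r - 1, by omega⟩ := Fin.ext (by simp only; omega)
              rwa [this] at hi)) hd2
      exact nat_of_ident hK τ θ hθ
    · exfalso
      rcases Nat.lt_or_ge 4 r with hr5 | hr5
      · obtain ⟨ε', -, h4⟩ := bound_last hC C hT (i := ⟨r - 1, by omega⟩) (by simp only; omega) hl
        rw [Fintype.card_fin] at h4
        have h5 := Ar.pow_five hr5
        omega
      · rcases Nat.lt_or_ge 3 r with hr4 | hr4
        · obtain rfl : r = 4 := by omega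
          have h5 := Low.b4_03 C.rgd hirr rfl (i := ⟨0, by omega⟩) (j := ⟨4 - 1, by omega⟩) rfl rfl h0 hl
          rw [hD, Module.finrank_fintype_fun_eq_card, Fintype.card_fin] at h5
          omega
        · obtain rfl : r = 3 := by omega
          have h5 := Low.b3_02 C.rgd hirr rfl (i := ⟨0, by omega⟩) (j := ⟨3 - 1, by omega⟩) rfl rfl h0 hl
          rw [hD, Module.finrank_fintype_fun_eq_card, Fintype.card_fin] at h5
          omega

end aux

section main

open Cfsg Cfsg.Geo Matrix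
open Cfsg.Agent.H915.LD
open Cfsg.Agent.H100.Ppd (Nat')
open Cfsg.Agent.LieClassical.HermBasic (two_le)

variable {n : ℕ} {F : Type u} [Field F] [Finite F] {m : ℕ} {P : Subgroup (GL (Fin n) F)}
  {K : Type} [Field K] [Fintype K] {N q : ℕ} (p : ℕ) [hp : Fact p.Prime] [hFp : CharP F p] [hKp : CharP K p]
include hp hFp hKp

theorem not_psu3 (h : Tc m P) (hK : Fintype.card K = q ^ 2) (h2 : q ≠ 2) (e : Soc P ≃* PSU 3 K q)
    (hlt : Nat.card F ^ m < Fintype.card K ^ 3) : False := by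
  have hq2 := two_le hK
  obtain ⟨j, -, hj, hb⟩ := H525.Ppd.core_bound p h.core (by omega) hK e
  rw [Fintype.card_fin] at hb
  have h1 := Tc.lt_of' (hj.trans hK.symm) hlt
  have h3 := h.hi
  have h4 := h.six
  omega

theorem not_psu4 (h : Tc m P) (hK : Fintype.card K = q ^ 2) (e : Soc P ≃* PSU 4 K q)
    (hlt : Nat.card F ^ m < Fintype.card K ^ 3) : False := by
  have hten := h.ge
  have hne := h.core.nonempty
  have hq2 := two_le hK
  obtain ⟨N, hN1, hN⟩ := H269.Ppd.exists_card_pow h.core p (M := 4) (by norm_num) (by omega) hK e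
  have hb := H269.Ppd.core_bound4 p h.core hK e hN (by rw [Fintype.card_fin]; omega)
  rw [Fintype.card_fin] at hb
  have hk := h.lt_of (hN.trans hK.symm) hlt
  rcases hb with hb | ⟨s, hs1, hsN, h4, h25, h14⟩
  · have := H269.Ppd.bound_A N (by omega)
    omega
  · by_cases hs3 : 3 ≤ s
    · have := H269.Ppd.bound_B s hs3
      rcases hsN with h5 | h5 <;> omega
    · have hs : s = 1 ∨ s = 2 := by omega
      rcases hs with rfl | rfl
      · have := h14 rfl
        rcases hsN with h5 | h5 <;> omega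
      · have := h25 rfl
        rcases hsN with h5 | ⟨h5, h6⟩
        · omega
        · exact h6 (dvd_refl _)

theorem not_psu5 (h : Tc m P) (hK : Fintype.card K = q ^ 2) (e : Soc P ≃* PSU 5 K q)
    (hlt : Nat.card F ^ m < Fintype.card K ^ 5) : False := by
  obtain ⟨j, -, hj, hb⟩ := H69.Ppd.core_five p h.core hK e
  rw [Fintype.card_fin] at hb
  have h1 := Tc.lt_of' (hj.trans hK.symm) hlt
  have h3 := h.hi
  have h4 := h.six
  omega

theorem nat_psu6 (h : Tc m P) (hN : 6 ≤ N) (hK : Fintype.card K = q ^ 2) (e : Soc P ≃* PSU N K q)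
    (hlt : Nat.card F ^ m < Fintype.card K ^ (2 * ((N - 1) / 2) + 1)) : Nat' P := by
  refine nat_psu_aux p h hN hK e hlt ?_
  intro hN3 W d h7 hd hV0 φ₀ hφ₀ hj hJ
  subst h7
  have hne := h.core.nonempty
  have h1 := H69.Ppd.seven_last hN3 W (Or.inr ⟨d, hd, hV0⟩) hφ₀ h.core.absIrred (i := 2) (by decide) hd hV0 hJ hj
  rwa [Fintype.card_fin] at h1

omit hp hFp hKp in
/-- a prime modulo which `q` has odd order `d > N / 2` does not divide the order of `PSU_N(q)` -/
theorem not_dvd_psu (hK : Fintype.card K = q ^ 2) (hN : 2 ≤ N) {r d : ℕ} (hr : r.Prime) (h2 : r ≠ 2) (hq : ¬ r ∣ q)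
    (hd : Odd d) (hNd : N < 2 * d) (h : ∀ i, r ∣ q ^ i - 1 ↔ d ∣ i) : ¬ r ∣ Nat.card (PSU N K q) := by
  intro hd0
  have hq2 := two_le hK
  have h1 := S0280.result hK N hN
  have h3 : r ∣ Nat.gcd N (q + 1) * ((q + 1) * Nat.card (PSU N K q)) := (hd0.mul_left _).mul_left _
  rw [h1] at h3
  rcases hr.dvd_mul.1 h3 with h4 | h4
  · exact hq (hr.dvd_of_dvd_pow h4)
  obtain ⟨i, hi, h5⟩ := (Prime.dvd_finsetProd_iff hr.prime _).1 h4
  rw [Finset.mem_range] at hi
  have hc : d.Coprime 2 := Nat.coprime_two_right.2 hd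
  split_ifs at h5 with he
  · have h6 := (h _).2 (hc.dvd_of_dvd_mul_left ((h _).1 (h5.trans (add_dvd_sub q (i + 1)))))
    have h7 := Nat.dvd_sub h5 h6
    have h8 : 1 ≤ q ^ (i + 1) := Nat.one_le_pow _ _ (by omega)
    rw [show q ^ (i + 1) + 1 - (q ^ (i + 1) - 1) = 2 by omega] at h7
    exact h2 ((Nat.prime_dvd_prime_iff_eq hr Nat.prime_two).1 h7)
  · have h6 : 2 ∣ i + 1 := by
      rw [Nat.not_even_iff_odd] at he
      exact he.add_one.two_dvd
    have h7 := Nat.le_of_dvd (by omega) (hc.mul_dvd_of_dvd_of_dvd ((h _).1 h5) h6)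
    omega

/-- the borderline -/
theorem not_psu_eq (h : Tc m P) (hK : Fintype.card K = q ^ 2) (hN : 3 ≤ N) (h32 : ¬ (N = 3 ∧ q = 2))
    (e : Soc P ≃* PSU N K q) (heq : Nat.card F ^ m = Fintype.card K ^ (2 * ((N - 1) / 2) + 1)) : False := by
  have hq2 := two_le hK
  obtain ⟨f, rfl⟩ := H525.Ppd.exists_exp (p := p) hK
  obtain ⟨a, ha, hF⟩ := exists_exp F p
  have hf : 0 < f := Nat.pos_of_ne_zero (by rintro rfl; simp at hq2)
  have hD := dg_psu (K := K) (N := N) (by omega) hK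
  set d := 2 * ((N - 1) / 2) + 1 with hd
  have hd3 : 3 ≤ d := by omega
  have hdo : Odd d := ⟨_, hd⟩
  have h6 := h.six
  rw [hK, ← pow_mul] at hD
  rw [hK, hF, ← pow_mul, ← pow_mul, ← pow_mul] at heq
  have ham : a * m = f * (2 * d) := Nat.pow_right_injective hp.out.two_le heq
  have key : ∀ r : ℕ, r.Prime → 7 ≤ r → ¬ r ∣ f → d < r → ¬ r ∣ p → r ∣ th (Nat.card F) m →
      (∀ i, r ∣ (p ^ f) ^ i - 1 ↔ d ∣ i) → False := fun r hr h7 h1 h2 h3 h4 h5 =>
    not_dvd_psu hK (by omega) hr (by omega) (fun h8 => h3 (hr.dvd_of_dvd_pow h8)) hdo (by omega) h5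
      (h.dvd_card e hp.out (H462.Ppd.fd_psu p hK hN h32) hD hr h7 (fun h8 => (hr.dvd_mul.1 h8).elim h1 fun h9 => by
        have := Nat.le_of_dvd (by norm_num) h9
        omega) h2 h4)
  have h1 : 1 * d ≤ f * d := Nat.mul_le_mul_right _ hf
  have h2 : f * 3 ≤ f * d := Nat.mul_le_mul_left _ hd3
  by_cases hex : p = 2 ∧ f * d = 6
  · obtain ⟨rfl, h3⟩ := hex
    have h4 : d = 3 ∧ f = 2 := by
      have h4 : f = 1 ∨ f = 2 := by omega
      rcases h4 with rfl | rfl <;> omega
    have h5 := (h.seven (by rw [hF]; exact (Nat.even_pow' ha.ne').2 even_two)).1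
    rw [h4.1, h4.2] at ham
    have h7 : a = 1 := by
      by_contra h7
      have : 2 * m ≤ a * m := Nat.mul_le_mul_right _ (by omega)
      omega
    subst h7
    obtain rfl : m = 12 := by omega
    refine key 7 (by norm_num) le_rfl (by rw [h4.2]; norm_num) (by omega) (by norm_num) (by rw [hF]; decide) fun i => ?_
    rw [h4.1, h4.2]
    have h8 : 1 ≤ (2 ^ 2) ^ i := Nat.one_le_pow _ _ (by norm_num)
    rw [← Nat.modEq_iff_dvd' h8, ← Nat.div_add_mod i 3, pow_add, pow_mul, Nat.dvd_add_right (Dvd.intro _ rfl)]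
    have h9 : ((2 ^ 2) ^ 3) ^ (i / 3) * (2 ^ 2) ^ (i % 3) ≡ 1 ^ (i / 3) * (2 ^ 2) ^ (i % 3) [MOD 7] :=
      ((by decide : (2 ^ 2) ^ 3 ≡ 1 [MOD 7]).pow _).mul_right _
    rw [one_pow, one_mul] at h9
    have h10 : i % 3 < 3 := Nat.mod_lt _ (by norm_num)
    refine ⟨fun h11 => ?_, fun h11 => ?_⟩
    · have h12 := h11.trans h9
      generalize i % 3 = x at h10 h12
      interval_cases x
      · exact dvd_zero _
      · exact absurd h12 (by decide)
      · exact absurd h12 (by decide)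
    · rw [Nat.eq_zero_of_dvd_of_lt h11 h10] at h9 ⊢
      exact h9.symm
  · obtain ⟨r, hr, h3, h4, h5, h7⟩ := h.ppd (k := f * d) hp.out hF (by omega) hex ⟨2, by rw [ham]; ring⟩ fun h3 => by
      have h4 := Nat.mul_le_mul_right m (Nat.le_of_dvd ha h3)
      have h5 : f * d * 6 ≤ f * d * m := Nat.mul_le_mul_left _ h6
      have h7 : f * (2 * d) = f * d * 2 := by ring
      omega
    have h8 := Nat.le_of_dvd (by have := hr.two_le; omega) h5
    have h9 := hr.two_le
    refine key r hr ?_ (fun h10 => by have := Nat.le_of_dvd hf h10; omega) (by omega) h7 h3 fun i => ?_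
    · by_contra h10
      have h11 : d ∣ r - 1 := (Dvd.intro_left f rfl).trans h5
      have h12 : r = 4 ∨ r = 5 ∨ r = 6 := by omega
      rcases h12 with rfl | rfl | rfl
      · exact absurd hr (by norm_num)
      · have h13 := Nat.le_of_dvd (by norm_num) h11
        have h14 : d = 3 := by omega
        rw [h14] at h11
        omega
      · exact absurd hr (by norm_num)
    · rw [← pow_mul, h4, Nat.mul_dvd_mul_iff_left hf]

/-- **Unitary socles.** -/
theorem nat_psu (h : Tc m P) (hK : Fintype.card K = q ^ 2) (hN : 3 ≤ N) (h32 : ¬ (N = 3 ∧ q = 2))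
    (e : Soc P ≃* PSU N K q) : Nat' P := by
  have hle := h.le_of_dg e (H462.Ppd.fd_psu p hK hN h32) (Nat.card_eq_fintype_card (α := K) ▸ exists_exp K p) (by omega)
    (dg_psu (by omega) hK)
  rcases hle.eq_or_lt with heq | hlt
  · exact (not_psu_eq p h hK hN h32 e heq).elim
  by_cases h6 : 6 ≤ N
  · exact nat_psu6 p h h6 hK e hlt
  have h3 : N = 3 ∨ N = 4 ∨ N = 5 := by omega
  rcases h3 with rfl | rfl | rfl
  · exact (not_psu3 p h hK (fun h => h32 ⟨rfl, h⟩) e hlt).elim
  · exact (not_psu4 p h hK e hlt).elim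
  · exact (not_psu5 p h hK e hlt).elim

end main

end Cfsg.Agent.SM.Ti.Lo
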