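import Cfsg.Agent.SM.Ti.LoA
import Cfsg.Agent.SM.Ti.LoB
import Cfsg.Agent.SM.Ti.LoD
import Cfsg.Agent.SM.Ti.LoU
import Cfsg.Agent.SM.Ti.LoE
import Cfsg.Agent.SM.Ti.LoG
import Cfsg.Agent.SM.Ti.LoS
import Cfsg.Agent.SM.Ti.A
import Cfsg.Agent.SM.Ti.C
import Cfsg.Agent.SM.Ti.B.Main
import Cfsg.Agent.SM.Ti.Dp
import Cfsg.Agent.SM.Ti.Dm
import Cfsg.Agent.SM.Ti.G
import Cfsg.Agent.SM.Ti.F.Main

/-!
# S3570, tight cores in the defining characteristic: the survivors (helper69, `notes/SM/ti.md`)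

* `Sw p P` : `C₃` in degree 13, `C₄` and `B₄` in degree 16, `F₄` in degree 25;
* **`Tc.sw`** : a tight core in the defining characteristic is natural or a survivor.
-/

set_option autoImplicit false

namespace Cfsg.Agent.SM.Ti

open Cfsg Cfsg.Geo Matrix
open Cfsg.Agent.H915.LD Cfsg.Agent.H100.Ppd

variable {n : ℕ} {F : Type} [Field F] [Finite F] {m : ℕ} {P : Subgroup (GL (Fin n) F)}

/-- **The survivors.** -/
def Sw (p : ℕ) (P : Subgroup (GL (Fin n) F)) : Prop :=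
  ∃ (K : Type) (_ : Field K) (_ : Fintype K) (_ : CharP K p), Fintype.card K = Nat.card F ∧
    ((n = 13 ∧ Nonempty (Soc P ≃* PSp 3 K)) ∨ (n = 16 ∧ p = 2 ∧ (FixA P → FixQ P) ∧ Nonempty (Soc P ≃* PSp 4 K)) ∨
      (n = 16 ∧ Odd (Fintype.card K) ∧ Nonempty (Soc P ≃* POmega K (quadFormOdd 4 K))) ∨
      (n = 25 ∧ Nonempty (Soc P ≃* Lie.chevF4.group K)))

theorem Tc.sw (h : Tc m P) (p : ℕ) [hp : Fact p.Prime] [CharP F p] (hT : IsLieTypeChar p (Soc P)) : Nat' P ∨ Sw p P := by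
  have hx : ∀ (K : Type) [Field K] [Fintype K] [CharP K p], ∃ b, 0 < b ∧ Fintype.card K = p ^ b := fun K _ _ _ =>
    Nat.card_eq_fintype_card (α := K) ▸ exists_exp K p
  rcases hT with hT | hT | hT | hT | hT | hT | hT | hT | hT | hT | hT
  · obtain ⟨K, _, _, _, N, h1, h2, ⟨e⟩⟩ := hT
    rcases (h.le_of_dg e (H462.Ppd.fd_psl p h1 h2) (hx K) (by omega) (dg_psl h1)).eq_or_lt with h3 | h3
    · exact ((A.boxA n m p F K P h N h1 h2 h3).false e).elim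
    · exact Or.inl (Lo.nat_psl p h h1 h2 h3 e)
  · obtain ⟨K, _, _, _, l, h1, h2, ⟨e⟩⟩ := hT
    rcases (h.le_of_dg e (H462.Ppd.fd_psp p h1 h2) (hx K) (by omega) (dg_psp l)).eq_or_lt with h3 | h3
    · obtain ⟨h4, ⟨rfl, h5⟩ | ⟨rfl, h5, h6, h7⟩⟩ := C.boxC n m p F K P h l h1 h2 h3 ⟨e⟩
      · exact Or.inr ⟨K, _, _, ‹_›, h4, Or.inl ⟨h5, ⟨e⟩⟩⟩
      · exact Or.inr ⟨K, _, _, ‹_›, h4, Or.inr (Or.inl ⟨h5, h6, h7, ⟨e⟩⟩)⟩
    · exact Or.inl (Lo.nat_psp p h h1 h2 h3 e)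
  · obtain ⟨K, _, _, _, N, q, h0, h1, h2, ⟨e⟩⟩ := hT
    exact Or.inl (Lo.nat_psu p h h0 h1 h2 e)
  · obtain ⟨K, _, _, _, l, h1, h2, ⟨e⟩⟩ := hT
    obtain ⟨f, hf, hK⟩ := exists_exp K p
    have hodd : Odd p := by
      rw [← Nat.card_eq_fintype_card, hK] at h2
      exact (Nat.odd_pow_iff (by omega)).1 h2
    rcases (h.le_of_dg e (H14.PpdFD2.fd_odd hf hK hodd h1) (hx K) (by omega) (dg_podd h1 h2)).eq_or_lt with h3 | h3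
    · obtain ⟨h4, rfl, h5⟩ := B.boxB n m p F K P h l h1 h2 h3 ⟨e⟩
      exact Or.inr ⟨K, _, _, ‹_›, h4, Or.inr (Or.inr (Or.inl ⟨h5, h2, ⟨e⟩⟩))⟩
    · exact Or.inl (Lo.nat_podd p h h1 h2 h3 e)
  · obtain ⟨K, _, _, _, l, h1, ⟨e⟩⟩ := hT
    obtain ⟨f, hf, hK⟩ := exists_exp K p
    rcases (h.le_of_dg e (H14.PpdFD2.fd_plus hf hK h1) (hx K) (by omega) (dg_pplus h1)).eq_or_lt with h3 | h3
    · exact ((Dp.boxDp n m p F K P h l h1 h3).false e).elim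
    · exact Or.inl (Lo.nat_pplus p h h1 h3 e)
  · obtain ⟨K, _, _, _, l, a, b, h1, h2, ⟨e⟩⟩ := hT
    obtain ⟨f, hf, hK⟩ := exists_exp K p
    rcases (h.le_of_dg e (H14.PpdFD2.fd_minus hf hK h1 h2) (hx K) (by omega) (dg_pminus h1 h2)).eq_or_lt with h3 | h3
    · exact ((Dm.boxDm n m p F K P h l a b h1 h2 h3).false e).elim
    · exact Or.inl (Lo.nat_pminus p h h1 h3 a b h2 e)
  · obtain ⟨K, _, _, _, hT⟩ := hT
    rcases hT with ⟨h1, ⟨e⟩⟩ | ⟨⟨e⟩⟩ | ⟨⟨e⟩⟩ | ⟨⟨e⟩⟩ | ⟨⟨e⟩⟩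
    · rcases (h.le_of_dg e (H47.Fd.fd_g2 p h1) (hx K) (by omega) dg_g2).eq_or_lt with h3 | h3
      · exact ((G.boxG n m p F K P h h1 h3).false e).elim
      · exact (Lo.not_g2 p h h1 h3 e).elim
    · rcases (h.le_of_dg e (H47.Fd.fd_f4 p) (hx K) (by omega) dg_f4).eq_or_lt with h3 | h3
      · obtain ⟨h4, h5⟩ := Ti.F.boxF n m p F K P h h3 ⟨e⟩
        exact Or.inr ⟨K, _, _, ‹_›, h4, Or.inr (Or.inr (Or.inr ⟨h5, ⟨e⟩⟩))⟩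
      · exact (Lo.not_f4 p h h3 e).elim
    · exact (Lo.not_e6 p h e).elim
    · exact (Lo.not_e7 p h e).elim
    · exact (Lo.not_e8 p h e).elim
  · obtain ⟨K, _, _, _, q, hq, ⟨hK, ⟨e⟩⟩ | ⟨hK, ⟨e⟩⟩⟩ := hT
    · exact (Lo.not_2e6 p h hq hK e).elim
    · exact (Lo.not_3d4 p h hq hK e).elim
  · obtain ⟨rfl, K, _, _, l, hl, hK, ⟨e⟩⟩ := hT
    exact (Lo.not_sz h hl hK e).elim
  · obtain ⟨rfl, K, _, _, l, hl, hK, ⟨e⟩⟩ := hT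
    exact (Lo.not_2f4 h hl hK e).elim
  · obtain ⟨rfl, K, _, _, l, hl, hK, ⟨e⟩⟩ := hT
    exact (Lo.not_ree h hl hK e).elim

end Cfsg.Agent.SM.Ti
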